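import Cfsg.Agent.Lib.Sp4Odd.Frame

/-!
The neighbours of the base line do not lie in two orthogonal planes.
-/

set_option autoImplicit false
set_option maxHeartbeats 400000

namespace CfsgLib.Sp4Odd

open Matrix Module

variable {F : Type*} [Field F] [Fintype F]

local notation "M4" => Matrix (Fin 2) (Fin 2) (Matrix (Fin 2) (Fin 2) F)

variable {P : Subgroup (Matrix (Fin 2) (Fin 2) (Matrix (Fin 2) (Fin 2) F))ˣ}

namespace Ctx

variable {C : Ctx P}

theorem mem_of_same {V : Submodule F M4} {A B : M4} (e : Same B A) (hA : A ∈ V) : B ∈ V := by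
  rcases e with rfl | rfl
  exacts [hA, neg_mem hA]

theorem pair_li {A B : M4} (hA : C.InCl A) (hB : C.InCl B) (hne : ¬ Same A B) :
    LinearIndependent F ![A, B] := by
  rw [LinearIndependent.pair_iff]
  intro s r hsr
  by_cases hs : s = 0
  · subst hs
    rw [zero_smul, zero_add] at hsr
    refine ⟨rfl, (smul_eq_zero.1 hsr).resolve_right fun e => ?_⟩
    have := hB.red.sq
    rw [e, mul_zero] at this
    exact one_ne_zero4 this.symm
  exfalso
  have e : A = (-(r / s)) • B := by
    rw [add_eq_zero_iff_eq_neg] at hsr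
    calc A = s⁻¹ • (s • A) := by rw [smul_smul, inv_mul_cancel₀ hs, one_smul]
      _ = (-(r / s)) • B := by rw [hsr, smul_neg, smul_smul, neg_smul, div_eq_inv_mul]
  have h1 := hA.red.ip_self C.hP
  rw [e, ip_smul_left, ip_smul_right, hB.red.ip_self C.hP, mul_one] at h1
  rcases mul_self_eq_one_iff.1 h1 with h | h
  · exact hne (Or.inl (by rw [e, h, one_smul]))
  · exact hne (Or.inr (by rw [e, h, neg_one_smul]))

/-- Two non-proportional class members span any plane containing them. -/
theorem span_pair_eq {V : Submodule F M4} (hV : finrank F V ≤ 2) {A B : M4} (hA : C.InCl A) (hB : C.InCl B)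
    (hne : ¬ Same A B) (hAV : A ∈ V) (hBV : B ∈ V) : Submodule.span F (Set.range ![A, B]) = V := by
  have hli := pair_li hA hB hne
  refine Submodule.eq_of_le_of_finrank_le ?_ ?_
  · rw [Submodule.span_le]
    rintro _ ⟨i, rfl⟩
    fin_cases i
    exacts [hAV, hBV]
  · rw [finrank_span_eq_card hli, Fintype.card_fin]; exact hV

theorem mem_plane_or_perp {g : P} {V W : Submodule F M4}
    (hVW : ∀ A ∈ V, ∀ B ∈ W, ip A B = 0) (hL : ∀ A, C.InL C.tv A → A ∈ V ∨ A ∈ W) {A : M4}
    (hA : C.InL (Sp4Odd.cj g C.tv) A) :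
    A ∈ V.map (cjEquiv g).toLinearMap ∧ (∀ B ∈ W.map (cjEquiv g).toLinearMap, ip A B = 0) ∨
    A ∈ W.map (cjEquiv g).toLinearMap ∧ (∀ B ∈ V.map (cjEquiv g).toLinearMap, ip A B = 0) := by
  have h' := hA.cj g⁻¹
  rw [cj_inv_cj] at h'
  rcases hL _ h' with h | h
  · refine Or.inl ⟨⟨_, h, cj_cj_inv g A⟩, ?_⟩
    rintro _ ⟨B, hB, rfl⟩
    show ip A (Sp4Odd.cj g B) = 0
    rw [← cj_cj_inv g A, ip_cj]; exact hVW _ h B hB
  · refine Or.inr ⟨⟨_, h, cj_cj_inv g A⟩, ?_⟩
    rintro _ ⟨B, hB, rfl⟩
    show ip A (Sp4Odd.cj g B) = 0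
    rw [← cj_cj_inv g A, ip_cj, ip_comm]; exact hVW B hB _ h

/-- A non-orthogonal pair of neighbours of a class member lies in one plane. -/
theorem pair_plane {V W : Submodule F M4} (hV : finrank F V ≤ 2) (hW : finrank F W ≤ 2)
    (hVW : ∀ A ∈ V, ∀ B ∈ W, ip A B = 0) (hL : ∀ A, C.InL C.tv A → A ∈ V ∨ A ∈ W) {d : M4} (hd : C.InCl d)
    {A B R : M4} (hA : C.InL d A) (hB : C.InL d B) (hR : C.InL d R) (hne : ¬ Same A B) (hAB : ip A B ≠ 0) :
    R ∈ Submodule.span F (Set.range ![A, B]) ∨ (∀ X ∈ Submodule.span F (Set.range ![A, B]), ip R X = 0) := by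
  obtain ⟨g, rfl⟩ := hd
  have hV' : finrank F (V.map (cjEquiv g).toLinearMap) ≤ 2 := by rwa [LinearEquiv.finrank_map_eq]
  have hW' : finrank F (W.map (cjEquiv g).toLinearMap) ≤ 2 := by rwa [LinearEquiv.finrank_map_eq]
  rcases mem_plane_or_perp hVW hL hA with ⟨ha, hap⟩ | ⟨ha, hap⟩ <;>
    rcases mem_plane_or_perp hVW hL hB with ⟨hb, -⟩ | ⟨hb, -⟩
  · rw [span_pair_eq hV' hA.1 hB.1 hne ha hb]
    rcases mem_plane_or_perp hVW hL hR with ⟨hr, -⟩ | ⟨-, hr⟩
    exacts [Or.inl hr, Or.inr hr]
  · exact absurd (hap B hb) hAB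
  · exact absurd (hap B hb) hAB
  · rw [span_pair_eq hW' hA.1 hB.1 hne ha hb]
    rcases mem_plane_or_perp hVW hL hR with ⟨-, hr⟩ | ⟨hr, -⟩
    exacts [Or.inr hr, Or.inl hr]

/-- A neighbour with a non-orthogonal fellow neighbour has a neighbour off the star of the base line. -/
theorem exists_off {e a : M4} (he : C.InL C.tv e) (ha : C.InL C.tv a) (hne : ¬ Same a e) (hea : ip e a ≠ 0) :
    ∃ R, C.InL e R ∧ ¬ C.InPhi R := by
  classical
  by_contra hc
  push Not at hc
  obtain ⟨g, hg⟩ := he.1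
  have hcard : {B | C.InL e B}.ncard = {B | C.InL C.tv B}.ncard := by rw [hg]; exact ncard_L g _
  set S : Set M4 := {B | C.InL C.tv B} \ ({e, -e} ∪ {a, -a}) ∪ {C.tv, -C.tv} with hS
  have hsub : {B | C.InL e B} ⊆ S := by
    intro B hB
    rcases hc B hB with h | h
    · exact Or.inr h
    · refine Or.inl ⟨h, ?_⟩
      rintro (hB' | hB')
      · exact hB.not_same he.1.red hB'
      · refine hea ?_
        rw [ip_comm]
        exact ip_same_zero (Same.symm hB') (by rw [ip_comm]; exact hB.2)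
  have hn2 : ∀ B : M4, Red P B → B ≠ -B := fun B hB => hB.ne_neg_self C.hP
  have hdisj : Disjoint ({e, -e} : Set M4) {a, -a} := by
    rw [Set.disjoint_left]
    intro B hB hB'
    exact hne ((Same.symm (A := B) (B := a) hB').trans hB)
  have hsub4 : ({e, -e} ∪ {a, -a} : Set M4) ⊆ {B | C.InL C.tv B} := by
    rintro B (hB | hB)
    exacts [he.same hB (Same.refl _), ha.same hB (Same.refl _)]
  have h1 := Set.ncard_le_ncard hsub
  rw [hcard, hS] at h1
  have h2 := (Set.ncard_union_le ({B | C.InL C.tv B} \ ({e, -e} ∪ {a, -a})) ({C.tv, -C.tv} : Set M4))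
  rw [Set.ncard_sdiff hsub4, Set.ncard_union_eq hdisj, Set.ncard_pair (hn2 _ he.1.red),
    Set.ncard_pair (hn2 _ ha.1.red), Set.ncard_pair (hn2 _ C.red)] at h2
  have h3 := Set.ncard_le_ncard hsub4
  rw [Set.ncard_union_eq hdisj, Set.ncard_pair (hn2 _ he.1.red), Set.ncard_pair (hn2 _ ha.1.red)] at h3
  omega

/-- A class member orthogonal to two disjoint planes of neighbours is the base line. -/
theorem same_of_perp_planes {V W : Submodule F M4} (hdisj : ∀ X ∈ V, X ∈ W → X = 0) {e a f f' R : M4}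
    (he : C.InL C.tv e) (ha : C.InL C.tv a) (hne : ¬ Same a e) (heV : e ∈ V) (haV : a ∈ V)
    (hf : C.InL C.tv f) (hf' : C.InL C.tv f') (hff' : ¬ Same f' f) (hfW : f ∈ W) (hf'W : f' ∈ W)
    (hR : C.InCl R) (hRV : ∀ X ∈ V, ip R X = 0) (hRW : ∀ X ∈ W, ip R X = 0) : Same R C.tv := by
  have hli : LinearIndependent F ![e, a, f, f'] := by
    rw [Fintype.linearIndependent_iff]
    intro c hc
    simp only [Fin.sum_univ_four, Matrix.cons_val_zero, Matrix.cons_val_one, Matrix.cons_val] at hc
    have hv : c 0 • e + c 1 • a = 0 := by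
      set X := c 0 • e + c 1 • a with hX
      have hXV : X ∈ V := add_mem (Submodule.smul_mem _ _ heV) (Submodule.smul_mem _ _ haV)
      have hXW : X ∈ W := by
        rw [show X = -(c 2 • f + c 3 • f') by
          rw [eq_neg_iff_add_eq_zero, ← hc, hX]; module]
        exact neg_mem (add_mem (Submodule.smul_mem _ _ hfW) (Submodule.smul_mem _ _ hf'W))
      exact hdisj X hXV hXW
    have hw : c 2 • f + c 3 • f' = 0 := by
      rw [← hc, show c 0 • e + c 1 • a + c 2 • f + c 3 • f' = (c 0 • e + c 1 • a) + (c 2 • f + c 3 • f') by module,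
        hv, zero_add]
    have l1 := LinearIndependent.pair_iff.1 (pair_li (C := C) he.1 ha.1 (fun h => hne h.symm)) _ _ hv
    have l2 := LinearIndependent.pair_iff.1 (pair_li (C := C) hf.1 hf'.1 (fun h => hff' h.symm)) _ _ hw
    rintro ⟨i, hi⟩
    match i, hi with
    | 0, _ => exact l1.1
    | 1, _ => exact l1.2
    | 2, _ => exact l2.1
    | 3, _ => exact l2.2
  have four : ∀ p : M4 → Prop, p e → p a → p f → p f' → ∀ i, p (![e, a, f, f'] i) := fun p h0 h1 h2 h3 => by
    rintro ⟨i, hi⟩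
    match i, hi with
    | 0, _ => exact h0
    | 1, _ => exact h1
    | 2, _ => exact h2
    | 3, _ => exact h3
  have e1 := perp_four C.hP.two_ne hli
    (four W5 he.1.red.w5 ha.1.red.w5 hf.1.red.w5 hf'.1.red.w5) C.red.w5 (C.red.ip_self C.hP)
    (four (fun X => ip C.tv X = 0) he.2 ha.2 hf.2 hf'.2) hR.red.w5
    (four (fun X => ip R X = 0) (hRV e heV) (hRV a haV) (hRW f hfW) (hRW f' hf'W))
  have h1 := hR.red.ip_self C.hP
  rw [e1, ip_smul_left, ip_smul_right, C.red.ip_self C.hP, mul_one] at h1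
  rcases mul_self_eq_one_iff.1 h1 with h | h
  · exact Or.inl (by rw [e1, h, one_smul])
  · exact Or.inr (by rw [e1, h, neg_one_smul])

theorem two_planes_aux {V W : Submodule F M4} (hV : finrank F V ≤ 2) (hW : finrank F W ≤ 2)
    (hVW : ∀ A ∈ V, ∀ B ∈ W, ip A B = 0) (hdisj : ∀ X ∈ V, X ∈ W → X = 0)
    (hL : ∀ A, C.InL C.tv A → A ∈ V ∨ A ∈ W) {e a f f' : M4}
    (he : C.InL C.tv e) (ha : C.InL C.tv a) (hne : ¬ Same a e) (hea : ip e a ≠ 0) (heV : e ∈ V) (haV : a ∈ V)
    (hf : C.InL C.tv f) (hf' : C.InL C.tv f') (hfW : f ∈ W) (hf'W : f' ∈ W) (hff' : ¬ Same f' f)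
    (hchoice : ip f f' = 0 → ∀ A B, C.InL C.tv A → C.InL C.tv B → A ∈ W → B ∈ W → Same A B ∨ ip A B = 0) :
    False := by
  have hVspan : Submodule.span F (Set.range ![e, a]) = V :=
    span_pair_eq hV he.1 ha.1 (fun h => hne h.symm) heV haV
  have htV : ∀ X ∈ V, ip C.tv X = 0 := by
    intro X hX
    rw [← hVspan] at hX
    refine ip_eq_zero_of_span ?_ hX
    rintro _ ⟨i, rfl⟩
    fin_cases i
    exacts [he.2, ha.2]
  have hWspan : Submodule.span F (Set.range ![f, f']) = W :=
    span_pair_eq hW hf.1 hf'.1 (fun h => hff' h.symm) hfW hf'W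
  have htW : ∀ X ∈ W, ip C.tv X = 0 := by
    intro X hX
    rw [← hWspan] at hX
    refine ip_eq_zero_of_span ?_ hX
    rintro _ ⟨i, rfl⟩
    fin_cases i
    exacts [hf.2, hf'.2]
  obtain ⟨R, hR, hRphi⟩ := exists_off he ha hne hea
  have hRt : ip C.tv R ≠ 0 := fun h => hRphi (Or.inr ⟨hR.1, h⟩)
  -- being orthogonal to a neighbour in the second plane
  have hperpV : ∀ h : M4, C.InL C.tv h → h ∈ W → ip h R = 0 → ∀ X ∈ V, ip R X = 0 := by
    intro h hh hhW hhR
    have he' : C.InL h e := ⟨he.1, by rw [ip_comm]; exact hVW e heV h hhW⟩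
    have ha' : C.InL h a := ⟨ha.1, by rw [ip_comm]; exact hVW a haV h hhW⟩
    rcases pair_plane hV hW hVW hL hh.1 he' ha' ⟨hR.1, hhR⟩ (fun h' => hne h'.symm) hea with h1 | h1
    · rw [hVspan] at h1
      exact absurd (htV R h1) hRt
    · rwa [hVspan] at h1
  -- everything orthogonal to both planes is the base line
  have full : (∀ X ∈ V, ip R X = 0) → (∀ X ∈ W, ip R X = 0) → False := fun hRV hRW =>
    hRphi (Or.inl (same_of_perp_planes hdisj he ha hne heV haV hf hf' hff' hfW hf'W hR.1 hRV hRW))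
  have hef : ∀ X ∈ W, ip e X = 0 := fun X hX => hVW e heV X hX
  have hfe : C.InL e f := ⟨hf.1, hef f hfW⟩
  have hf'e : C.InL e f' := ⟨hf'.1, hef f' hf'W⟩
  by_cases hff0 : ip f f' = 0
  · -- `R` is orthogonal to one of them
    have hnotboth : ip f R = 0 ∨ ip f' R = 0 := by
      by_contra hn
      push Not at hn
      have hfR : ¬ Same f R := fun h => hRphi (Or.inr (hf.same h.symm (Same.refl _)))
      rcases pair_plane hV hW hVW hL he.1 hfe hR hf'e hfR hn.1 with h1 | h1
      · obtain ⟨g, hg⟩ := he.1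
        have hfR' : R ∈ W := by
          have hsp : Submodule.span F (Set.range ![f, f']) ≤ Submodule.span F (Set.range ![f, R]) := by
            rw [Submodule.span_le]
            rintro _ ⟨i, rfl⟩
            fin_cases i
            exacts [Submodule.subset_span ⟨0, rfl⟩, h1]
          have heq := Submodule.eq_of_le_of_finrank_le hsp ((finrank_range_le_card _).trans (by
            rw [finrank_span_eq_card (pair_li hf.1 hf'.1 (fun h => hff' h.symm))]))
          rw [← hWspan, heq]
          exact Submodule.subset_span ⟨1, rfl⟩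
        exact hRt (htW R hfR')
      · exact hn.2 (by
          have := h1 R (Submodule.subset_span ⟨1, rfl⟩)
          exact this)
    have hdom : ∀ g, C.InL C.tv g → g ∈ W → ∀ A, C.InL C.tv A → Same A g ∨ ip g A = 0 := by
      intro g hg hgW A hA
      rcases hL A hA with h | h
      · exact Or.inr (by rw [ip_comm]; exact hVW A h g hgW)
      · exact (hchoice hff0 A g hA hg h hgW).imp_right fun h' => by rwa [ip_comm]
    rcases hnotboth with h | h
    · exact hRphi (inPhi_of_dom hf (hdom f hf hfW) ⟨hR.1, h⟩)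
    · exact hRphi (inPhi_of_dom hf' (hdom f' hf' hf'W) ⟨hR.1, h⟩)
  · have hRW : ∀ X ∈ W, ip R X = 0 := by
      rcases pair_plane hV hW hVW hL he.1 hfe hf'e hR (fun h => hff' h.symm) hff0 with h1 | h1
      · rw [hWspan] at h1
        exact absurd (htW R h1) hRt
      · rwa [hWspan] at h1
    exact full (hperpV f hf hfW (by rw [ip_comm]; exact hRW f hfW)) hRW

/-- The neighbours do not lie in two orthogonal planes. -/
theorem two_planes {V W : Submodule F M4} (hV : finrank F V ≤ 2) (hW : finrank F W ≤ 2)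
    (hVW : ∀ A ∈ V, ∀ B ∈ W, ip A B = 0) (hL : ∀ A, C.InL C.tv A → A ∈ V ∨ A ∈ W)
    (hdisj : ∀ X ∈ V, X ∈ W → X = 0)
    (hpair : ∀ A, C.InL C.tv A → ∃ B, C.InL C.tv B ∧ ip A B = 0) : False := by
  classical
  have hWV : ∀ A ∈ W, ∀ B ∈ V, ip A B = 0 := fun A hA B hB => by rw [ip_comm]; exact hVW B hB A hA
  have hL' : ∀ A, C.InL C.tv A → A ∈ W ∨ A ∈ V := fun A hA => (hL A hA).symm
  -- a non-orthogonal pair in either plane
  have main : ∀ (V W : Submodule F M4), finrank F V ≤ 2 → finrank F W ≤ 2 → (∀ A ∈ V, ∀ B ∈ W, ip A B = 0) →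
      (∀ X ∈ V, X ∈ W → X = 0) →
      (∀ A, C.InL C.tv A → A ∈ V ∨ A ∈ W) → ∀ e a, C.InL C.tv e → C.InL C.tv a → ¬ Same a e → ip e a ≠ 0 →
      e ∈ V → a ∈ V → False := by
    intro V W hV hW hVW hdisj hL e a he ha hne hea heV haV
    have hVspan : Submodule.span F (Set.range ![e, a]) = V :=
      span_pair_eq hV he.1 ha.1 (fun h => hne h.symm) heV haV
    have hclash : ∀ A, A ∈ V → A ∈ W → Red P A → False := fun A h h' hA => by
      have := hVW A h A h'
      rw [hA.ip_self C.hP] at this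
      exact one_ne_zero this
    -- members outside the first plane
    by_cases hW0 : ∀ f, C.InL C.tv f → f ∈ V
    · obtain ⟨b, hb, heb⟩ := hpair e he
      refine C.planar he hb heb (fun A hA => ?_) hpair
      have hnb : ¬ Same e b := fun h => by
        have := ip_same_zero h.symm heb
        rw [ip_comm] at this
        exact (by rw [hb.1.red.ip_self C.hP] at this; exact one_ne_zero this)
      have := span_pair_eq hV he.1 hb.1 hnb heV (hW0 b hb)
      rw [show ({e, b} : Set M4) = Set.range ![e, b] by simp [Matrix.range_cons, Matrix.range_empty, Set.pair_comm],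
        this]
      exact hW0 A hA
    push Not at hW0
    obtain ⟨f, hf, hfV⟩ := hW0
    have hfW : f ∈ W := (hL f hf).resolve_left hfV
    by_cases hW1 : ∀ A, C.InL C.tv A → A ∈ W → Same A f
    · refine C.apex hf (fun A hA => ?_) fun c hc hdom => ?_
      · rcases hL A hA with h | h
        · exact Or.inr (by rw [ip_comm]; exact hVW A h f hfW)
        · exact Or.inl (hW1 A hA h)
      · by_contra hcf
        have hcV : c ∈ V := (hL c hc).resolve_right fun h => hcf (hW1 c hc h)
        have hperp : ∀ A, C.InL C.tv A → ¬ Same A c → A ∈ V → ip c A = 0 := fun A hA hn _ =>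
          (hdom A hA).resolve_left hn
        -- both of `e`, `a` cannot be orthogonal to `c`
        have one : Same e c ∨ Same a c := by
          by_contra hn
          push Not at hn
          have h0 : ∀ X ∈ V, ip c X = 0 := by
            intro X hX
            rw [← hVspan] at hX
            refine ip_eq_zero_of_span ?_ hX
            rintro _ ⟨i, rfl⟩
            fin_cases i
            exacts [hperp e he hn.1 heV, hperp a ha hn.2 haV]
          have := h0 c hcV
          rw [hc.1.red.ip_self C.hP] at this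
          exact one_ne_zero this
        rcases one with h | h
        · refine hea (ip_same_zero h ?_)
          exact hperp a ha (fun h' => hne (h'.trans h.symm)) haV
        · refine hea ?_
          rw [ip_comm]
          exact ip_same_zero h (hperp e he (fun h' => hne (h.trans h'.symm)) heV)
    push Not at hW1
    obtain ⟨f, f', hf, hf', hfW, hf'W, hff', hchoice⟩ : ∃ g h, C.InL C.tv g ∧ C.InL C.tv h ∧ g ∈ W ∧ h ∈ W ∧
        ¬ Same h g ∧ (ip g h = 0 → ∀ A B, C.InL C.tv A → C.InL C.tv B → A ∈ W → B ∈ W → Same A B ∨ ip A B = 0) := by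
      by_cases hW2 : ∀ A B, C.InL C.tv A → C.InL C.tv B → A ∈ W → B ∈ W → Same A B ∨ ip A B = 0
      · obtain ⟨f', hf', hf'W, hff'⟩ := hW1
        exact ⟨f, f', hf, hf', hfW, hf'W, hff', fun _ => hW2⟩
      · push Not at hW2
        obtain ⟨A, B, hA, hB, hAW, hBW, hne', h0⟩ := hW2
        exact ⟨A, B, hA, hB, hAW, hBW, fun h => hne' h.symm, fun h => absurd h h0⟩
    exact two_planes_aux hV hW hVW hdisj hL he ha hne hea heV haV hf hf' hfW hf'W hff' hchoice
  by_cases hn : ∀ A B, C.InL C.tv A → C.InL C.tv B → Same A B ∨ ip A B = 0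
  · exact C.clique hn
  push Not at hn
  obtain ⟨A, B, hA, hB, hne, h0⟩ := hn
  rcases hL A hA with h | h
  · rcases hL B hB with h' | h'
    · exact main V W hV hW hVW hdisj hL A B hA hB (fun e => hne e.symm) h0 h h'
    · exact h0 (hVW A h B h')
  · rcases hL B hB with h' | h'
    · exact h0 (hWV A h B h')
    · exact main W V hW hV hWV (fun X hX hX' => hdisj X hX' hX) hL' A B hA hB (fun e => hne e.symm) h0 h h'

end Ctx

end CfsgLib.Sp4Odd
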