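import Cfsg.Agent.Lib.Sp4Odd.Glue
import Cfsg.Agent.Lib.Sp4Odd.TwoPlane

/-!
The projection cannot preserve an axis.
-/

set_option autoImplicit false
set_option maxHeartbeats 400000

namespace CfsgLib.Sp4Odd

open Matrix

variable {F : Type*} [Field F] [Fintype F]

local notation "M2" => Matrix (Fin 2) (Fin 2) F
local notation "M4" => Matrix (Fin 2) (Fin 2) (Matrix (Fin 2) (Fin 2) F)

variable {P : Subgroup (Matrix (Fin 2) (Fin 2) (Matrix (Fin 2) (Fin 2) F))ˣ}

/-- The first blocks cannot all commute or anticommute with a non-singular matrix of trace zero. -/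
theorem Normal.false_of_axis {C : Ctx P} (hN : Normal C) {c : M2} (hct : c.trace = 0) (hcd : c.det ≠ 0)
    (hax : ∀ a, InG P a → a * c = c * a ∨ a * c = -(c * a)) : False := by
  classical
  have h2 := C.hP.two_ne
  have hcc : c * c = (-c.det) • (1 : M2) := by rw [sq_eq, hct, zero_smul, zero_sub, neg_smul]
  have hc0 : c ≠ 0 := fun e => hcd (by rw [e]; simp)
  have hinj : ∀ x y : M2, c * x = c * y → x = y := fun x y e => by
    have := congrArg (fun z => c * z) e
    simp only [← mul_assoc, hcc, smul_mul_assoc, one_mul] at this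
    exact smul_right_injective M2 (neg_ne_zero.2 hcd) this
  -- the commuting blocks
  have comm : ∀ {a : M2}, a * c = c * a → ∃ α β : F, a = α • 1 + β • c := by
    intro a h
    set a0 := a + (-(a.trace / 2)) • (1 : M2) with ha0
    have ht0 : a0.trace = 0 := by
      rw [ha0, trace_add, trace_smul, trace_one2, smul_eq_mul]
      field_simp
      ring
    have hc : a0 * c = c * a0 := by rw [ha0, add_mul, mul_add, h, smul_mul_assoc, mul_smul_comm, one_mul, mul_one]
    have e := anti_trace ht0 hct
    rw [← hc, ← two_smul F] at e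
    have e' := congrArg (fun m : M2 => m * c) e
    simp only [smul_mul_assoc, mul_assoc, hcc, mul_smul_comm, mul_one, one_mul, smul_smul] at e'
    refine ⟨a.trace / 2, (2 * -c.det)⁻¹ * (a0 * c).trace, ?_⟩
    have hne : (2 : F) * -c.det ≠ 0 := mul_ne_zero h2 (neg_ne_zero.2 hcd)
    have e2 : a0 = ((2 * -c.det)⁻¹ * (a0 * c).trace) • c := by
      rw [← smul_smul, ← e', smul_smul, inv_mul_cancel₀ hne, one_smul]
    rw [← e2, ha0]
    module
  -- the anticommuting blocks
  have anti : ∀ {a : M2}, a * c = -(c * a) → a.trace = 0 ∧ (a * c).trace = 0 := by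
    intro a h
    constructor
    · have e : c * a * c = c.det • a := by
        rw [mul_assoc, h, mul_neg, ← mul_assoc, hcc, smul_mul_assoc, one_mul, neg_smul, neg_neg]
      have h' := congrArg Matrix.trace e
      rw [trace_mul_cycle, hcc, smul_mul_assoc, one_mul, trace_smul, trace_smul, neg_smul, smul_eq_mul] at h'
      exact (mul_eq_zero.1 (show (2 * c.det) * a.trace = 0 by linear_combination -h')).resolve_left
        (mul_ne_zero h2 hcd)
    · have h' := congrArg Matrix.trace h
      rw [trace_neg, trace_mul_comm c a] at h'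
      exact (mul_eq_zero.1 (show (2 : F) * (a * c).trace = 0 by linear_combination h')).resolve_left h2
  let f : F × F →ₗ[F] M4 :=
    { toFun := fun p => uM (p.1 • 1 + p.2 • c)
      map_add' := fun p q => by
        simp only [uM, Prod.fst_add, Prod.snd_add, add_smul]
        rw [wv_add, add_zero, add_add_add_comm]
      map_smul' := fun r p => by
        simp only [uM, Prod.smul_fst, Prod.smul_snd, smul_eq_mul, RingHom.id_apply, wv_smul, mul_zero, smul_add,
          smul_smul] }
  let V : Submodule F M4 := LinearMap.range f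
  have hVm : ∀ {a : M2}, a * c = c * a → uM a ∈ V := fun h => by
    obtain ⟨α, β, rfl⟩ := comm h
    exact ⟨(α, β), rfl⟩
  have hV : Module.finrank F V ≤ 2 := (LinearMap.finrank_range_le f).trans (by simp)
  have hpair : ∀ A, C.InL C.tv A → ∃ B, C.InL C.tv B ∧ ip A B = 0 := fun A hA => hN.pair hA
  have hut : C.InL C.tv (uM (1 : M2)) := by rw [hN.base]; exact hN.swap
  by_cases hall : ∀ a, InG P a → a * c = c * a
  · -- one plane
    obtain ⟨B, hB, h0⟩ := hpair _ hut
    have hmem : ∀ A, C.InL C.tv A → A ∈ V := fun A hA => by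
      obtain ⟨m, hm, rfl⟩ := hN.inL_eq hA
      exact hVm (hall m ⟨_, hm⟩)
    refine C.planar hut hB h0 (fun A hA => ?_) hpair
    have hne : ¬ Same (uM (1 : M2)) B := fun e => by
      have := Ctx.ip_same_zero e.symm h0
      rw [hB.1.red.ip_self C.hP] at this
      exact one_ne_zero this
    have := Ctx.span_pair_eq hV hut.1 hB.1 hne (hmem _ hut) (hmem _ hB)
    rw [show ({uM (1 : M2), B} : Set M4) = Set.range ![uM (1 : M2), B] by
      simp [Matrix.range_cons, Matrix.range_empty, Set.pair_comm], this]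
    exact hmem A hA
  push Not at hall
  obtain ⟨g, hg, hgc⟩ := hall
  have hga : g * c = -(c * g) := (hax g hg).resolve_left hgc
  have hgd : g.det = 1 := hg.det C.hP
  let f' : F × F →ₗ[F] M4 :=
    { toFun := fun p => uM ((p.1 • 1 + p.2 • c) * g)
      map_add' := fun p q => by
        simp only [uM, Prod.fst_add, Prod.snd_add, add_smul]
        rw [wv_add, add_zero, ← add_mul, add_add_add_comm]
      map_smul' := fun r p => by
        simp only [uM, Prod.smul_fst, Prod.smul_snd, smul_eq_mul, RingHom.id_apply, wv_smul, mul_zero, ← smul_mul_assoc,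
          smul_add, smul_smul] }
  let W : Submodule F M4 := LinearMap.range f'
  have hW : Module.finrank F W ≤ 2 := (LinearMap.finrank_range_le f').trans (by simp)
  have hcomm : ∀ α β : F, (α • 1 + β • c) * c = c * (α • 1 + β • c) := fun α β => by
    rw [add_mul, mul_add, smul_mul_assoc, smul_mul_assoc, mul_smul_comm, mul_smul_comm, one_mul, mul_one]
  have hanti : ∀ α β : F, (α • 1 + β • c) * g * c = -(c * ((α • 1 + β • c) * g)) := fun α β => by
    rw [mul_assoc, hga, mul_neg, ← mul_assoc, hcomm, mul_assoc]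
  have hWm : ∀ {a : M2}, a * c = -(c * a) → uM a ∈ W := fun {a} h => by
    obtain ⟨hgt, -⟩ := anti hga
    have h' : g.adjugate * c = -(c * g.adjugate) := by
      rw [adj_eq_of_trace hgt, neg_mul, hga, neg_neg, mul_neg, neg_neg]
    obtain ⟨α, β, e⟩ := comm (show (a * g.adjugate) * c = c * (a * g.adjugate) by
      rw [mul_assoc, h', mul_neg, ← mul_assoc, h, neg_mul, neg_neg, mul_assoc])
    refine ⟨(α, β), ?_⟩
    show uM ((α • 1 + β • c) * g) = uM a
    rw [← e, mul_assoc, (adj_inv hgd).2, mul_one]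
  refine Ctx.two_planes (C := C) hV hW ?_ ?_ ?_ hpair
  · rintro _ ⟨⟨α, β⟩, rfl⟩ _ ⟨⟨γ, δ⟩, rfl⟩
    show ip (uM (α • 1 + β • c)) (uM ((γ • 1 + δ • c) * g)) = 0
    obtain ⟨h1, h2'⟩ := anti (hanti γ δ)
    rw [ip_uM h2, adj_eq_of_trace h1, mul_neg, trace_neg, add_mul, trace_add, smul_mul_assoc, smul_mul_assoc,
      trace_smul, trace_smul, one_mul, h1, trace_mul_comm c, h2', smul_zero, smul_zero, add_zero, neg_zero, zero_div]
  · intro A hA
    obtain ⟨m, hm, rfl⟩ := hN.inL_eq hA
    rcases hax m ⟨_, hm⟩ with e | e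
    · exact Or.inl (hVm e)
    · exact Or.inr (hWm e)
  · rintro X ⟨⟨α, β⟩, rfl⟩ ⟨⟨γ, δ⟩, e⟩
    have e' : (γ • 1 + δ • c) * g = α • 1 + β • c := uM_inj e
    have h0 := hanti γ δ
    rw [e', hcomm] at h0
    have h0' : (2 : F) • (c * (α • 1 + β • c)) = 0 := by
      rw [two_smul]; nth_rewrite 1 [h0]; exact neg_add_cancel _
    have hz : α • (1 : M2) + β • c = 0 := hinj _ 0 (by rw [(smul_eq_zero.1 h0').resolve_left h2, mul_zero])
    show uM (α • 1 + β • c) = 0
    rw [hz, uM, ← zero_smul F (wv 1 (0 : M2)), wv_smul, zero_mul, smul_zero]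

end CfsgLib.Sp4Odd
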