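import Cfsg.Agent.Lib.Sp4Odd.ThreeFalse

/-!
A sign on the centraliser of the base vector is impossible.
-/

set_option autoImplicit false
set_option maxHeartbeats 400000

namespace CfsgLib.Sp4Odd

open Matrix

variable {F : Type*} [Field F] [Fintype F]

local notation "M2" => Matrix (Fin 2) (Fin 2) F
local notation "M4" => Matrix (Fin 2) (Fin 2) (Matrix (Fin 2) (Fin 2) F)

variable {P : Subgroup (Matrix (Fin 2) (Fin 2) (Matrix (Fin 2) (Fin 2) F))ˣ}

/-- The pairs of blocks of the Sylow subgroup. -/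
def InT (C : Ctx P) (a b : Matrix (Fin 2) (Fin 2) F) : Prop := ∃ g ∈ (C.T : Subgroup P), g.1.1 = dg a b

theorem InT.in0 {C : Ctx P} {a b : M2} (h : InT C a b) : In0 P a b := by
  obtain ⟨g, -, e⟩ := h; exact ⟨g, e⟩

theorem dg_ne_dg_mul_uM {a b c d : M2} (hd : a.det = 1) : dg a b ≠ dg c d * uM 1 := by
  rw [dg_mul_uM]
  intro e
  have h := congr_fun₂ e 0 0
  simp [dg] at h
  rw [h, det_zero] at hd
  exact zero_ne_one hd

/-- A multiplicative sign on the diagonal elements of the Sylow subgroup, invariant under the swap, is impossible. -/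
theorem Normal.false_of_sign {C : Ctx P} (hN : Normal C)
    (hu : ∃ u ∈ (C.T : Subgroup P), u.1.1 = uM (1 : M2)) (Plus : M2 → M2 → Prop)
    (hone : Plus 1 1) (hneg : Plus (-1) (-1))
    (hpick : ∀ a b, InT C a b → Plus a b ∨ Plus a (-b))
    (hexcl : ∀ a b, InT C a b → Plus a b → ¬ Plus a (-b))
    (hmul : ∀ a b c d, InT C a b → InT C c d → Plus a b → Plus c d → Plus (a * c) (b * d))
    (hswap : ∀ a b, InT C a b → Plus a b → Plus b a) : False := by
  classical
  obtain ⟨u, huT, hue⟩ := hu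
  have hu1 : uM (1 : M2) * uM 1 = 1 := uM_sq det_one
  have hswapT : ∀ {a b : M2}, InT C a b → InT C b a := by
    rintro a b ⟨g, hg, e⟩
    refine ⟨u * g * u, mul_mem (mul_mem huT hg) huT, ?_⟩
    rw [Subgroup.coe_mul, Subgroup.coe_mul, Units.val_mul, Units.val_mul, e, hue, uM_one_dg]
  have hpush : ∀ a b : M2, uM 1 * dg a b = dg b a * uM 1 := fun a b => by
    rw [← uM_one_dg a b, mul_assoc _ (uM (1 : M2)) (uM 1), hu1, mul_one]
  have hmulT : ∀ {a b c d : M2}, InT C a b → InT C c d → InT C (a * c) (b * d) := by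
    rintro a b c d ⟨g, hg, e⟩ ⟨h, hh, e'⟩
    exact ⟨g * h, mul_mem hg hh, by rw [Subgroup.coe_mul, Units.val_mul, e, e', dg_mul]⟩
  have hT : ∀ {s : P}, s ∈ (C.T : Subgroup P) → ∃ a b, InT C a b ∧ (s.1.1 = dg a b ∨ s.1.1 = dg a b * uM 1) := by
    intro s hs
    obtain ⟨a, b, -, e⟩ := hN.cpm_cases (by
      have := C.fix s hs
      rwa [show C.t.1.1 = tM from hN.base] at this)
    refine ⟨a, b, ?_, e⟩
    rcases e with e | e
    · exact ⟨s, hs, e⟩
    · exact ⟨s * u, mul_mem hs huT, by rw [Subgroup.coe_mul, Units.val_mul, e, hue, mul_assoc, hu1, mul_one]⟩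
  have htT : InT C (1 : M2) (-1) :=
    ⟨C.t, C.fix.mem C.hP C.red, by rw [← tM_eq]; exact hN.base⟩
  let car : Set P := {s | s ∈ (C.T : Subgroup P) ∧ ∃ a b, InT C a b ∧ Plus a b ∧
    (s.1.1 = dg a b ∨ s.1.1 = dg a b * uM 1)}
  have uniq : ∀ {s : P} {a b c d : M2}, InT C a b → InT C c d → (s.1.1 = dg a b ∨ s.1.1 = dg a b * uM 1) →
      (s.1.1 = dg c d ∨ s.1.1 = dg c d * uM 1) → a = c ∧ b = d := by
    intro s a b c d hab hcd e e'
    rcases e with e | e <;> rcases e' with e' | e' <;> rw [e] at e'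
    · exact dg_inj e'
    · exact absurd e' (dg_ne_dg_mul_uM (C.hP.in0_det hab.in0).1)
    · exact absurd e'.symm (dg_ne_dg_mul_uM (C.hP.in0_det hcd.in0).1)
    · refine dg_inj ?_
      have := congrArg (fun A => A * uM (1 : M2)) e'
      simpa only [mul_assoc, hu1, mul_one] using this
  have hmem_mul : ∀ {x y : P}, x ∈ car → y ∈ car → x * y ∈ car := by
    rintro x y ⟨hx, a, b, hab, pab, e⟩ ⟨hy, c, d, hcd, pcd, e'⟩
    refine ⟨mul_mem hx hy, ?_⟩
    rcases e with e | e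
    · refine ⟨a * c, b * d, hmulT hab hcd, hmul _ _ _ _ hab hcd pab pcd, ?_⟩
      rcases e' with e' | e'
      · exact Or.inl (by rw [Subgroup.coe_mul, Units.val_mul, e, e', dg_mul])
      · exact Or.inr (by rw [Subgroup.coe_mul, Units.val_mul, e, e', ← mul_assoc, dg_mul])
    · refine ⟨a * d, b * c, hmulT hab (hswapT hcd), hmul _ _ _ _ hab (hswapT hcd) pab (hswap _ _ hcd pcd), ?_⟩
      rcases e' with e' | e'
      · exact Or.inr (by rw [Subgroup.coe_mul, Units.val_mul, e, e', mul_assoc, hpush, ← mul_assoc, dg_mul])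
      · exact Or.inl (by
          rw [Subgroup.coe_mul, Units.val_mul, e, e', ← mul_assoc, mul_assoc _ (uM 1) (dg c d), hpush, ← mul_assoc,
            dg_mul, mul_assoc, hu1, mul_one])
  let Q : Subgroup P :=
    { carrier := car
      one_mem' := ⟨one_mem _, 1, 1, ⟨1, one_mem _, by simp [dg_one]⟩, hone, Or.inl (by simp [dg_one])⟩
      mul_mem' := hmem_mul
      inv_mem' := by
        intro x hx
        obtain ⟨n, hn⟩ : ∃ n : ℕ, x⁻¹ = x ^ n := ⟨orderOf x - 1, inv_eq_of_mul_eq_one_right (by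
          rw [← pow_succ', Nat.sub_add_cancel (orderOf_pos x), pow_orderOf_eq_one])⟩
        rw [hn]
        clear hn
        induction n with
        | zero => exact ⟨one_mem _, 1, 1, ⟨1, one_mem _, by simp [dg_one]⟩, hone, Or.inl (by simp [dg_one])⟩
        | succ n ih => rw [pow_succ]; exact hmem_mul ih hx }
  have hQ : Q ≤ (C.T : Subgroup P) := fun s hs => hs.1
  have htn : C.t ∉ Q := by
    rintro ⟨-, a, b, hab, pab, e⟩
    obtain ⟨rfl, rfl⟩ := uniq hab htT e (Or.inl (by rw [← tM_eq]; exact hN.base))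
    exact hexcl _ _ hab pab (by rwa [neg_neg])
  have hnQ : C.hP.negOne ∈ Q := by
    have e : (-1 : M4) = dg (-1 : M2) (-1) := by rw [← dg_one, dg_neg]
    exact ⟨C.hP.negOne_mem C.T, -1, -1, ⟨C.hP.negOne, C.hP.negOne_mem C.T, by simp [Hyp.negOne, e]⟩, hneg,
      Or.inl (by simp [Hyp.negOne, e])⟩
  have ht0 : C.t.1.1 = dg (1 : M2) (-1) := by rw [← tM_eq]; exact hN.base
  refine Ctx.false_of_index_two (C := C) Q hQ ?_ htn hnQ
  rw [Subgroup.relIndex, Subgroup.index_eq_two_iff]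
  refine ⟨⟨C.t, C.fix.mem C.hP C.red⟩, fun ⟨s, hs⟩ => ?_⟩
  simp only [Subgroup.mem_subgroupOf, Subgroup.coe_mul]
  obtain ⟨a, b, hab, e⟩ := hT hs
  -- multiplying by `t` flips the sign
  have hflip : ∀ {a b : M2}, InT C a b → (s.1.1 = dg a b ∨ s.1.1 = dg a b * uM 1) →
      ∃ c d : M2, InT C c d ∧ ((s * C.t).1.1 = dg c d ∨ (s * C.t).1.1 = dg c d * uM 1) ∧
        ((c = a ∧ d = -b) ∨ (c = -a ∧ d = b)) := by
    intro a b hab e
    rcases e with e | e
    · refine ⟨a, -b, ?_, Or.inl ?_, Or.inl ⟨rfl, rfl⟩⟩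
      · have := hmulT hab htT
        rwa [mul_one, mul_neg, mul_one] at this
      · rw [Subgroup.coe_mul, Units.val_mul, e, ht0, dg_mul, mul_one, mul_neg, mul_one]
    · refine ⟨-a, b, ?_, Or.inr ?_, Or.inr ⟨rfl, rfl⟩⟩
      · have := hmulT hab (hswapT htT)
        rwa [mul_one, mul_neg, mul_one] at this
      · rw [Subgroup.coe_mul, Units.val_mul, e, ht0, mul_assoc, hpush, ← mul_assoc, dg_mul, mul_one, mul_neg,
          mul_one]
  obtain ⟨c, d, hcd, e', hcd'⟩ := hflip hab e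
  have hneg' : ∀ {a b : M2}, InT C a b → (Plus a (-b) ↔ Plus (-a) b) := by
    intro a b hab
    have hm1 : InT C (-1 : M2) (-1) :=
      ⟨C.hP.negOne, C.hP.negOne_mem C.T, by simp [Hyp.negOne, ← dg_one, dg_neg]⟩
    have h1 : InT C a (-b) := by
      have := hmulT hab htT
      rwa [mul_one, mul_neg, mul_one] at this
    have h2 : InT C (-a) b := by
      have := hmulT h1 hm1
      rwa [mul_neg, mul_one, neg_mul_neg, mul_one] at this
    constructor <;> intro h
    · have := hmul _ _ _ _ h1 hm1 h hneg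
      rwa [mul_neg, mul_one, neg_mul_neg, mul_one] at this
    · have := hmul _ _ _ _ h2 hm1 h hneg
      rwa [neg_mul_neg, mul_one, mul_neg, mul_one] at this
  have hiff : Plus c d ↔ Plus a (-b) := by
    rcases hcd' with ⟨rfl, rfl⟩ | ⟨rfl, rfl⟩
    · exact Iff.rfl
    · exact (hneg' hab).symm
  rcases hpick a b hab with hp | hp
  · refine Or.inr ⟨⟨hs, a, b, hab, hp, e⟩, fun h => ?_⟩
    obtain ⟨-, c', d', hcd2, pcd, e2⟩ := h
    obtain ⟨rfl, rfl⟩ := uniq hcd2 hcd e2 e'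
    exact hexcl _ _ hab hp (hiff.1 pcd)
  · refine Or.inl ⟨⟨mul_mem hs (C.fix.mem C.hP C.red), c, d, hcd, hiff.2 hp, e'⟩, fun h => ?_⟩
    obtain ⟨-, a', b', hab2, pab, e2⟩ := h
    obtain ⟨rfl, rfl⟩ := uniq hab2 hab e2 e
    exact hexcl _ _ hab2 pab hp

/-- Moving the swap into the Sylow subgroup. -/
theorem Normal.exists_swap_mem {C : Ctx P} (hN : Normal C) :
    ∃ C' : Ctx P, C'.t = C.t ∧ Normal C' ∧ ∃ u ∈ (C'.T : Subgroup P), u.1.1 = uM (1 : M2) := by
  obtain ⟨u, hu⟩ := hN.swap_red.mem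
  obtain ⟨C', ht, huT⟩ := C.exists_resylow (u := u) (by rw [hu, hN.base]; exact hN.swap)
  exact ⟨C', ht, hN.congr ht, u, huT, hu⟩

end CfsgLib.Sp4Odd
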