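import Cfsg.Agent.Lib.Sp4Odd.Pair

/-!
A twisted group of unipotent pairs yields a transvection.
-/

set_option autoImplicit false
set_option maxHeartbeats 800000

namespace CfsgLib.Sp4Odd

open Matrix

variable {F : Type*} [Field F]

local notation "M2" => Matrix (Fin 2) (Fin 2) F
local notation "M4" => Matrix (Fin 2) (Fin 2) (Matrix (Fin 2) (Fin 2) F)

/-- Upper unipotent matrices. -/
def uq (a : F) : Matrix (Fin 2) (Fin 2) F := !![1, a; 0, 1]

/-- The elementary nilpotent matrix. -/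
def eq12 : Matrix (Fin 2) (Fin 2) F := !![0, 1; 0, 0]

theorem uq_eq (a : F) : (uq a : M2) = 1 + a • eq12 := by
  ext i j; fin_cases i <;> fin_cases j <;> simp [uq, eq12]

theorem uq_mul (a b : F) : (uq a : M2) * uq b = uq (a + b) := by
  ext i j; fin_cases i <;> fin_cases j <;> simp [uq, add_comm]

theorem uq_zero : (uq 0 : M2) = 1 := by ext i j; fin_cases i <;> fin_cases j <;> simp [uq]

theorem uq_inj {a b : F} (h : (uq a : M2) = uq b) : a = b := by
  simpa [uq] using congrArg (fun A : M2 => A 0 1) h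

theorem adj_uq (a : F) : (uq a : M2).adjugate = uq (-a) := by
  ext i j; fin_cases i <;> fin_cases j <;> simp [uq, adjugate_fin_two]

theorem det_uq (a : F) : (uq a : M2).det = 1 := by simp [uq, det_fin_two]

theorem eq12_sq : (eq12 : M2) * eq12 = 0 := by
  ext i j; fin_cases i <;> fin_cases j <;> simp [eq12]

/-- Block matrices over scalars. -/
def sc (p r s q : F) : Matrix (Fin 2) (Fin 2) (Matrix (Fin 2) (Fin 2) F) :=
  !![p • 1, r • 1; s • 1, q • 1]

theorem uq_sub_sq (a : F) : ((uq a : M2) - 1) * (uq a - 1) = 0 := by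
  rw [uq_eq, add_sub_cancel_left, smul_mul_smul_comm, eq12_sq, smul_zero]

variable [Fintype F]

/-- Every element of a subfield is a sum of two squares. -/
theorem exists_sq_add_sq (h2 : (2 : F) ≠ 0) (K : Subfield F) {r : F} (hr : r ∈ K) :
    ∃ x z : K, (x : F) ^ 2 + (z : F) ^ 2 = r := by
  classical
  have hK2 : ringChar K ≠ 2 := by
    intro h
    refine h2 ?_
    have e : ((2 : ℕ) : K) = 0 := by rw [← h]; exact ringChar.Nat.cast_ringChar
    have := congrArg K.subtype e
    rwa [map_natCast, map_zero, Nat.cast_ofNat] at this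
  obtain ⟨x, z, h⟩ := FiniteField.exists_root_sum_quadratic (f := (Polynomial.X ^ 2 : Polynomial K))
    (g := Polynomial.X ^ 2 - Polynomial.C (⟨r, hr⟩ : K)) (Polynomial.degree_X_pow 2)
    (Polynomial.degree_X_pow_sub_C (by norm_num) _) (FiniteField.odd_card_of_char_ne_two hK2)
  refine ⟨x, z, ?_⟩
  simp only [Polynomial.eval_pow, Polynomial.eval_X, Polynomial.eval_sub, Polynomial.eval_C] at h
  have := congrArg K.subtype h
  simp only [map_add, map_sub, map_pow, map_zero, Subfield.subtype_apply] at this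
  linear_combination this

variable {P : Subgroup (Matrix (Fin 2) (Fin 2) (Matrix (Fin 2) (Fin 2) F))ˣ}

/-- A unipotent element in the kernel of the projection is trivial. -/
theorem Hyp.uq_one_eq (hP : Hyp P) {a : F} (h : In0 P (uq a) 1) : a = 0 := by
  by_contra ha
  obtain ⟨g, hg⟩ := h
  refine hP.noTv g.1 g.2 1 (Iso.sim ?_) a ha ?_
  · show st (1 : M4) * 1 = 1
    rw [st_one, one_mul]
  · rw [one_mul, inv_one, mul_one, hg]; rfl

/-- A rank one block translation is a transvection. -/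
theorem Hyp.false_of_block (hP : Hyp P) {G : P} {p q r α : F} (hα0 : α ≠ 0) (hpq : p * q = r * r)
    (hsum : p + q = 2 * α) (hGe : G.1.1 = !![1 + p • eq12, r • eq12; r • eq12, 1 + q • eq12]) : False := by
  have h2 := hP.two_ne
  have hc : (2 : F) * α ≠ 0 := mul_ne_zero h2 hα0
  by_cases hp0 : p = 0
  · have hr0 : r = 0 := by rwa [hp0, zero_mul, eq_comm, mul_self_eq_zero] at hpq
    have hq0 : q = 2 * α := by rw [← hsum, hp0, zero_add]
    let h : M4ˣ := ⟨uM 1, uM 1, uM_sq det_one, uM_sq det_one⟩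
    refine hP.noTv G.1 G.2 h (Iso.sim ?_) (2 * α) hc ?_
    · show st (uM 1) * uM 1 = 1
      rw [(W5.uM 1).adjoint]; exact uM_sq det_one
    · show uM 1 * G.1.1 * uM 1 = _
      rw [show G.1.1 = dg (1 : M2) (uq (2 * α)) by
          rw [hGe, hp0, hr0, hq0, uq_eq]; simp [dg],
        uM_one_dg]
      rfl
  · have hn : p * p + r * r ≠ 0 := by
      rw [← hpq, ← mul_add, hsum]; exact mul_ne_zero hp0 hc
    let h : M4ˣ := ⟨sc p r (-r) p, (p * p + r * r)⁻¹ • sc p (-r) r p, by
        ext1 i j; fin_cases i <;> fin_cases j <;>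
          simp [sc, Matrix.mul_apply, Fin.sum_univ_two, smul_smul] <;>
          (match_scalars <;> first | ring1 | linear_combination inv_mul_cancel₀ hn), by
        ext1 i j; fin_cases i <;> fin_cases j <;>
          simp [sc, Matrix.mul_apply, Fin.sum_univ_two, smul_smul] <;>
          (match_scalars <;> first | ring1 | linear_combination inv_mul_cancel₀ hn)⟩
    refine hP.noTv G.1 G.2 h ?_ (2 * α) hc ?_
    · refine ⟨p * p + r * r, hn, ?_⟩
      show st (sc p r (-r) p) * sc p r (-r) p = _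
      ext1 i j
      fin_cases i <;> fin_cases j <;>
        simp [sc, st_apply, Matrix.mul_apply, Fin.sum_univ_two, adj_smul, adj_neg, adjugate_one, smul_smul]
      all_goals (match_scalars <;> ring)
    · have key : h.1 * G.1.1 = dg !![1, 2 * α; 0, 1] 1 * h.1 := by
        show sc p r (-r) p * G.1.1 = dg (uq (2 * α)) 1 * sc p r (-r) p
        rw [hGe, uq_eq]
        ext1 i j
        fin_cases i <;> fin_cases j <;>
          simp [sc, dg, Matrix.mul_apply, Fin.sum_univ_two, smul_smul]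
        all_goals (first | (rw [← hsum]; module) | (match_scalars <;> first | ring1 | linear_combination hpq | linear_combination p * hsum - hpq | linear_combination r * hsum) | (match_scalars <;> ring))
      rw [Units.val_mul, Units.val_mul, key, mul_assoc, Units.mul_inv, mul_one]


/-- The conjugate of a twisted translation. -/
theorem twisted_conj {f s : P} {k α X Y : F}
    (hs : s.1.1 = dg (uq (k * X)) (uq (-(k * Y))))
    (hfN : cj f (dg (X • eq12) (Y • eq12) : M4) = dg (α • eq12) (α • eq12))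
    (hft : cj f (tM : M4) = uM 1) :
    (f * s * f⁻¹).1.1 = 1 + !![0, (k * α) • eq12; (k * α) • eq12, 0] := by
  have e0 : dg (uq (k * X) : M2) (uq (-(k * Y))) = 1 + k • (dg (X • eq12) (Y • eq12) * tM) := by
    rw [uq_eq, uq_eq, ← dg_one, tM_eq, dg_mul, mul_one, mul_neg, mul_one]
    ext1 i j
    fin_cases i <;> fin_cases j <;> simp [dg, smul_smul]
  have e1 : (f * s * f⁻¹).1.1 = cj f s.1.1 := (cj_coe f s).symm
  rw [e1, hs, e0, cj_add, cj_smul, cj_mul_mat, hfN, hft, show cj f (1 : M4) = 1 by simp [cj]]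
  refine congrArg _ ?_
  rw [uM_eq]
  ext1 i j
  fin_cases i <;> fin_cases j <;> simp [dg, smul_smul, adjugate_one]

/-- Twisted translations give a transvection. -/
theorem Normal.false_of_translation {C : Ctx P} (hN : Normal C) (δ : F) (hδ : δ ≠ 0)
    (hA : ∃ a b : F, a ≠ 0 ∧ In0 P (uq a) (uq b))
    (hδA : ∀ a b : F, In0 P (uq a) (uq b) → In0 P (uq (δ * a)) (uq (-(δ * b))))
    (hconj : ∀ a b : M2, In0 P a b → (a - 1) * (a - 1) = 0 → (b - 1) * (b - 1) = 0 →
      ∃ c d : M2, In0 P c d ∧ (∃ x, c * a * c.adjugate = uq x) ∧ ∃ y, d * b * d.adjugate = uq y) : False := by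
  classical
  have hP := C.hP
  have h2 := hP.two_ne
  let Tr : F → F → Prop := fun a b => In0 P (uq a) (uq b)
  have add : ∀ {a b c d : F}, Tr a b → Tr c d → Tr (a + c) (b + d) := fun {a b c d} h h' => by
    have := In0.mul h h'
    rwa [uq_mul, uq_mul] at this
  have neg : ∀ {a b : F}, Tr a b → Tr (-a) (-b) := fun {a b} h => by
    have := hP.in0_adj h
    rwa [adj_uq, adj_uq] at this
  have swap : ∀ {a b : F}, Tr a b → Tr b a := fun h => hN.in0_swap h
  obtain ⟨α, hα0, hα⟩ : ∃ α : F, α ≠ 0 ∧ Tr α α := by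
    obtain ⟨a, b, ha, hab⟩ := hA
    by_cases h : a + b = 0
    · refine ⟨δ * a, mul_ne_zero hδ ha, ?_⟩
      have := hδA a b hab
      rwa [show -(δ * b) = δ * a by linear_combination -δ * h] at this
    · refine ⟨a + b, h, ?_⟩
      have h' : Tr (a + b) (b + a) := add hab (swap hab)
      rwa [add_comm b a] at h'
  let R : Subring F :=
    { carrier := {c | ∀ a b, Tr a b → Tr (c * a) (c * b)}
      one_mem' := fun a b h => by rwa [one_mul, one_mul]
      mul_mem' := fun {c d} hc hd a b h => by rw [mul_assoc, mul_assoc]; exact hc _ _ (hd a b h)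
      zero_mem' := fun a b h => by
        show Tr (0 * a) (0 * b)
        rw [zero_mul, zero_mul]
        show In0 P (uq (0 : F)) (uq 0)
        rw [uq_zero]; exact In0.one
      add_mem' := fun {c d} hc hd a b h => by rw [add_mul, add_mul]; exact add (hc a b h) (hd a b h)
      neg_mem' := fun {c} hc a b h => by rw [neg_mul, neg_mul]; exact neg (hc a b h) }
  let K : Subfield F :=
    { R with
      inv_mem' := fun c hc => by
        by_cases h0 : c = 0
        · rw [h0, _root_.inv_zero]; exact R.zero_mem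
        · have e : c⁻¹ = c ^ (Fintype.card F - 2) := by
            refine inv_eq_of_mul_eq_one_right ?_
            have hc2 := Fintype.one_lt_card (α := F)
            rw [← pow_succ', show Fintype.card F - 2 + 1 = Fintype.card F - 1 by omega]
            exact FiniteField.pow_card_sub_one_eq_one c h0
          rw [e]; exact R.pow_mem hc _ }
  have hδ2 : δ * δ ∈ K := fun a b h => by
    have := hδA _ _ (hδA a b h)
    rwa [show -(δ * -(δ * b)) = δ * δ * b by ring, ← mul_assoc] at this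
  obtain ⟨x, z, hxz⟩ := exists_sq_add_sq h2 K (K.inv_mem hδ2)
  -- the diagonal translations
  obtain ⟨w, hw⟩ := hα
  obtain ⟨g, hg⟩ := hN.swap.1
  rw [hN.base] at hg
  have hcw : cj w (uM (1 : M2)) = uM 1 := by
    rw [hP.cj_uM hw, adj_uq, mul_one, uq_mul, add_neg_cancel, uq_zero]
  have hw' : cj (g⁻¹ * w * g) (tM : M4) = tM := by
    rw [cj_mul, cj_mul, ← hg, hcw, hg, cj_inv_cj]
  obtain ⟨a, b, hab⟩ := Normal.in0_of_comm hw' hP
  have hN0 : (w.1.1 - 1) * (w.1.1 - 1) = 0 := by
    rw [hw, ← dg_one]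
    have e : dg (uq α : M2) (uq α) - dg 1 1 = dg (uq α - 1) (uq α - 1) := by
      ext1 i j; fin_cases i <;> fin_cases j <;> simp [dg]
    rw [e, dg_mul, uq_sub_sq]
    ext1 i j; fin_cases i <;> fin_cases j <;> simp [dg]
  have hunip : (a - 1) * (a - 1) = 0 ∧ (b - 1) * (b - 1) = 0 := by
    have e : (g⁻¹ * w * g).1.1 - 1 = (g.1⁻¹).1 * (w.1.1 - 1) * g.1.1 := by
      simp only [Subgroup.coe_mul, Subgroup.coe_inv, Units.val_mul, mul_sub, sub_mul, mul_one, Units.inv_mul]
    have h0 : ((g⁻¹ * w * g).1.1 - 1) * ((g⁻¹ * w * g).1.1 - 1) = 0 := by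
      rw [e, show (g.1⁻¹).1 * (w.1.1 - 1) * g.1.1 * ((g.1⁻¹).1 * (w.1.1 - 1) * g.1.1) =
        (g.1⁻¹).1 * ((w.1.1 - 1) * (w.1.1 - 1)) * g.1.1 by simp [mul_assoc], hN0, mul_zero, zero_mul]
    rw [hab, ← dg_one, show dg a b - dg (1 : M2) 1 = dg (a - 1) (b - 1) by
      ext1 i j; fin_cases i <;> fin_cases j <;> simp [dg], dg_mul] at h0
    exact ⟨congr_fun₂ h0 0 0, congr_fun₂ h0 1 1⟩
  obtain ⟨c, d, ⟨e, he⟩, ⟨X, hX⟩, ⟨Y, hY⟩⟩ := hconj a b ⟨_, hab⟩ hunip.1 hunip.2
  obtain ⟨hdc, hdd⟩ := hP.in0_det ⟨e, he⟩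
  set f := g * e⁻¹ with hf
  have hei : (e.1⁻¹).1 = dg c.adjugate d.adjugate := Units.inv_eq_of_mul_eq_one_right (by
    rw [he, dg_mul, (adj_inv hdc).1, (adj_inv hdd).1, dg_one])
  have hfw : (f⁻¹ * w * f).1.1 = dg (uq X) (uq Y) := by
    rw [show f⁻¹ * w * f = e * (g⁻¹ * w * g) * e⁻¹ by rw [hf]; group]
    simp only [Subgroup.coe_mul, Subgroup.coe_inv, Units.val_mul] at hab ⊢
    rw [hab, he, hei, dg_mul, dg_mul, hX, hY]
  have hft : cj f (tM : M4) = uM 1 := by
    rw [hf, cj_mul]
    have : cj e⁻¹ (tM : M4) = tM := by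
      conv_lhs => rw [← hP.cj_tM he, cj_inv_cj]
    rw [this, ← hg]
  -- the map of nilpotent parts
  let N : F → F → M4 := fun a b => dg (a • eq12) (b • eq12)
  have hdgN : ∀ a b : F, dg (uq a : M2) (uq b) = 1 + N a b := fun a b => by
    rw [uq_eq, uq_eq, ← dg_one]
    ext1 i j; fin_cases i <;> fin_cases j <;> simp [N, dg]
  have hNsmul : ∀ k a b : F, N (k * a) (k * b) = k • N a b := fun k a b => by
    ext1 i j; fin_cases i <;> fin_cases j <;> simp [N, dg, smul_smul]
  have hNt : ∀ a b : F, N a (-b) = N a b * tM := fun a b => by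
    rw [tM_eq]; show _ = dg _ _ * dg 1 (-1)
    rw [dg_mul, mul_one, mul_neg, mul_one, ← neg_smul]
  have hfN : cj f (N X Y) = N α α := by
    have h1 : f.1.1 * (f⁻¹ * w * f).1.1 * (f.1⁻¹).1 = w.1.1 := by
      simp only [Subgroup.coe_mul, Subgroup.coe_inv, Units.val_mul, mul_assoc, Units.mul_inv, mul_one]
      rw [← mul_assoc, Units.mul_inv, one_mul]
    rw [hfw, hdgN, hw, hdgN, mul_add, add_mul, mul_one, Units.mul_inv] at h1
    exact add_left_cancel h1
  have hXY : Tr X Y := ⟨_, hfw⟩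
  -- the translation across the base vector
  obtain ⟨s, hs⟩ : ∃ s : P, s.1.1 = dg (uq (δ * (z * X))) (uq (-(δ * (z * Y)))) := hδA _ _ (z.2 X Y hXY)
  set r := δ * (z : F) * α with hr
  have hs' : (f * s * f⁻¹).1.1 = 1 + !![0, r • eq12; r • eq12, 0] :=
    twisted_conj (k := δ * (z : F)) (X := X) (Y := Y) (by rw [hs, mul_assoc, mul_assoc]) hfN hft
  -- the diagonal translation
  set p := α * (1 + δ * x) with hp
  set q := α * (1 - δ * x) with hq
  obtain ⟨s₁, hs₁⟩ : ∃ s : P, s.1.1 = dg (uq p) (uq q) := by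
    have h1 : Tr (δ * (x * α)) (-(δ * (x * α))) := hδA _ _ (x.2 α α ⟨w, hw⟩)
    have h' := add (show Tr α α from ⟨w, hw⟩) h1
    rwa [show α + δ * (x * α) = p by rw [hp]; ring, show α + -(δ * (x * α)) = q by rw [hq]; ring] at h'
  have hpq : p * q = r * r := by
    rw [hp, hq, hr]
    have hd : δ * δ ≠ 0 := mul_ne_zero hδ hδ
    have e1 : δ * δ * ((x : F) ^ 2 + (z : F) ^ 2) = 1 := by rw [hxz, mul_inv_cancel₀ hd]
    linear_combination (-(α * α)) * e1
  have hsum : p + q = 2 * α := by rw [hp, hq]; ring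
  set G := s₁ * (f * s * f⁻¹) with hG
  have hGe : G.1.1 = !![1 + p • eq12, r • eq12; r • eq12, 1 + q • eq12] := by
    rw [hG, Subgroup.coe_mul, Units.val_mul, hs₁, hs', uq_eq, uq_eq]
    ext1 i j
    fin_cases i <;> fin_cases j <;>
      simp [dg, Matrix.mul_apply, Fin.sum_univ_two, mul_add, add_mul, eq12_sq]
  exact hP.false_of_block hα0 hpq hsum hGe

end CfsgLib.Sp4Odd
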