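import Cfsg.Agent.Lib.Sp4Odd.Glue
import Cfsg.Agent.Lib.Sp4Odd.Sign
import Cfsg.Agent.Lib.Sp4Odd.Translation

/-!
The projection cannot be triangular.
-/

set_option autoImplicit false
set_option maxHeartbeats 400000

namespace CfsgLib.Sp4Odd

open Matrix

variable {F : Type*} [Field F]

local notation "M2" => Matrix (Fin 2) (Fin 2) F
local notation "M4" => Matrix (Fin 2) (Fin 2) (Matrix (Fin 2) (Fin 2) F)

theorem upper_mul {a b : M2} (ha : a 1 0 = 0) (hb : b 1 0 = 0) :
    (a * b) 1 0 = 0 ∧ (a * b) 0 0 = a 0 0 * b 0 0 ∧ (a * b) 1 1 = a 1 1 * b 1 1 := by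
  simp [Matrix.mul_apply, Fin.sum_univ_two, ha, hb]

theorem upper_pow {a : M2} (ha : a 1 0 = 0) (n : ℕ) :
    (a ^ n) 1 0 = 0 ∧ (a ^ n) 0 0 = a 0 0 ^ n ∧ (a ^ n) 1 1 = a 1 1 ^ n := by
  induction n with
  | zero => simp
  | succ n ih =>
    obtain ⟨h1, h2, h3⟩ := upper_mul ih.1 ha
    rw [pow_succ, pow_succ, pow_succ]
    exact ⟨h1, h2.trans (by rw [ih.2.1]), h3.trans (by rw [ih.2.2])⟩

theorem eq_uq_of_upper {a : M2} (h : a 1 0 = 0) (h0 : a 0 0 = 1) (h1 : a 1 1 = 1) : a = uq (a 0 1) := by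
  ext i j; fin_cases i <;> fin_cases j <;> simp [uq, h, h0, h1]

theorem uq_pow (x : F) (n : ℕ) : (uq x : M2) ^ n = uq (n * x) := by
  induction n with
  | zero => rw [pow_zero, Nat.cast_zero, zero_mul, uq_zero]
  | succ n ih => rw [pow_succ, ih, uq_mul]; push_cast; rw [add_mul, one_mul]

theorem upper_conj_uq {a : M2} (ha : a 1 0 = 0) (hd : a.det = 1) (x : F) :
    a * uq x * a.adjugate = uq (a 0 0 * a 0 0 * x) := by
  rw [det_fin_two, ha, mul_zero, sub_zero] at hd
  ext i j
  fin_cases i <;> fin_cases j <;> simp [uq, adjugate_fin_two, Matrix.mul_apply, Fin.sum_univ_two, ha]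
  · linear_combination hd
  · ring
  · linear_combination hd

variable [Fintype F] {P : Subgroup (Matrix (Fin 2) (Fin 2) (Matrix (Fin 2) (Fin 2) F))ˣ}

/-- The projection cannot be triangular with a unipotent element. -/
theorem Normal.false_of_upper {C : Ctx P} (hN : Normal C) (hup : ∀ a, InG P a → a 1 0 = 0)
    (hU : ∃ x : F, x ≠ 0 ∧ InG P (uq x)) : False := by
  classical
  have hP := C.hP
  have h2 := hP.two_ne
  have upr : ∀ {a b : M2}, In0 P a b → a 1 0 = 0 ∧ b 1 0 = 0 := fun h =>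
    ⟨hup _ ⟨_, h⟩, hup _ ⟨_, hN.in0_swap h⟩⟩
  have hne : ∀ {a b : M2}, In0 P a b → a 0 0 * a 1 1 = 1 := fun {a b} h => by
    have := (hP.in0_det h).1
    rwa [det_fin_two, (upr h).1, mul_zero, sub_zero] at this
  by_cases hex : ∃ a b, In0 P a b ∧ a 0 0 ^ 2 ≠ b 0 0 ^ 2
  · obtain ⟨a, b, hab, hd⟩ := hex
    refine hN.false_of_translation (a 0 0 ^ 2 - b 0 0 ^ 2) (sub_ne_zero.2 hd) ?_ ?_ ?_
    · obtain ⟨x, hx, y, hxy⟩ := hU
      have h := hxy.pow (Fintype.card F - 1)
      obtain ⟨hy1, hy0, hy11⟩ := upper_pow (upr hxy).2 (Fintype.card F - 1)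
      have hyd := (hP.in0_det hxy).2
      rw [det_fin_two, (upr hxy).2, mul_zero, sub_zero] at hyd
      rw [FiniteField.pow_card_sub_one_eq_one _ (left_ne_zero_of_mul_eq_one hyd)] at hy0
      rw [FiniteField.pow_card_sub_one_eq_one _ (right_ne_zero_of_mul_eq_one hyd)] at hy11
      rw [uq_pow, eq_uq_of_upper hy1 hy0 hy11,
        Nat.cast_sub (Fintype.card_pos : 0 < Fintype.card F), FiniteField.cast_card_eq_zero, zero_sub,
        Nat.cast_one, neg_one_mul] at h
      exact ⟨-x, _, neg_ne_zero.2 hx, h⟩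
    · intro x y h
      have conj : ∀ {c d : M2}, In0 P c d → In0 P (uq (c 0 0 * c 0 0 * x)) (uq (d 0 0 * d 0 0 * y)) := fun {c d} hc => by
        have := (hc.mul h).mul (hP.in0_adj hc)
        rwa [upper_conj_uq (upr hc).1 (hP.in0_det hc).1, upper_conj_uq (upr hc).2 (hP.in0_det hc).2] at this
      have := (conj hab).mul (hP.in0_adj (conj (hN.in0_swap hab)))
      rw [adj_uq, adj_uq, uq_mul, uq_mul] at this
      convert this using 2 <;> ring
    · intro c d h hc hd
      have key : ∀ {e : M2}, e 1 0 = 0 → (e - 1) * (e - 1) = 0 → e = uq (e 0 1) := fun {e} he hs => by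
        refine eq_uq_of_upper he ?_ ?_
        · have := congr_fun₂ hs 0 0
          simp [Matrix.mul_apply, Fin.sum_univ_two, he] at this
          exact sub_eq_zero.1 this
        · have := congr_fun₂ hs 1 1
          simp [Matrix.mul_apply, Fin.sum_univ_two, he] at this
          exact sub_eq_zero.1 this
      exact ⟨1, 1, In0.one, ⟨_, by rw [one_mul, adjugate_one, mul_one]; exact key (upr h).1 hc⟩,
        ⟨_, by rw [one_mul, adjugate_one, mul_one]; exact key (upr h).2 hd⟩⟩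
  · push Not at hex
    obtain ⟨C', -, hN', hu⟩ := hN.exists_swap_mem
    refine hN'.false_of_sign hu (fun a b => a 0 0 = b 0 0) rfl rfl ?_ ?_ ?_ ?_
    · intro a b h
      rcases sq_eq_sq_iff_eq_or_eq_neg.1 (hex a b h.in0) with e | e
      · exact Or.inl e
      · exact Or.inr (by rwa [Matrix.neg_apply])
    · intro a b h e e'
      rw [Matrix.neg_apply, ← e] at e'
      have : (2 : F) * a 0 0 = 0 := by linear_combination e'
      exact left_ne_zero_of_mul_eq_one (hne h.in0) ((mul_eq_zero.1 this).resolve_left h2)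
    · intro a b c d h h' e e'
      show (a * c) 0 0 = (b * d) 0 0
      rw [(upper_mul (upr h.in0).1 (upr h'.in0).1).2.1, (upper_mul (upr h.in0).2 (upr h'.in0).2).2.1, e, e']
    · exact fun a b _ e => e.symm

end CfsgLib.Sp4Odd
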