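import Cfsg.Agent.Lib.Sp4Odd.Setting
import Cfsg.Agent.Lib.Sp4Odd.Q.Main
import Cfsg.Agent.Lib.Sp4Odd.R1.Main

/-!
The maximal subgroups of the four-dimensional symplectic group in the residual class: reduction to subgroups
without transvections and with a non-central involution, read as two-by-two matrices over two-by-two matrices.
-/

set_option autoImplicit false

namespace CfsgLib.Sp4Odd.Bridge

open Matrix

variable {F : Type*} [Field F]

local notation "S4" => (Fin 2 ⊕ Fin 2)
local notation "M4" => Matrix (Fin 2) (Fin 2) (Matrix (Fin 2) (Fin 2) F)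
local notation "G4" => Matrix.GeneralLinearGroup (Fin 2 ⊕ Fin 2) F
local notation "Zs" => Cfsg.Geo.scalars (Fin 2 ⊕ Fin 2) F

/-- The `k`th coordinate of the `i`th hyperbolic pair. -/
def pr (i k : Fin 2) : S4 := if k = 0 then Sum.inl i else Sum.inr i

/-- The inverse of `pr`. -/
def ix : S4 → Fin 2 × Fin 2
  | Sum.inl i => (i, 0)
  | Sum.inr i => (i, 1)

theorem pr_ix (a : S4) : pr (ix a).1 (ix a).2 = a := by rcases a with i | i <;> simp [pr, ix]

theorem ix_pr (i k : Fin 2) : ix (pr i k) = (i, k) := by fin_cases k <;> simp [pr, ix]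

/-- The matrices as two-by-two matrices over two-by-two matrices, one index for each hyperbolic pair. -/
def blk : Matrix S4 S4 F ≃+* M4 where
  toFun A := of fun i j => of fun k l => A (pr i k) (pr j l)
  invFun B := of fun a b => B (ix a).1 (ix b).1 (ix a).2 (ix b).2
  left_inv A := by ext a b; simp [pr_ix]
  right_inv B := by ext i j k l; simp [ix_pr]
  map_add' A B := by ext i j k l; simp
  map_mul' A B := by
    ext i j k l
    simp [mul_apply, pr, Fintype.sum_sum_type, Fin.sum_univ_two, Matrix.sum_apply]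
    ring

theorem st_blk (A : Matrix S4 S4 F) : st (blk A) = blk (Q.adjS A) := by
  ext i j k l
  fin_cases i <;> fin_cases j <;> fin_cases k <;> fin_cases l <;>
    simp [blk, pr, st_apply, Q.adjS, adjugate_fin_two, mul_apply, Matrix.J, Fintype.sum_sum_type]

/-- The groups. -/
def blkU : G4 ≃* M4ˣ := Units.mapEquiv blk.toMulEquiv

theorem blkU_val (g : G4) : (blkU g).1 = blk g.1 := rfl

theorem blkU_neg_one : blkU (-1 : G4) = (-1 : M4ˣ) :=
  Units.ext (by rw [blkU_val, Units.val_neg, Units.val_one, map_neg, map_one]; rfl)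

theorem blk_symm_tv (c : F) (x : S4 → F) :
    (blk.symm (dg !![1, c; 0, 1] 1)) *ᵥ x = x + (c * x (Sum.inr 0)) • Pi.single (Sum.inl 0) 1 := by
  ext a
  rcases a with i | i <;> fin_cases i <;>
    simp [blk, ix, dg, mulVec, dotProduct, Fintype.sum_sum_type, Fin.sum_univ_two]

theorem scalar_cases {g : G4} (hg : g ∈ Cfsg.spGL 2 F) (hs : g ∈ Zs) : g = 1 ∨ g = -1 := by
  obtain ⟨c, hc⟩ := (Cfsg.Geo.mem_scalars_iff g).1 hs
  have h := Q.adjS_mul_self hg
  rw [hc, Q.adjS_smul, Q.adjS_one, smul_mul_smul_comm, one_mul] at h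
  have hcc : (c : F) * c = 1 := by simpa using congrFun (congrFun h (Sum.inl 0)) (Sum.inl 0)
  rcases mul_self_eq_one_iff.1 hcc with e | e
  · left; exact Units.ext (by rw [hc, e, one_smul]; rfl)
  · right; exact Units.ext (by rw [hc, e, neg_one_smul]; rfl)

variable [Fintype F]

theorem normal_cases {H P : Subgroup G4} (hres : Cfsg.Geo.IsResidualCore H P) (N : Subgroup P) [N.Normal] :
    N ≤ Subgroup.subgroupOf Zs P ∨ N = ⊤ := by
  haveI := hres.simple
  haveI : Group.IsPerfect P := ⟨Subgroup.map_injective P.subtype_injective (by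
    rw [Subgroup.map_subtype_commutator, ← MonoidHom.range_eq_map, Subgroup.range_subtype]; exact hres.perfect)⟩
  rcases (Subgroup.Normal.map (inferInstance : N.Normal) (QuotientGroup.mk' (Subgroup.subgroupOf Zs P))
    (QuotientGroup.mk'_surjective _)).eq_bot_or_eq_top with h | h
  · left
    rwa [← QuotientGroup.ker_mk' (Subgroup.subgroupOf Zs P), ← Subgroup.map_eq_bot_iff]
  · right
    have hsup : N ⊔ Subgroup.subgroupOf Zs P = ⊤ := by
      have := congrArg (Subgroup.comap (QuotientGroup.mk' (Subgroup.subgroupOf Zs P))) h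
      rwa [Subgroup.comap_map_eq, QuotientGroup.ker_mk', Subgroup.comap_top] at this
    have hcomm : ∀ a b : P ⧸ N, a * b = b * a := by
      intro a b
      obtain ⟨x, rfl⟩ := QuotientGroup.mk'_surjective N a
      obtain ⟨y, rfl⟩ := QuotientGroup.mk'_surjective N b
      obtain ⟨n, hn, z, hz, rfl⟩ := Subgroup.mem_sup_of_normal_left.1 (hsup ▸ Subgroup.mem_top x)
      have h1 : QuotientGroup.mk' N n = 1 := (QuotientGroup.eq_one_iff n).2 hn
      have hzy : z * y = y * z := by
        obtain ⟨c, hc⟩ := (Cfsg.Geo.mem_scalars_iff z.1).1 hz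
        exact Subtype.ext (Units.ext (by simp [hc]))
      rw [map_mul, h1, one_mul, ← map_mul, ← map_mul, hzy]
    haveI : IsMulCommutative (P ⧸ N) := ⟨⟨hcomm⟩⟩
    haveI : Group.IsPerfect (P ⧸ N) :=
      Group.IsPerfect.ofSurjective (f := QuotientGroup.mk' N) (QuotientGroup.mk'_surjective N)
    have : Subsingleton (P ⧸ N) := Group.IsPerfect.subsingleton_of_isMulCommutative
    exact QuotientGroup.subgroup_eq_top_of_subsingleton N this

theorem hyp_of (hodd : Odd (Fintype.card F)) {H P : Subgroup G4}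
    (hH : Cfsg.Geo.IsMaximalIn (Cfsg.spGL 2 F) H) (hres : Cfsg.Geo.IsResidualCore H P) (h2 : (2 : F) ≠ 0)
    {g : G4} (hg : g ∈ P) (hg2 : g * g = 1) (hg1 : g ≠ 1) (hgn : g.1 ≠ -1) :
    Hyp (P.map (blkU (F := F)).toMonoidHom) where
  two_ne := h2
  iso := by
    rintro _ ⟨x, hx, rfl⟩
    show st (blk x.1) * blk x.1 = 1
    rw [st_blk, ← map_mul, Q.adjS_mul_self (hres.le.trans hH.1.le hx), map_one]
  perfect := by rw [← Subgroup.map_commutator, hres.perfect]
  simple N hN hnorm := by
    let M := (N.comap (blkU (F := F)).toMonoidHom).subgroupOf P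
    haveI : M.Normal := ⟨fun m hm x => by
      show blkU ((x * m * x⁻¹ : P) : G4) ∈ N
      simp only [Subgroup.coe_mul, Subgroup.coe_inv, map_mul, map_inv]
      exact hnorm _ ⟨x.1, x.2, rfl⟩ _ hm⟩
    rcases normal_cases hres M with h | h
    · left
      intro n hn
      obtain ⟨x, hx, rfl⟩ := hN hn
      rcases scalar_cases (hres.le.trans hH.1.le hx) (h (show (⟨x, hx⟩ : P) ∈ M from hn)) with rfl | rfl
      · exact Or.inl (map_one _)
      · exact Or.inr blkU_neg_one
    · right
      refine le_antisymm hN ?_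
      rintro _ ⟨x, hx, rfl⟩
      exact show (⟨x, hx⟩ : P) ∈ M from h ▸ Subgroup.mem_top _
  noTv := by
    rintro _ ⟨x, hx, rfl⟩ h - c hc he
    obtain ⟨k, rfl⟩ := (blkU (F := F)).surjective h
    have hk : (k * x * k⁻¹).1 = blk.symm (dg !![1, c; 0, 1] 1) := by
      rw [← he]
      simp [← map_mul, ← map_inv, blkU_val]
    refine R1.transvection_case' hodd hH hres hx (v := (k⁻¹).1 *ᵥ Pi.single (Sum.inl 0) 1) ?_ fun y => ?_
    · rintro rfl
      rw [mul_one, mul_inv_cancel, Units.val_one] at hk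
      have := congrFun (congrFun hk (Sum.inl 0)) (Sum.inr 0)
      simp [blk, ix, dg] at this
      exact hc this.symm
    · refine ⟨c * (k.1 *ᵥ y) (Sum.inr 0), ?_⟩
      have hx' : x.1 = (k⁻¹).1 * (k * x * k⁻¹).1 * k.1 := by simp [mul_assoc]
      rw [hx', hk, ← mulVec_mulVec, ← mulVec_mulVec, blk_symm_tv, mulVec_add, mulVec_smul, mulVec_mulVec,
        Units.inv_mul, one_mulVec]
  exists_inv := by
    refine ⟨blkU g, ⟨g, hg, rfl⟩, by rw [← map_mul, hg2, map_one], ?_, ?_⟩
    · exact fun e => hg1 ((blkU (F := F)).injective (by rw [e, map_one]))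
    · refine fun e => hgn ?_
      rw [(blkU (F := F)).injective (e.trans blkU_neg_one.symm), Units.val_neg, Units.val_one]

/-- The residual class, given that there is no group as in `Hyp`. -/
theorem residual_of (hfalse : ∀ P : Subgroup M4ˣ, Hyp P → False) (hodd : Odd (Fintype.card F)) {H : Subgroup G4}
    (hH : Cfsg.Geo.IsMaximalIn (Cfsg.spGL 2 F) H) (hS : Cfsg.Geo.InSymplecticResidualClass H) :
    ∃ (P : Subgroup G4) (p : ℕ), Cfsg.Geo.IsResidualCore H P ∧ p.Prime ∧ CharP F p ∧
    ((Nonempty ((P ⧸ Subgroup.subgroupOf Zs P) ≃* alternatingGroup (Fin 6)) ∧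
        Fintype.card F = p ∧ 5 ≤ p ∧ p ≠ 7) ∨
     (Nonempty ((P ⧸ Subgroup.subgroupOf Zs P) ≃* alternatingGroup (Fin 7)) ∧ Fintype.card F = 7) ∨
     (Nonempty ((P ⧸ Subgroup.subgroupOf Zs P) ≃* Matrix.ProjectiveSpecialLinearGroup (Fin 2) F) ∧
        5 ≤ p ∧ 7 < Fintype.card F)) := by
  classical
  obtain ⟨P, hres, -, -⟩ := hS
  obtain ⟨p, hchar⟩ := CharP.exists F
  haveI : Fact p.Prime := ⟨CharP.char_is_prime F p⟩
  have h2 : (2 : F) ≠ 0 := fun e => by
    have hp : p = 2 := (Nat.prime_dvd_prime_iff_eq Fact.out Nat.prime_two).1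
      ((CharP.cast_eq_zero_iff F p 2).1 (by exact_mod_cast e))
    obtain ⟨n, -, hn⟩ := FiniteField.card F p
    rw [hn, hp] at hodd
    exact Nat.not_even_iff_odd.2 hodd (Nat.even_pow.2 ⟨even_two, n.ne_zero⟩)
  by_cases hinv : ∀ g ∈ P, g * g = 1 → g = 1 ∨ (g : Matrix S4 S4 F) = -1
  · exact ⟨P, p, hres, Fact.out, hchar, Q.quaternion_case hodd hH hres hinv⟩
  push Not at hinv
  obtain ⟨g, hg, hg2, hg1, hgn⟩ := hinv
  exact (hfalse _ (hyp_of hodd hH hres h2 hg hg2 hg1 hgn)).elim

end CfsgLib.Sp4Odd.Bridge
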