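import Cfsg.Agent.Lib.Sp4Odd.Setting
import Cfsg.Agent.Lib.TransferExtremal
import Cfsg.Agent.Lib.RankTwoSylow.NormalFour
import Cfsg.Agent.S0112
import Cfsg.Agent.S0113

/-!
Lines fixed by a Sylow two-subgroup: existence, fusion in the normaliser, their odd number, and the extremal
form of transfer.
-/

set_option autoImplicit false
set_option maxHeartbeats 400000

namespace CfsgLib.Sp4Odd

open Matrix

section Grp

variable {G : Type*} [Group G] [Finite G]

omit [Finite G] in
/-- An element of order at most two generates a two-group. -/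
theorem isPGroup_zpowers_of_sq {x : G} (h : x * x = 1) : IsPGroup 2 (Subgroup.zpowers x) := by
  intro y
  obtain ⟨i, hi⟩ := Subgroup.mem_zpowers_iff.1 y.2
  refine ⟨1, Subtype.ext ?_⟩
  rw [Subgroup.coe_pow, ← hi, ← zpow_natCast, ← _root_.zpow_mul, mul_comm, _root_.zpow_mul]
  simp [pow_two, h]

omit [Finite G] in
/-- A two-element normalising a Sylow two-subgroup lies in it. -/
theorem mem_of_normalize (T : Sylow 2 G) {x : G} (hx : IsPGroup 2 (Subgroup.zpowers x))
    (hn : x ∈ Subgroup.normalizer ((T : Subgroup G) : Set G)) : x ∈ (T : Subgroup G) := by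
  have := T.3 (IsPGroup.to_sup_of_normal_right' hx T.2 (Subgroup.zpowers_le.2 hn)) le_sup_right
  exact this ▸ Subgroup.mem_sup_left (Subgroup.mem_zpowers _)

theorem exists_conj_into (T : Sylow 2 G) {H : Subgroup G} (hTH : (T : Subgroup G) ≤ H) {Q : Subgroup G}
    (hQ : IsPGroup 2 Q) (hQH : Q ≤ H) : ∃ c ∈ H, ∀ q ∈ Q, c * q * c⁻¹ ∈ (T : Subgroup G) := by
  haveI : Fact (Nat.Prime 2) := ⟨Nat.prime_two⟩
  obtain ⟨R, hR⟩ := (hQ.comap_subtype (K := H)).exists_le_sylow
  obtain ⟨c, hc⟩ := MulAction.exists_smul_eq H R (T.subtype hTH)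
  refine ⟨c.1, c.2, fun q hq => ?_⟩
  have hm : c * ⟨q, hQH hq⟩ * c⁻¹ ∈ ((T.subtype hTH : Sylow 2 H) : Subgroup H) := by
    rw [← hc, Sylow.coe_subgroup_smul]
    exact Subgroup.smul_mem_pointwise_smul (⟨q, hQH hq⟩ : H) (MulAut.conj c) _ (hR hq)
  exact hm

theorem mem_normalizer_of_conj (H : Subgroup G) {g : G} (h : ∀ x ∈ H, g * x * g⁻¹ ∈ H) :
    g ∈ Subgroup.normalizer (H : Set G) := by
  have hsub : H.map (MulAut.conj g).toMonoidHom ≤ H := by rintro _ ⟨x, hx, rfl⟩; exact h x hx
  have he : H.map (MulAut.conj g).toMonoidHom = H :=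
    Subgroup.eq_of_le_of_card_ge hsub (le_of_eq (Subgroup.card_map_of_injective (MulEquiv.injective _)).symm)
  rw [Subgroup.mem_normalizer_iff]
  refine fun x => ⟨h x, fun hx => ?_⟩
  rw [← he, Subgroup.mem_map] at hx
  obtain ⟨y, hy, e⟩ := hx
  rwa [← (MulAut.conj g).injective (a₁ := y) (a₂ := x) e]

theorem conj_mem_of_card (T C : Subgroup G) (hCT : C ≤ T) (hc : Nat.card T ≤ 2 * Nat.card C) {s c : G}
    (hs : s ∈ T) (hcC : c ∈ C) : s * c * s⁻¹ ∈ C := by
  have hi : (C.subgroupOf T).index ≤ 2 := by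
    have hm := Subgroup.card_mul_index (C.subgroupOf T)
    rw [Nat.card_congr (Subgroup.subgroupOfEquivOfLe hCT).toEquiv] at hm
    rw [← hm] at hc
    have := Nat.card_pos (α := C)
    nlinarith
  have hN : (C.subgroupOf T).Normal := by
    rcases Nat.lt_or_ge (C.subgroupOf T).index 2 with h' | h'
    · have h1 : (C.subgroupOf T).index = 1 := by
        have := Subgroup.index_ne_zero_of_finite (H := C.subgroupOf T)
        omega
      rw [Subgroup.index_eq_one.1 h1]; infer_instance
    · exact Subgroup.normal_of_index_eq_two (le_antisymm hi h')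
  exact hN.conj_mem ⟨c, hCT hcC⟩ hcC ⟨s, hs⟩

theorem card_le_two_mul (T C : Subgroup G) {s₀ : G}
    (h : ∀ s ∈ T, s ∉ C → s₀⁻¹ * s ∈ C) : Nat.card T ≤ 2 * Nat.card C := by
  classical
  let f : T → C × Bool := fun s => if h' : s.1 ∈ C then (⟨s.1, h'⟩, true) else (⟨s₀⁻¹ * s.1, h s.1 s.2 h'⟩, false)
  have hf : Function.Injective f := by
    intro a b e
    simp only [f] at e
    split_ifs at e with ha hb hb
    · exact Subtype.ext (congrArg (fun z => z.1.1) e)
    · exact absurd (congrArg Prod.snd e) (by simp)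
    · exact absurd (congrArg Prod.snd e) (by simp)
    · exact Subtype.ext (mul_left_cancel (congrArg (fun z => z.1.1) e))
  have := Nat.card_le_card_of_injective f hf
  rw [Nat.card_prod, Nat.card_eq_fintype_card (α := Bool), Fintype.card_bool] at this
  omega

theorem noIndexTwo_of_perfect (hG : commutator G = ⊤) (M : Subgroup G) (hM : M.Normal) : M.index ≠ 2 := by
  intro h2
  haveI := hM
  haveI : Fact (Nat.Prime 2) := ⟨Nat.prime_two⟩
  haveI := isCyclic_of_prime_card (α := G ⧸ M) (p := 2) (by rw [← h2]; rfl)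
  have hle : commutator G ≤ M := by
    rw [commutator_def, Subgroup.commutator_le]
    intro a _ b _
    rw [← QuotientGroup.eq_one_iff, commutatorElement_def]
    simp [IsCyclic.commGroup.mul_comm (a : G ⧸ M) b]
  rw [hG, top_le_iff] at hle
  rw [hle, Subgroup.index_top] at h2
  omega

end Grp

variable {F : Type*} [Field F] [Fintype F]

local notation "M4" => Matrix (Fin 2) (Fin 2) (Matrix (Fin 2) (Fin 2) F)

variable {P : Subgroup (Matrix (Fin 2) (Fin 2) (Matrix (Fin 2) (Fin 2) F))ˣ}

/-- The elements fixing a line. -/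
def cpm (P : Subgroup (Matrix (Fin 2) (Fin 2) (Matrix (Fin 2) (Fin 2) F))ˣ) (A : M4) : Subgroup P where
  carrier := {g | Same (cj g A) A}
  one_mem' := Or.inl (cj_one A)
  mul_mem' := by
    intro a b ha hb
    show Same (cj (a * b) A) A
    rw [cj_mul]
    exact (Same.cj a hb).trans ha
  inv_mem' := by
    intro a ha
    have h := Same.cj a⁻¹ ha
    rw [cj_inv_cj] at h
    exact h.symm

theorem mem_cpm {g : P} {A : M4} : g ∈ cpm P A ↔ Same (cj g A) A := Iff.rfl

/-- The Sylow subgroup fixes the line. -/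
def Fix (T : Sylow 2 P) (A : M4) : Prop := ∀ s ∈ (T : Subgroup P), Same (cj s A) A

theorem Fix.le {T : Sylow 2 P} {A : M4} (h : Fix T A) : (T : Subgroup P) ≤ cpm P A := h

theorem Fix.same {T : Sylow 2 P} {A B : M4} (h : Fix T A) (e : Same B A) : Fix T B := fun s hs =>
  (Same.cj s e).trans ((h s hs).trans e.symm)

theorem Hyp.negOne_mem (hP : Hyp P) (T : Sylow 2 P) : hP.negOne ∈ (T : Subgroup P) := by
  have hc : ∀ g : P, g * hP.negOne = hP.negOne * g := pm_comm (Or.inr rfl)
  exact mem_of_normalize T (isPGroup_zpowers_of_sq (Subtype.ext (by simp [Hyp.negOne])))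
    (Subgroup.centralizer_le_normalizer _ (Subgroup.mem_centralizer_iff.2 fun y _ => hc y))

theorem Red.sq' {x : P} (hx : Red P x.1.1) : x * x = 1 := Subtype.ext (Units.ext hx.sq)

theorem Fix.mem (hP : Hyp P) {T : Sylow 2 P} {x : P} (hx : Red P x.1.1) (h : Fix T x.1.1) :
    x ∈ (T : Subgroup P) := by
  refine mem_of_normalize T (isPGroup_zpowers_of_sq hx.sq') ?_
  rw [Subgroup.mem_normalizer_iff]
  have key : ∀ s ∈ (T : Subgroup P), x * s * x⁻¹ ∈ (T : Subgroup P) := by
    intro s hs
    have hi : x⁻¹ = x := inv_eq_of_mul_eq_one_right hx.sq'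
    have e : x * s * x⁻¹ = x * (s * x * s⁻¹) * s := by rw [hi]; group
    rw [e]
    have h1 := h s hs
    rw [cj_coe] at h1
    rcases h1 with h1 | h1
    · rw [show s * x * s⁻¹ = x from Subtype.ext (Units.ext h1), hx.sq', one_mul]; exact hs
    · rw [show s * x * s⁻¹ = hP.negOne * x from Subtype.ext (Units.ext (by simpa [Hyp.negOne] using h1)),
        ← mul_assoc, pm_comm (x := hP.negOne) (Or.inr rfl) x, mul_assoc hP.negOne, hx.sq', mul_one]
      exact mul_mem (hP.negOne_mem T) hs
  intro s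
  refine ⟨key s, fun hs => ?_⟩
  have := key _ hs
  have hi : x⁻¹ = x := inv_eq_of_mul_eq_one_right hx.sq'
  rw [hi] at this
  rwa [show x * (x * s * x) * x = x * x * s * (x * x) by group, hx.sq', one_mul, mul_one] at this

/-- A two-subgroup fixing a line fixed by the Sylow subgroup moves into it fixing the line. -/
theorem Fix.conj_into {T : Sylow 2 P} {A : M4} (h : Fix T A) {Q : Subgroup P} (hQ : IsPGroup 2 Q)
    (hQA : Q ≤ cpm P A) : ∃ c ∈ cpm P A, ∀ q ∈ Q, c * q * c⁻¹ ∈ (T : Subgroup P) :=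
  exists_conj_into T h.le hQ hQA

/-- Conjugate lines fixed by a Sylow subgroup are conjugate in its normaliser. -/
theorem Fix.burnside {T : Sylow 2 P} {A B : M4} (hA : Fix T A) (hB : Fix T B) {g : P} (hg : Same (cj g A) B) :
    ∃ n ∈ Subgroup.normalizer ((T : Subgroup P) : Set P), Same (cj n A) B := by
  haveI : Fact (Nat.Prime 2) := ⟨Nat.prime_two⟩
  have hle : (T : Subgroup P).map (MulAut.conj g).toMonoidHom ≤ cpm P B := by
    intro y hy
    obtain ⟨s, hs, rfl⟩ := Subgroup.mem_map.1 hy
    show Same (cj (g * s * g⁻¹) B) B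
    rw [cj_mul, cj_mul]
    refine (Same.cj g (Same.cj s (Same.cj g⁻¹ hg.symm))).trans ?_
    rw [cj_inv_cj]
    exact (Same.cj g (hA s hs)).trans hg
  obtain ⟨c, hc, hcT⟩ := hB.conj_into (T.2.map _) hle
  refine ⟨c * g, mem_normalizer_of_conj _ fun s hs => ?_, by rw [cj_mul]; exact (Same.cj c hg).trans hc⟩
  rw [show c * g * s * (c * g)⁻¹ = c * (g * s * g⁻¹) * c⁻¹ by group]
  exact hcT _ (Subgroup.mem_map_of_mem _ hs)

theorem Hyp.noIndexTwoP (hP : Hyp P) (M : Subgroup P) (hM : M.Normal) : M.index ≠ 2 :=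
  noIndexTwo_of_perfect hP.perfect' M hM

/-- The centraliser of an element in the Sylow subgroup. -/
def centIn (T : Sylow 2 P) (x : P) : Subgroup P := Subgroup.centralizer {x} ⊓ (T : Subgroup P)

/-- Transfer. -/
theorem Hyp.extremal (hP : Hyp P) (T : Sylow 2 P) {Q : Subgroup P} (hQ : Q ≤ (T : Subgroup P))
    (hQ2 : Q.relIndex (T : Subgroup P) = 2) {x : P} (hx : Red P x.1.1) :
    ∃ g : P, g * x * g⁻¹ ∈ Q ∧ Nat.card (centIn T x) ≤ Nat.card (centIn T (g * x * g⁻¹)) :=
  CfsgLib.TransferExtremal.exists_conj hP.noIndexTwoP T Q hQ hQ2 x (by rw [pow_two, hx.sq'])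

/-- A central line gives a centraliser of index at most two. -/
theorem Fix.relIndex_le (hP : Hyp P) {T : Sylow 2 P} {x : P} (hx : Red P x.1.1) (h : Fix T x.1.1) :
    Nat.card (T : Subgroup P) ≤ 2 * Nat.card (centIn T x) := by
  have key : ∀ s ∈ (T : Subgroup P), ∀ s' ∈ (T : Subgroup P), s ∉ centIn T x → s' ∉ centIn T x →
      s⁻¹ * s' ∈ centIn T x := by
    intro s hs s' hs' hsn hsn'
    have e : ∀ r ∈ (T : Subgroup P), r ∉ centIn T x → r * x * r⁻¹ = hP.negOne * x := by
      intro r hr hrn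
      have h1 := h r hr
      rw [cj_coe] at h1
      rcases h1 with h1 | h1
      · exact absurd ⟨Subgroup.mem_centralizer_singleton_iff.2
          (mul_inv_eq_iff_eq_mul.1 (Subtype.ext (Units.ext h1))), hr⟩ hrn
      · exact Subtype.ext (Units.ext (by simpa [Hyp.negOne] using h1))
    refine ⟨Subgroup.mem_centralizer_singleton_iff.2 ?_, Subgroup.mul_mem _ (Subgroup.inv_mem _ hs) hs'⟩
    have e1 := e s hs hsn
    have e2 := e s' hs' hsn'
    rw [← e2] at e1
    calc s⁻¹ * s' * x = s⁻¹ * (s' * x * s'⁻¹) * s' := by group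
      _ = x * (s⁻¹ * s') := by rw [← e1]; group
  by_cases hall : ∀ s ∈ (T : Subgroup P), s ∈ centIn T x
  · have := Subgroup.card_le_of_le (show (T : Subgroup P) ≤ centIn T x from hall)
    omega
  push Not at hall
  obtain ⟨s₀, hs₀, hs₀n⟩ := hall
  exact card_le_two_mul _ _ fun s hs hsn => key s₀ hs₀ s hs hs₀n hsn

/-- An involution of the Sylow subgroup with centraliser of index at most two spans a fixed line. -/
theorem Hyp.fix_of_index (hP : Hyp P) {T : Sylow 2 P} {x : P} (hx : Red P x.1.1) (hxT : x ∈ (T : Subgroup P))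
    (hc : Nat.card (T : Subgroup P) ≤ 2 * Nat.card (centIn T x)) : Fix T x.1.1 := by
  intro s hs
  haveI : Fact (Nat.Prime 2) := ⟨Nat.prime_two⟩
  have hxC : x ∈ centIn T x := ⟨Subgroup.mem_centralizer_singleton_iff.2 rfl, hxT⟩
  have hn : ∀ c ∈ centIn T x, s * c * s⁻¹ ∈ centIn T x := fun c hc' =>
    conj_mem_of_card _ _ inf_le_right hc hs hc'
  have h2 := hn x hxC
  have e : Same (cj x (cj s x.1.1)) (cj s x.1.1) := by
    left
    rw [cj_coe s x, cj_coe x]
    have := (Subgroup.mem_centralizer_singleton_iff.1 h2.1).symm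
    rw [show x * (s * x * s⁻¹) * x⁻¹ = s * x * s⁻¹ by rw [this, mul_inv_cancel_right]]
  have hr : Red P (cj s x.1.1) := hx.cj hP s
  rcases hx.same_or_orth hP hr e with h | h
  · exact h
  · exfalso
    have h1 := (hx.w5.anticomm_iff hP.two_ne hr.w5).2 h
    rw [cj_coe s x] at h1
    have hcomm := congrArg (fun y : P => y.1.1) (Subgroup.mem_centralizer_singleton_iff.1 h2.1)
    simp only [Subgroup.coe_mul, Units.val_mul] at hcomm
    simp only [Subgroup.coe_mul, Units.val_mul] at h1
    rw [hcomm] at h1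
    have h0 := two_ne_mat hP.two_ne h1
    rw [← Units.val_mul, ← Units.val_mul, ← Units.val_mul] at h0
    exact Units.ne_zero _ h0

theorem mem_pm_of_card_centralizer (hP : Hyp P) {A : Subgroup P} {x : P} (hx : Red P x.1.1)
    (hA : ∀ a ∈ A, a * a = 1 ∧ a * x = x * a) {a : P} (ha : a ∈ A) :
    a = 1 ∨ a = hP.negOne ∨ a = x ∨ a = hP.negOne * x := by
  obtain ⟨h2, hc⟩ := hA a ha
  rcases hP.invol (congrArg Subtype.val h2) with (h | h) | h
  · exact Or.inl (Subtype.ext h)
  · exact Or.inr (Or.inl (Subtype.ext h))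
  · rcases W5.comm_eq hP.two_ne hx.w5 h.w5 hx.sq h.sq (congrArg (fun y : P => y.1.1) hc.symm) with e | e
    · exact Or.inr (Or.inr (Or.inl (Subtype.ext (Units.ext e))))
    · exact Or.inr (Or.inr (Or.inr (Subtype.ext (Units.ext (by simpa [Hyp.negOne] using e)))))

theorem Hyp.rankTwo (hP : Hyp P) (T : Sylow 2 P) : Cfsg.PRankLE 2 2 (T : Subgroup P) := by
  intro A hA hA2
  by_cases hr : ∃ a ∈ A, Red P a.1.1.1
  · obtain ⟨x, hxA, hx⟩ := hr
    have hmem : ∀ a ∈ A.map (T : Subgroup P).subtype, a * a = 1 ∧ a * x.1 = x.1 * a := by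
      intro a ha
      obtain ⟨b, hb, rfl⟩ := Subgroup.mem_map.1 ha
      exact ⟨by rw [← pow_two, ← map_pow, hA2 b hb, map_one],
        congrArg Subtype.val (congrArg Subtype.val (hA.is_comm.comm ⟨b, hb⟩ ⟨x, hxA⟩))⟩
    have := Nat.card_mono (s := ((A.map (T : Subgroup P).subtype : Subgroup P) : Set P))
      (Set.toFinite {1, hP.negOne, x.1, hP.negOne * x.1}) (fun a ha => by
        simpa using mem_pm_of_card_centralizer hP hx hmem ha)
    rw [← Subgroup.card_map_of_injective (Subgroup.subtype_injective _)]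
    refine this.trans ?_
    rw [Nat.card_coe_set_eq]
    refine (Set.ncard_insert_le _ _).trans ?_
    refine Nat.succ_le_succ ((Set.ncard_insert_le _ _).trans (Nat.succ_le_succ ((Set.ncard_insert_le _ _).trans ?_)))
    simp
  · push Not at hr
    have hsub : ∀ a ∈ A.map (T : Subgroup P).subtype, a = 1 ∨ a = hP.negOne := by
      intro a ha
      obtain ⟨b, hb, rfl⟩ := Subgroup.mem_map.1 ha
      have hsq : b.1 * b.1 = 1 := by
        have := congrArg Subtype.val (hA2 b hb)
        rwa [Subgroup.coe_pow, pow_two] at this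
      rcases hP.invol (congrArg Subtype.val hsq) with (h | h) | h
      · exact Or.inl (Subtype.ext h)
      · exact Or.inr (Subtype.ext h)
      · exact absurd h (hr b hb)
    have := Nat.card_mono (s := ((A.map (T : Subgroup P).subtype : Subgroup P) : Set P))
      (Set.toFinite {1, hP.negOne}) (fun a ha => by simpa using hsub a ha)
    rw [← Subgroup.card_map_of_injective (Subgroup.subtype_injective _)]
    refine this.trans ?_
    rw [Nat.card_coe_set_eq]
    refine ((Set.ncard_insert_le _ _).trans (by simp)).trans (by norm_num : 2 ≤ 2 ^ 2)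

theorem Hyp.exists_red (hP : Hyp P) : ∃ x : P, Red P x.1.1 := by
  obtain ⟨g, hg, hg2, h1, hn⟩ := hP.exists_inv
  exact ⟨⟨g, hg⟩, (hP.invol (x := ⟨g, hg⟩) hg2).resolve_left fun h => h.elim h1 hn⟩

/-- A Sylow two-subgroup fixes the line of some involution. -/
theorem Hyp.exists_central (hP : Hyp P) : ∃ (T : Sylow 2 P) (x : P), Red P x.1.1 ∧ Fix T x.1.1 := by
  haveI : Fact (Nat.Prime 2) := ⟨Nat.prime_two⟩
  obtain ⟨x, hx⟩ := hP.exists_red
  obtain ⟨T, hT⟩ := (isPGroup_zpowers_of_sq hx.sq').exists_le_sylow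
  have hxT : x ∈ (T : Subgroup P) := hT (Subgroup.mem_zpowers x)
  have hm1 : hP.negOne ≠ 1 := fun e => by
    have := congrArg (fun y : P => y.1.1) e
    simp [Hyp.negOne] at this
    exact one_ne_zero4 (two_ne_mat hP.two_ne this.symm)
  by_cases hC : ∀ y : (T : Subgroup P), orderOf y = 2 →
      Nat.card ↥(Subgroup.centralizer ({y} : Set (T : Subgroup P))) ≠ 4
  · have h1 : ¬ Cfsg.PRankLE 2 1 (T : Subgroup P) := by
      intro h
      let a : (T : Subgroup P) := ⟨hP.negOne, hP.negOne_mem T⟩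
      let b : (T : Subgroup P) := ⟨x, hxT⟩
      have ha : a * a = 1 := Subtype.ext (Subtype.ext (by simp [a, Hyp.negOne]))
      have hb : b * b = 1 := Subtype.ext hx.sq'
      have hab : a * b = b * a := Subtype.ext (pm_comm (x := hP.negOne) (Or.inr rfl) x).symm
      let W := CfsgLib.RankTwoSylow.fourOf a b ha hb hab
      have hF := CfsgLib.RankTwoSylow.isFour_fourOf a b ha hb hab (fun e => hm1 (congrArg Subtype.val e))
        (fun e => hx.not_mem_pm hP (by rw [show x = 1 from congrArg Subtype.val e]; exact one_mem _))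
        (fun e => hx.not_mem_pm hP (by rw [← show hP.negOne = x from congrArg Subtype.val e]; exact Or.inr rfl))
      have hle := h W ⟨⟨fun u v => Subtype.ext ?_⟩⟩ fun w hw => ?_
      · have h3 : ({1, a, b} : Set (T : Subgroup P)).ncard ≤ (W : Set (T : Subgroup P)).ncard :=
          Set.ncard_le_ncard (by rintro w (rfl | rfl | rfl); exacts [one_mem _, hF.hz, hF.ha]) (Set.toFinite _)
        rw [← Nat.card_coe_set_eq (W : Set (T : Subgroup P))] at h3
        have : ({1, a, b} : Set (T : Subgroup P)).ncard = 3 :=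
          Set.ncard_eq_three.2 ⟨1, a, b, hF.z1.symm, hF.a1.symm, hF.za, rfl⟩
        change Nat.card W ≤ 2 ^ 1 at hle
        change _ ≤ Nat.card W at h3
        omega
      · have hc : ∀ w ∈ W, Commute w a ∧ Commute w b := fun w hw => by
          rcases hF.list w hw with e | e | e | e <;> subst e
          exacts [⟨Commute.one_left _, Commute.one_left _⟩, ⟨Commute.refl _, hab⟩, ⟨hab.symm, Commute.refl _⟩,
            ⟨(Commute.refl _).mul_left hab.symm, (show Commute a b from hab).mul_left (Commute.refl _)⟩]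
        rcases hF.list v v.2 with e | e | e | e <;> rw [Subgroup.coe_mul, Subgroup.coe_mul, e]
        exacts [Commute.one_right _, (hc u u.2).1, (hc u u.2).2, (hc u u.2).1.mul_right (hc u u.2).2]
      · rcases hF.list w hw with e | e | e | e <;> subst e
        exacts [one_pow 2, by rw [pow_two, ha], by rw [pow_two, hb],
          by rw [(show Commute a b from hab).mul_pow, pow_two, pow_two, ha, hb, one_mul]]
    obtain ⟨W, z, a, hWn, hF, hz⟩ := CfsgLib.RankTwoSylow.exists_normal_four T.2 (hP.rankTwo T) h1 hC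
    -- the generator other than the negative identity
    have key : ∀ b : (T : Subgroup P), b ∈ W → Red P b.1.1.1 → Fix T b.1.1.1 := by
      intro b hb hbr s hs
      have hconj := hWn.conj_mem b hb ⟨s, hs⟩
      have hcomm : (⟨s, hs⟩ : (T : Subgroup P)) * b * (⟨s, hs⟩ : (T : Subgroup P))⁻¹ * b =
          b * ((⟨s, hs⟩ : (T : Subgroup P)) * b * (⟨s, hs⟩ : (T : Subgroup P))⁻¹) := by
        have hc : ∀ w ∈ W, Commute w z ∧ Commute w a := fun w hw => by
          rcases hF.list w hw with e | e | e | e <;> subst e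
          exacts [⟨Commute.one_left _, Commute.one_left _⟩, ⟨Commute.refl _, hF.comm⟩,
            ⟨hF.comm.symm, Commute.refl _⟩, ⟨(Commute.refl _).mul_left hF.comm.symm,
              (show Commute z a from hF.comm).mul_left (Commute.refl _)⟩]
        rcases hF.list b hb with e | e | e | e <;> subst e
        exacts [Commute.one_right _, (hc _ hconj).1, (hc _ hconj).2, (hc _ hconj).1.mul_right (hc _ hconj).2]
      have hr := hbr.cj hP s
      rw [cj_coe s b.1] at hr ⊢
      exact (Same.symm (W5.comm_eq hP.two_ne hr.w5 hbr.w5 hr.sq hbr.sq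
        (congrArg (fun y : (T : Subgroup P) => y.1.1.1) hcomm)))
    rcases hP.invol (x := z.1) (congrArg (fun y : (T : Subgroup P) => y.1.1) hF.z2) with (h | h) | h
    · exact absurd (Subtype.ext (Subtype.ext h)) hF.z1
    · rcases hP.invol (x := a.1) (congrArg (fun y : (T : Subgroup P) => y.1.1) hF.a2) with (h' | h') | h'
      · exact absurd (Subtype.ext (Subtype.ext h')) hF.a1
      · exact absurd (Subtype.ext (Subtype.ext (h.trans h'.symm))) hF.za
      · exact ⟨T, a.1, h', key a hF.ha h'⟩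
    · exact ⟨T, z.1, h, key z hF.hz h⟩
  · push Not at hC
    obtain ⟨y, hy, hy4⟩ := hC
    obtain ⟨k, hk⟩ := T.2.exists_card_eq
    have hyy : y.1 * y.1 = 1 := by
      have := congrArg Subtype.val (pow_orderOf_eq_one y)
      rwa [hy, Subgroup.coe_pow, pow_two] at this
    have hy1 : y.1 ≠ 1 := fun e => by
      rw [show y = 1 from Subtype.ext e, orderOf_one] at hy
      omega
    set C := Subgroup.centralizer ({y} : Set (T : Subgroup P)) with hCdef
    have hyC : y ∈ C := Subgroup.mem_centralizer_singleton_iff.2 rfl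
    have hnC : (⟨hP.negOne, hP.negOne_mem T⟩ : (T : Subgroup P)) ∈ C :=
      Subgroup.mem_centralizer_singleton_iff.2 (Subtype.ext (pm_comm (x := hP.negOne) (Or.inr rfl) y.1).symm)
    rcases hP.invol (congrArg Subtype.val hyy) with (h | h) | h
    · exact absurd (Subtype.ext h) hy1
    · have hCtop : C = ⊤ := eq_top_iff.2 fun s _ => Subgroup.mem_centralizer_singleton_iff.2
        (Subtype.ext (pm_comm (x := y.1) (Or.inr h) s.1))
      rw [hCtop, Subgroup.card_top] at hy4
      refine ⟨T, x, hx, fun s hs => Or.inl ?_⟩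
      haveI := (IsPGroup.commGroupOfCardEqPrimeSq (p := 2) (G := (T : Subgroup P)) (by rw [hy4]; norm_num))
      have hc := congrArg (fun w : (T : Subgroup P) => w.1.1.1)
        (IsPGroup.commutative_of_card_eq_prime_sq (p := 2) (G := (T : Subgroup P)) (by rw [hy4]; norm_num)
          ⟨s, hs⟩ ⟨x, hxT⟩)
      rw [cj_eq_iff]
      simpa using hc
    by_cases hk3 : k < 3
    · refine ⟨T, y.1, h, fun s hs => Or.inl ?_⟩
      have hle : Nat.card (T : Subgroup P) ≤ Nat.card C := by
        rw [hk, hy4]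
        calc 2 ^ k ≤ 2 ^ 2 := Nat.pow_le_pow_right (by norm_num) (by omega)
          _ = 4 := by norm_num
      have hCtop : C = ⊤ := Subgroup.eq_top_of_le_card C hle
      have hc := congrArg (fun w : (T : Subgroup P) => w.1.1.1) (Subgroup.mem_centralizer_singleton_iff.1
        (show (⟨s, hs⟩ : (T : Subgroup P)) ∈ C from hCtop ▸ Subgroup.mem_top _))
      rw [cj_eq_iff]
      simpa using hc
    exfalso
    have hCC : Subgroup.centralizer (C : Set (T : Subgroup P)) = C := by
      refine le_antisymm (fun w hw => Subgroup.mem_centralizer_singleton_iff.2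
        (Subgroup.mem_centralizer_iff.1 hw y hyC).symm) fun w hw => ?_
      haveI : Fact (Nat.Prime 2) := ⟨Nat.prime_two⟩
      have hcomm := IsPGroup.commutative_of_card_eq_prime_sq (p := 2) (G := C) (by rw [hy4]; norm_num)
      exact Subgroup.mem_centralizer_iff.2 fun v hv => congrArg Subtype.val (hcomm ⟨v, hv⟩ ⟨w, hw⟩)
    have hcl := Cfsg.Agent.S0112.result (p := 2) k hk C (by rw [hy4]; norm_num) hCC
    obtain ⟨R, hRc, hR2⟩ := Cfsg.Agent.S0113.result k (by omega) hk hcl
    -- the involution of the cyclic subgroup is central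
    have huniq : ∀ u ∈ R, u * u = 1 → ∀ v ∈ R, v * v = 1 → v ≠ 1 → u = 1 ∨ u = v := by
      intro u hu hu2 v hv hv2 hv1
      obtain ⟨⟨r, hr⟩, hgen⟩ := hRc.exists_generator
      have hz : ∀ w ∈ R, w ∈ Subgroup.zpowers r := fun w hw => by
        obtain ⟨i, hi⟩ := Subgroup.mem_zpowers_iff.1 (hgen ⟨w, hw⟩)
        exact ⟨i, congrArg Subtype.val hi⟩
      by_cases hu1 : u = 1
      · exact Or.inl hu1
      · exact Or.inr (CfsgLib.Connectivity.eq_of_sq (hz u hu) (hz v hv) (by rw [pow_two, hu2])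
          (by rw [pow_two, hv2]) hu1 hv1)
    set e : (T : Subgroup P) := ⟨hP.negOne, hP.negOne_mem T⟩ with he
    have hsub : R.map (T : Subgroup P).subtype ≤ (T : Subgroup P) := Subgroup.map_subtype_le _
    have hrel : (R.map (T : Subgroup P).subtype).relIndex (T : Subgroup P) = 2 := by
      rw [Subgroup.relIndex, Subgroup.subgroupOf, Subgroup.comap_map_eq_self_of_injective
        (Subgroup.subtype_injective _), hR2]
    obtain ⟨g, hgR, -⟩ := hP.extremal T hsub hrel h
    obtain ⟨r, hr, hre⟩ := Subgroup.mem_map.1 hgR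
    have hr2 : r * r = 1 := Subtype.ext (by
      rw [Subgroup.coe_mul, show (r : P) = g * y.1 * g⁻¹ from hre]
      rw [show g * y.1 * g⁻¹ * (g * y.1 * g⁻¹) = g * (y.1 * y.1) * g⁻¹ by group, hyy]
      simp)
    have hrr : Red P r.1.1.1 := by
      rw [show (r : P) = g * y.1 * g⁻¹ from hre, ← cj_coe]
      exact h.cj hP g
    have hr1 : r ≠ 1 := fun e' => hrr.not_mem_pm hP (by rw [e']; exact one_mem _)
    -- the negative identity lies in the cyclic subgroup
    by_cases heR : e ∈ R
    · have he2 : e * e = 1 := Subtype.ext (Subtype.ext (by simp [he, Hyp.negOne]))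
      rcases huniq r hr hr2 e heR he2 (fun e' => hm1 (congrArg Subtype.val e')) with h' | h'
      · exact hr1 h'
      · exact hrr.not_mem_pm hP (by rw [h']; exact Or.inr rfl)
    · haveI : R.Normal := Subgroup.normal_of_index_eq_two hR2
      have hall : C = ⊤ := by
        rw [eq_top_iff]
        intro s _
        have hRC : ∀ v ∈ R, ∀ w ∈ R, v * w = w * v := fun v hv w hw => by
          letI := hRc.commGroup
          exact congrArg Subtype.val (mul_comm (⟨v, hv⟩ : R) ⟨w, hw⟩)
        have hdec : ∀ w : (T : Subgroup P), w ∈ R ∨ e * w ∈ R := fun w => by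
          by_cases hw : w ∈ R
          · exact Or.inl hw
          · exact Or.inr ((Subgroup.mul_mem_iff_of_index_two hR2).2 (iff_of_false heR hw))
        have hec : ∀ w : (T : Subgroup P), e * w = w * e := fun w =>
          Subtype.ext (pm_comm (x := hP.negOne) (Or.inr rfl) w.1).symm
        have he2 : e * e = 1 := Subtype.ext (Subtype.ext (by simp [he, Hyp.negOne]))
        have hcomm : ∀ v w : (T : Subgroup P), Commute v w := by
          have hz : ∀ v : (T : Subgroup P), ∃ r' ∈ R, v = r' ∨ v = e * r' := fun v => by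
            rcases hdec v with h' | h'
            · exact ⟨v, h', Or.inl rfl⟩
            · exact ⟨e * v, h', Or.inr (by rw [← mul_assoc, he2, one_mul])⟩
          intro v w
          obtain ⟨v', hv', ev⟩ := hz v
          obtain ⟨w', hw', ew⟩ := hz w
          have hvw : Commute v' w' := hRC v' hv' w' hw'
          have hev : Commute e v' := hec v'
          have hew : Commute e w' := hec w'
          rcases ev with rfl | rfl <;> rcases ew with rfl | rfl
          exacts [hvw, hev.symm.mul_right hvw, hew.mul_left hvw,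
            ((Commute.refl e).mul_right hew).mul_left (hev.symm.mul_right hvw)]
        exact Subgroup.mem_centralizer_singleton_iff.2 (hcomm s y).eq
      rw [hall, Subgroup.card_top, hk] at hy4
      have : 2 ^ 3 ≤ 2 ^ k := Nat.pow_le_pow_right (by norm_num) (by omega)
      omega

/-- An element of order two modulo signs whose line is fixed by the Sylow subgroup has another conjugate in it. -/
theorem Hyp.exists_other (hP : Hyp P) {T : Sylow 2 P} {z : P} (hz : z ∉ pm P) (hz2 : z * z ∈ pm P)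
    (hfix : Fix T z.1.1) : ∃ g : P, g * z * g⁻¹ ∈ (T : Subgroup P) ∧ ¬ Same (cj g z.1.1) z.1.1 := by
  obtain ⟨g, hc, hne⟩ := hP.exists_move hz hz2
  have hle : Subgroup.zpowers (g * z * g⁻¹) ≤ cpm P z.1.1 := by
    rw [Subgroup.zpowers_le, mem_cpm]
    have hc' : Commute (z : P ⧸ pm P) ((g * z * g⁻¹ : P) : P ⧸ pm P) := by
      rw [comm_mk_iff, ← cj_coe]; exact hc
    exact (comm_mk_iff _ _).1 hc'.symm
  have hp : IsPGroup 2 (Subgroup.zpowers (g * z * g⁻¹)) := by
    intro y
    obtain ⟨i, hi⟩ := Subgroup.mem_zpowers_iff.1 y.2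
    have h4 : z ^ 4 = 1 := by
      rw [show z ^ 4 = z * z * (z * z) by simp [pow_succ, mul_assoc]]
      rcases mem_pm.1 hz2 with h | h <;> exact Subtype.ext (by rw [Subgroup.coe_mul, h]; simp)
    refine ⟨2, Subtype.ext ?_⟩
    rw [Subgroup.coe_pow, ← hi, ← zpow_natCast, ← _root_.zpow_mul, mul_comm, _root_.zpow_mul]
    simp [conj_pow, h4]
  obtain ⟨c, hc', hcT⟩ := hfix.conj_into hp hle
  refine ⟨c * g, ?_, fun h => hne ?_⟩
  · rw [show c * g * z * (c * g)⁻¹ = c * (g * z * g⁻¹) * c⁻¹ by group]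
    exact hcT _ (Subgroup.mem_zpowers _)
  · rw [cj_mul] at h
    have h' := Same.cj c⁻¹ (h.trans hc'.symm)
    rwa [cj_inv_cj, cj_inv_cj] at h'

section Orbit

/-- The normaliser of a subgroup acts on the quotient by conjugation. -/
theorem card_conj_image_odd {G : Type*} [Group G] [Finite G] {X : Type*} [Group X] (f : G →* X)
    (T : Sylow 2 G) (y : X) (hT : ∀ s ∈ (T : Subgroup G), f s * y * (f s)⁻¹ = y) :
    Odd (Set.ncard ((fun n : G => f n * y * (f n)⁻¹) '' (Subgroup.normalizer ((T : Subgroup G) : Set G) : Set G))) := by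
  classical
  haveI : Fact (Nat.Prime 2) := ⟨Nat.prime_two⟩
  set N := Subgroup.normalizer ((T : Subgroup G) : Set G) with hN
  let C : Subgroup G := (Subgroup.centralizer {y}).comap f
  have hC : ∀ n, n ∈ C ↔ f n * y * (f n)⁻¹ = y := fun n => by
    simp only [C, Subgroup.mem_comap, Subgroup.mem_centralizer_singleton_iff, mul_inv_eq_iff_eq_mul]
  have hTC : (T : Subgroup G) ≤ C ⊓ N := le_inf (fun s hs => (hC s).2 (hT s hs)) Subgroup.le_normalizer
  have hbij : Set.ncard ((fun n : G => f n * y * (f n)⁻¹) '' (N : Set G)) = (C.subgroupOf N).index := by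
    rw [← Nat.card_coe_set_eq, Subgroup.index]
    refine Nat.card_congr (Equiv.ofBijective (fun q : N ⧸ C.subgroupOf N =>
      Quotient.liftOn' q (fun n : N => (⟨f n.1 * y * (f n.1)⁻¹, n.1, n.2, rfl⟩ :
        ((fun n : G => f n * y * (f n)⁻¹) '' (N : Set G) : Set X))) fun a b hab => Subtype.ext ?_) ⟨?_, ?_⟩).symm
    · rw [QuotientGroup.leftRel_apply, Subgroup.mem_subgroupOf, hC] at hab
      simp only [Subgroup.coe_mul, Subgroup.coe_inv, map_mul, map_inv] at hab ⊢
      calc f a.1 * y * (f a.1)⁻¹ = f a.1 * ((f a.1)⁻¹ * f b.1 * y * ((f a.1)⁻¹ * f b.1)⁻¹) * (f a.1)⁻¹ := by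
            rw [hab]
        _ = _ := by group
    · intro a b
      refine Quotient.inductionOn₂' a b fun a b hab => ?_
      have e : f a.1 * y * (f a.1)⁻¹ = f b.1 * y * (f b.1)⁻¹ := congrArg Subtype.val hab
      refine QuotientGroup.eq.2 ?_
      rw [Subgroup.mem_subgroupOf, hC]
      simp only [Subgroup.coe_mul, Subgroup.coe_inv, map_mul, map_inv]
      calc (f a.1)⁻¹ * f b.1 * y * ((f a.1)⁻¹ * f b.1)⁻¹ = (f a.1)⁻¹ * (f b.1 * y * (f b.1)⁻¹) * f a.1 := by group
        _ = y := by rw [← e]; group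
    · rintro ⟨_, n, hn, rfl⟩
      exact ⟨QuotientGroup.mk ⟨n, hn⟩, rfl⟩
  rw [hbij, Nat.odd_iff, ← Nat.two_dvd_ne_zero]
  intro h
  have h1 : ((T : Subgroup G).subgroupOf N).index ∣ (T : Subgroup G).index :=
    ⟨N.index, (Subgroup.relIndex_mul_index Subgroup.le_normalizer).symm⟩
  have h2 : (C.subgroupOf N).index ∣ ((T : Subgroup G).subgroupOf N).index :=
    Subgroup.index_dvd_of_le (fun s hs => (hTC hs).1)
  exact T.not_dvd_index (h.trans (h2.trans h1))

end Orbit

end CfsgLib.Sp4Odd
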