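import Mathlib
import Cfsg.Agent.Lib.SLCard

/-!
The projective groups over the field with three elements act on four points as the alternating and symmetric groups.
-/

set_option autoImplicit false
set_option maxHeartbeats 400000

namespace CfsgLib.Sp4Odd

open Projectivization

variable {K : Type} [Field K] [Fintype K]

/-- An element of `PGL₂` fixing every point of the line is trivial. -/
theorem pgl_eq_one_of_smul {g : Matrix.ProjGenLinGroup (Fin 2) K}
    (h : ∀ x : Projectivization K (Fin 2 → K), g • x = x) : g = 1 := by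
  obtain ⟨g, rfl⟩ := Matrix.ProjGenLinGroup.mk_surjective g
  have key : ∀ v : Fin 2 → K, v ≠ 0 → ∃ a : K, g.1.mulVec v = a • v := by
    intro v hv
    have := h (mk K v hv)
    rw [PGL.mk_smul_mk, mk_eq_mk_iff'] at this
    obtain ⟨a, ha⟩ := this
    exact ⟨a, ha.symm⟩
  obtain ⟨a, ha⟩ := key ![1, 0] (by simp)
  obtain ⟨b, hb⟩ := key ![0, 1] (by simp)
  obtain ⟨c, hc⟩ := key ![1, 1] (by simp)
  have a0 := congrFun ha 0
  have a1 := congrFun ha 1
  have b0 := congrFun hb 0
  have b1 := congrFun hb 1
  have c0 := congrFun hc 0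
  have c1 := congrFun hc 1
  simp [Matrix.mulVec, dotProduct, Fin.sum_univ_two] at a0 a1 b0 b1 c0 c1
  have e : g.1 = Matrix.scalar (Fin 2) a := by
    ext i j
    fin_cases i <;> fin_cases j <;> simp [Matrix.scalar_apply, a0, a1, b0, b1]
    rw [a0, b0, add_zero] at c0
    rw [a1, b1, zero_add] at c1
    rw [c1, c0]
  exact (QuotientGroup.eq_one_iff g).2 (Matrix.GeneralLinearGroup.mem_center_iff_val_mem_range_scalar.2 ⟨a, e.symm⟩)

theorem card_line_three (hK : Fintype.card K = 3) : Nat.card (Projectivization K (Fin 2 → K)) = 4 := by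
  rw [Projectivization.card'', Nat.card_eq_fintype_card (α := K), hK, Nat.card_eq_fintype_card (α := Fin 2 → K)]
  simp [hK]

/-- The projective groups over the field with three elements. -/
theorem three_iso (hK : Fintype.card K = 3) :
    Nonempty (Matrix.ProjectiveSpecialLinearGroup (Fin 2) K ≃* alternatingGroup (Fin 4)) ∧
      Nonempty (Matrix.ProjGenLinGroup (Fin 2) K ≃* Equiv.Perm (Fin 4)) := by
  classical
  haveI : Finite (Projectivization K (Fin 2 → K)) := inferInstance
  obtain ⟨e⟩ : Nonempty (Projectivization K (Fin 2 → K) ≃ Fin 4) :=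
    ⟨(Finite.equivFinOfCardEq (card_line_three hK))⟩
  have hgl : Nat.card (Matrix.ProjGenLinGroup (Fin 2) K) = 24 := by
    rw [CfsgLib.SLCard.card_PGL, CfsgLib.SLCard.card_SL_two, hK]; rfl
  have hsl : Nat.card (Matrix.ProjectiveSpecialLinearGroup (Fin 2) K) = 12 := by
    have h := CfsgLib.SLCard.gcd_mul_card_PSL (F := K) (n := 2) (by norm_num)
    rw [CfsgLib.SLCard.card_SL_two, hK] at h
    rw [show Nat.gcd 2 (3 - 1) = 2 from rfl] at h
    omega
  have h24 : Nat.card (Equiv.Perm (Fin 4)) = 24 := by rw [Nat.card_perm, Nat.card_fin]; rfl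
  refine ⟨?_, ?_⟩
  · let f : Matrix.ProjectiveSpecialLinearGroup (Fin 2) K →* Equiv.Perm (Fin 4) :=
      e.permCongrHom.toMonoidHom.comp Projectivization.PSLAction.toPermHom
    have hf : Function.Injective f :=
      e.permCongrHom.injective.comp Matrix.ProjectiveSpecialLinearGroup.toPermHom_injective
    have hr : f.range = alternatingGroup (Fin 4) := by
      refine Equiv.Perm.eq_alternatingGroup_of_index_eq_two ?_
      have := Subgroup.card_mul_index f.range
      rw [Nat.card_congr (MonoidHom.ofInjective hf).symm.toEquiv, hsl, h24] at this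
      omega
    exact ⟨(MonoidHom.ofInjective hf).trans (MulEquiv.subgroupCongr hr)⟩
  · let f : Matrix.ProjGenLinGroup (Fin 2) K →* Equiv.Perm (Fin 4) :=
      e.permCongrHom.toMonoidHom.comp (MulAction.toPermHom _ _)
    have hf : Function.Injective f := by
      refine e.permCongrHom.injective.comp ((injective_iff_map_eq_one _).2 fun g hg => ?_)
      exact pgl_eq_one_of_smul fun x => Equiv.congr_fun hg x
    have hb : Function.Bijective f := (Nat.bijective_iff_injective_and_card f).2 ⟨hf, by rw [hgl, h24]⟩
    exact ⟨MulEquiv.ofBijective f hb⟩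

end CfsgLib.Sp4Odd
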