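import Cfsg.Agent.Lib.Sp4Odd.Axis
import Cfsg.Agent.Lib.Sp4Odd.Borel
import Cfsg.Agent.Lib.Sp4Odd.ThreeIso
import Cfsg.Agent.Lib.DicksonFull.FieldCase

/-!
Dickson's list for the projection: three polyhedral groups, or a normal form over a subfield.
-/

set_option autoImplicit false
set_option maxHeartbeats 400000

namespace CfsgLib.Sp4Odd

open Matrix
open CfsgLib.DicksonFull (psl cent bor SS tor mk_surj eq_or_neg mk_eq_one borel_iff mem_cT mem_cent)
open CfsgLib.PSL2 (mk mk_eq_mk diagAut conjSL)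

variable {F : Type*} [Field F]

local notation "M2" => Matrix (Fin 2) (Fin 2) F
local notation "SL" => Matrix.SpecialLinearGroup (Fin 2) F
local notation "PSL" => Matrix.ProjectiveSpecialLinearGroup (Fin 2) F
local notation "qm" => CfsgLib.PSL2.mk

/-- Lower unipotent matrices. -/
def lq (a : F) : Matrix (Fin 2) (Fin 2) F := !![1, 0; a, 1]

theorem lq_mul (a b : F) : (lq a : M2) * lq b = lq (a + b) := by
  ext i j; fin_cases i <;> fin_cases j <;> simp [lq]

theorem lq_zero : (lq 0 : M2) = 1 := by ext i j; fin_cases i <;> fin_cases j <;> simp [lq]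

theorem adj_lq (a : F) : (lq a : M2).adjugate = lq (-a) := by
  ext i j; fin_cases i <;> fin_cases j <;> simp [lq, adjugate_fin_two]

theorem det_lq (a : F) : (lq a : M2).det = 1 := by simp [lq, det_fin_two]

theorem lq_inj {a b : F} (h : (lq a : M2) = lq b) : a = b := by
  simpa [lq] using congrArg (fun A : M2 => A 1 0) h

variable [Fintype F] {P : Subgroup (Matrix (Fin 2) (Fin 2) (Matrix (Fin 2) (Fin 2) F))ˣ}

/-- The normal form of the projection over a subfield. -/
structure Nf (P : Subgroup (Matrix (Fin 2) (Fin 2) (Matrix (Fin 2) (Fin 2) F))ˣ) (K : Subfield F) : Prop where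
  uq_mem : ∀ t ∈ K, InG P (uq t)
  lq_mem : ∀ t ∈ K, InG P (lq t)
  shape : ∀ a, InG P a → ∃ α : F, α ≠ 0 ∧ α ^ 2 ∈ K ∧ ∀ i j, a i j / α ∈ K
  five : 5 ≤ Nat.card K

/-- A map of the projection onto a permutation group, with kernel the centre. -/
def Img (hP : Hyp P) {n : ℕ} (R : Subgroup (Equiv.Perm (Fin n))) : Prop :=
  ∃ φ : hP.gproj →* Equiv.Perm (Fin n), φ.range = R ∧ ∀ g, φ g = 1 ↔ g.1.1 = 1 ∨ g.1.1 = -1

/-- The image in `PSL₂`. -/
def Hyp.gbar (hP : Hyp P) : Subgroup (Matrix.ProjectiveSpecialLinearGroup (Fin 2) F) := hP.gproj.map qm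

theorem Hyp.mk_mem_gbar (hP : Hyp P) {g : SL} : qm g ∈ hP.gbar ↔ InG P g.1 := by
  refine ⟨?_, fun h => Subgroup.mem_map_of_mem qm h⟩
  rintro ⟨a, ha, e⟩
  rcases eq_or_neg e with rfl | rfl
  · exact ha
  · rw [SpecialLinearGroup.coe_neg]; exact InG.neg hP ha

theorem Hyp.img_of_iso (hP : Hyp P) {n : ℕ} {R : Subgroup (Equiv.Perm (Fin n))} (e : hP.gbar ≃* R) : Img hP R := by
  let r : hP.gproj →* hP.gbar := MonoidHom.subgroupMap qm hP.gproj
  refine ⟨R.subtype.comp (e.toMonoidHom.comp r), ?_, fun g => ?_⟩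
  · rw [MonoidHom.range_comp, MonoidHom.range_eq_top.2 (e.surjective.comp (MonoidHom.subgroupMap_surjective qm _)),
      ← MonoidHom.range_eq_map, Subgroup.range_subtype]
  · show (e (r g) : Equiv.Perm (Fin n)) = 1 ↔ _
    rw [OneMemClass.coe_eq_one, map_eq_one_iff e e.injective, Subtype.ext_iff]
    show qm g.1 = (1 : PSL) ↔ _
    constructor
    · intro h
      rcases mk_eq_one h with h | h
      · exact Or.inl (by rw [h]; rfl)
      · exact Or.inr (by rw [h]; rfl)
    · rintro (h | h)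
      · rw [show g.1 = 1 from Subtype.ext (by rw [h]; rfl), map_one]
      · rw [show g.1 = -1 from Subtype.ext (by rw [h]; rfl),
          DicksonFull.mk_neg, map_one]

/-- A projection normalising a torus is impossible. -/
theorem Normal.false_of_torus {C : Ctx P} (hN : Normal C) {g : SL} (hg : g.1.trace ^ 2 ≠ 4)
    (h : ∀ b : SL, InG P b.1 → b * g * b⁻¹ * g = g * (b * g * b⁻¹)) : False := by
  have h2 := C.hP.two_ne
  have hd := g.2
  set c : M2 := g.1 + (-(g.1.trace / 2)) • 1 with hc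
  have hct : c.trace = 0 := by
    rw [hc, trace_add, trace_smul, trace_one2, smul_eq_mul]
    field_simp
    ring
  have hcd : c.det ≠ 0 := by
    intro e
    rw [hc, det_fin_two, trace_fin_two] at e
    simp at e
    rw [det_fin_two] at hd
    rw [trace_fin_two] at hg
    field_simp at e
    exact hg (by linear_combination -e + 4 * hd)
  refine hN.false_of_axis hct hcd fun a ha => ?_
  set b : SL := ⟨a, ha.det C.hP⟩
  have hba : (b : M2) = a := rfl
  rcases DicksonFull.eq_or_eq_inv' hg (Dickson.trace_conj b g) (h b ha) with e | e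
  · left
    have e' : a * g.1 = g.1 * a := congrArg Subtype.val ((mul_inv_eq_iff_eq_mul (G := SL)).1 e)
    rw [hc, mul_add, add_mul, e', mul_smul_comm, smul_mul_assoc, mul_one, one_mul]
  · right
    have e' : a * g.1 = (g⁻¹).1 * a := congrArg Subtype.val ((mul_inv_eq_iff_eq_mul (G := SL)).1 e)
    rw [DicksonFull.inv_coe] at e'
    rw [hc, mul_add, add_mul, e', mul_smul_comm, smul_mul_assoc, mul_one, one_mul, sub_mul, smul_mul_assoc, one_mul]
    match_scalars <;> field_simp <;> ring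

/-- A nilpotent matrix is conjugate to an upper triangular one. -/
theorem exists_triangular {N : M2} (hN0 : N ≠ 0) (hN2 : N * N = 0) :
    ∃ (M : GL (Fin 2) F) (κ : F), κ ≠ 0 ∧ M.1 * N * (M⁻¹).1 = κ • eq12 := by
  have e00 := congr_fun₂ hN2 0 0
  have e01 := congr_fun₂ hN2 0 1
  have e10 := congr_fun₂ hN2 1 0
  have e11 := congr_fun₂ hN2 1 1
  simp [Matrix.mul_apply, Fin.sum_univ_two] at e00 e01 e10 e11
  by_cases h10 : N 1 0 = 0
  · simp [h10] at e00 e11
    refine ⟨1, N 0 1, fun h01 => hN0 ?_, ?_⟩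
    · ext i j; fin_cases i <;> fin_cases j <;> simp [h10, e00, e11, h01]
    · rw [inv_one, Units.val_one, one_mul, mul_one]
      ext i j; fin_cases i <;> fin_cases j <;> simp [eq12, h10, e00, e11]
  · have htr : N 1 1 = -N 0 0 := by
      have : N 1 0 * (N 0 0 + N 1 1) = 0 := by linear_combination e10
      linear_combination (mul_eq_zero.1 this).resolve_left h10
    let M : GL (Fin 2) F :=
      ⟨!![0, (N 1 0)⁻¹; 1, -(N 0 0 * (N 1 0)⁻¹)], !![N 0 0, 1; N 1 0, 0],
        by ext i j; fin_cases i <;> fin_cases j <;> simp [h10],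
        by ext i j; fin_cases i <;> fin_cases j <;> simp [h10]⟩
    refine ⟨M, 1, one_ne_zero, ?_⟩
    show !![0, (N 1 0)⁻¹; 1, -(N 0 0 * (N 1 0)⁻¹)] * N * !![N 0 0, 1; N 1 0, 0] = _
    ext i j
    fin_cases i <;> fin_cases j <;> simp [Matrix.mul_apply, Matrix.vecMul, dotProduct, Fin.sum_univ_two, eq12, h10, htr]
    all_goals field_simp
    all_goals (first | linear_combination e00 | linear_combination -e00 | simp)

variable (p : ℕ) [Fact p.Prime] [CharP F p]

/-- A projection normalising a unipotent group is impossible. -/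
theorem Normal.false_of_bor {C : Ctx P} (hN : Normal C) {u : PSL} (hu : orderOf u = p) (huH : u ∈ C.hP.gbar)
    (hle : C.hP.gbar ≤ bor u) : False := by
  obtain ⟨c, rfl, hct, hN2, hNs⟩ := DicksonFull.exists_lift p hu
  obtain ⟨M, κ, hκ, hM⟩ := exists_triangular (by simpa using hNs 0) hN2
  have hrev : ∀ a : M2, M.1 * ((M⁻¹).1 * a * M.1) * (M⁻¹).1 = a := fun a => by
    simp only [← mul_assoc, ← Units.val_mul, mul_inv_cancel, Units.val_one, one_mul]
    simp only [mul_assoc, ← Units.val_mul, mul_inv_cancel, Units.val_one, mul_one]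
  refine (hN.map_dgU M).false_of_upper (fun a ha => ?_) ⟨κ, hκ, inG_conjP_dgU.2 ?_⟩
  · have ha' := inG_conjP_dgU.1 ha
    set b : SL := ⟨_, ha'.det C.hP⟩
    have hb : qm b ∈ C.hP.gbar := C.hP.mk_mem_gbar.2 ha'
    have h := (borel_iff hct hNs).1 ((DicksonFull.mem_bor (psl p) hu).1 (hle hb))
    have h' := congrArg (fun X => M.1 * X * (M⁻¹).1) h
    have e : M.1 * ((c.1 - 1) * b.1 * (c.1 - 1)) * (M⁻¹).1
        = (M.1 * (c.1 - 1) * (M⁻¹).1) * (M.1 * b.1 * (M⁻¹).1) * (M.1 * (c.1 - 1) * (M⁻¹).1) := by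
      simp only [mul_assoc, Units.inv_mul_cancel_left]
    simp only [mul_zero, zero_mul, e, hM, show M.1 * b.1 * (M⁻¹).1 = a from hrev a] at h'
    have := congr_fun₂ h' 0 1
    simp [eq12, Matrix.mul_apply, Matrix.vecMul, dotProduct, Fin.sum_univ_two, hκ] at this
    exact this
  · have hc := C.hP.mk_mem_gbar.1 huH
    convert hc using 1
    rw [uq_eq, ← hM, mul_add, add_mul, mul_one, ← Units.val_mul, inv_mul_cancel, Units.val_one]
    simp only [mul_assoc, Units.inv_mul_cancel_left]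
    rw [← Units.val_mul, inv_mul_cancel, Units.val_one, mul_one, add_sub_cancel]

/-- The field case gives a normal form. -/
theorem Normal.exists_nf {C : Ctx P} (hN : Normal C) {u v : PSL} (huH : u ∈ C.hP.gbar) (hu : orderOf u = p)
    (hvH : v ∈ C.hP.gbar) (hv : orderOf v = p) (huv : ¬ Commute v u) (Q : ℕ) (hQ5 : 5 ≤ Q)
    (hQ : Nat.card (C.hP.gbar ⊓ cent u : Subgroup PSL) = Q)
    (hh : Nat.card C.hP.gbar = (Q + 1) * Nat.card (C.hP.gbar ⊓ bor u : Subgroup PSL)) :
    ∃ (M : GL (Fin 2) F) (K : Subfield F), Nf (conjP (dgU M) P) K := by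
  obtain ⟨G, π, r, hr, hπ, hker, hneg, hup, hw, hpts, hcard, -, N, hNc⟩ :=
    DicksonFull.normal_form p huH hu hvH hv huv Q hQ hh
  have hinv : ∀ x ∈ Dickson.param G, x ≠ 0 → (-(r ^ 2)⁻¹) / x ∈ Dickson.param G := by
    intro x hx hx0
    refine hpts _ ⟨DicksonFull.wel r hr * (Dickson.up x * DicksonFull.wel r hr),
      G.mul_mem hw (G.mul_mem hx hw), ?_, ?_⟩
    · simp [Dickson.mul_entry, DicksonFull.coe_wel, hr, hx0]
    · simp [Dickson.mul_entry, DicksonFull.coe_wel, hr]
      field_simp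
  have hk0 : (-(r ^ 2)⁻¹ : F) ≠ 0 := neg_ne_zero.mpr (inv_ne_zero (pow_ne_zero 2 hr))
  have hkA : (-(r ^ 2)⁻¹ : F) ∈ Dickson.param G := by simpa using hinv 1 hup one_ne_zero
  obtain ⟨K, hK⟩ := DicksonFull.exists_subfield p (Dickson.param G) hup hk0 hkA hinv
  have hA : ∀ t, t ∈ Dickson.param G ↔ t ∈ K := fun t => by rw [← SetLike.mem_coe, ← hK]; rfl
  have hr2 : r ^ 2 ∈ K := by
    have := K.inv_mem (K.neg_mem ((hA _).mp hkA))
    simpa using this
  have key : ∀ a : M2, InG (conjP (dgU N) P) a ↔ ∃ g ∈ G, (g : SL).1 = a := by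
    intro a
    rw [inG_conjP_dgU]
    have conj : ∀ g : SL, qm (conjSL N⁻¹ g) = diagAut N⁻¹ (qm g) := fun g => (PSL2.diagAut_apply _ g).symm
    constructor
    · intro h
      set b : SL := ⟨_, h.det C.hP⟩
      obtain ⟨g, hg⟩ := hπ ⟨qm b, C.hP.mk_mem_gbar.2 h⟩
      have e := hNc g
      rw [hg, PSL2.diagAut_apply] at e
      have eb : (conjSL N b).1 = a := by
        rw [PSL2.coe_conjSL]
        show N.1 * ((N⁻¹).1 * a * N.1) * (N⁻¹).1 = a
        simp only [← mul_assoc, ← Units.val_mul, mul_inv_cancel, Units.val_one, one_mul]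
        simp only [mul_assoc, ← Units.val_mul, mul_inv_cancel, Units.val_one, mul_one]
      rcases eq_or_neg e with e' | e'
      · exact ⟨g, g.2, by rw [e', eb]⟩
      · refine ⟨-g.1, ?_, by rw [e', neg_neg, eb]⟩
        rw [← neg_one_mul]; exact G.mul_mem hneg g.2
    · rintro ⟨g, hg, rfl⟩
      have e := hNc ⟨g, hg⟩
      have hb : qm (conjSL N⁻¹ g) ∈ C.hP.gbar := by
        rw [conj, ← e, ← MulAut.mul_apply, ← map_mul, inv_mul_cancel, map_one]
        exact (π ⟨g, hg⟩).2
      have := C.hP.mk_mem_gbar.1 hb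
      rwa [PSL2.coe_conjSL, inv_inv] at this
  have hwi : (DicksonFull.wel r hr)⁻¹ ∈ G := G.inv_mem hw
  refine ⟨N, K, ⟨fun t ht => (key _).2 ⟨Dickson.up t, (hA t).2 ht, rfl⟩, fun t ht => ?_, fun a ha => ?_, ?_⟩⟩
  · have hs : -(t / r ^ 2) ∈ K := K.neg_mem (K.div_mem ht hr2)
    refine (key _).2 ⟨DicksonFull.wel r hr * Dickson.up (-(t / r ^ 2)) * (DicksonFull.wel r hr)⁻¹,
      G.mul_mem (G.mul_mem hw ((hA _).2 hs)) hwi, ?_⟩
    show (DicksonFull.wel r hr).1 * (Dickson.up (-(t / r ^ 2))).1 * (DicksonFull.wel r hr).1.adjugate = lq t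
    rw [DicksonFull.coe_wel, Dickson.coe_up]
    ext i j
    fin_cases i <;> fin_cases j <;>
      simp [lq, adjugate_fin_two, Matrix.mul_apply, Fin.sum_univ_two, hr]
    field_simp
  · obtain ⟨g, hg, rfl⟩ := (key a).1 ha
    exact DicksonFull.shape hw hup hA hpts hr2 hg
  · rwa [← Nat.card_congr (Equiv.subtypeEquivRight hA), hcard]

/-- Dickson's list for the projection. -/
theorem Normal.dickson {C : Ctx P} (hN : Normal C) (p : ℕ) [Fact p.Prime] [CharP F p] :
    Img C.hP (alternatingGroup (Fin 4)) ∨ Img C.hP (⊤ : Subgroup (Equiv.Perm (Fin 4))) ∨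
      Img C.hP (alternatingGroup (Fin 5)) ∨ ∃ (M : GL (Fin 2) F) (K : Subfield F), Nf (conjP (dgU M) P) K := by
  have hP := C.hP
  have h2 := hP.two_ne
  have perm : ∀ {n : ℕ}, Nonempty (hP.gbar ≃* Equiv.Perm (Fin n)) →
      Img hP (⊤ : Subgroup (Equiv.Perm (Fin n))) := fun ⟨e⟩ => hP.img_of_iso (e.trans Subgroup.topEquiv.symm)
  have tor' : ∀ {x : PSL}, SS p x → hP.gbar ≤ Subgroup.normalizer ((psl p).T x : Set PSL) → False := by
    intro x hx hle
    obtain ⟨g, rfl⟩ := mk_surj x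
    refine hN.false_of_torus ((DicksonFull.ss_iff p).1 hx) fun b hb => ?_
    have h1 := (Subgroup.mem_normalizer_iff.1 (hle (hP.mk_mem_gbar.2 hb)) (qm g)).1 ((psl p).mem_T _ hx)
    rw [← map_inv, ← map_mul, ← map_mul] at h1
    change qm (b * g * b⁻¹) ∈ DicksonFull.cT (qm g).out at h1
    rw [DicksonFull.cT_congr (show qm (qm g).out = qm g from QuotientGroup.out_eq' _)] at h1
    exact mem_cT.1 h1
  rcases DicksonFull.kind (psl (F := F) p) hP.gbar with h | ⟨x, hx, hxH, h⟩ | ⟨x, hx, hxH, h⟩ | h | h | h |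
    ⟨u, huH, hu, h⟩ | ⟨u, v, huH, hu, hvH, hv, huv, Q, hQ, h3, hh, hB, -⟩
  · exfalso
    refine hN.false_of_axis (c := !![1, 0; 0, -1]) (by simp [trace_fin_two]) (by simp [det_fin_two]) fun a ha => Or.inl ?_
    have hm : qm (⟨a, ha.det C.hP⟩ : SL) ∈ hP.gbar := hP.mk_mem_gbar.2 ha
    rw [h, Subgroup.mem_bot] at hm
    rcases mk_eq_one hm with e | e <;> replace e := congrArg Subtype.val e <;> simp at e <;> simp [e]
  · exact (tor' hx (h.trans Subgroup.le_normalizer)).elim
  · exfalso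
    refine tor' hx fun y hy => DicksonFull.mem_norm hx ?_
    obtain ⟨e⟩ := h
    have hc : Nat.card hP.gbar = 2 * Nat.card (tor (psl p) hP.gbar x) := by
      rw [Nat.card_congr e.toEquiv, DihedralGroup.nat_card]
    exact (conj_mem_of_card hP.gbar (tor (psl p) hP.gbar x) inf_le_left hc.le hy
      (DicksonFull.self_mem_tor hx hxH)).2
  · exact Or.inl (let ⟨e⟩ := h; hP.img_of_iso e)
  · exact Or.inr (Or.inl (perm h))
  · exact Or.inr (Or.inr (Or.inl (let ⟨e⟩ := h; hP.img_of_iso e)))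
  · exact (hN.false_of_bor p hu huH h).elim
  · by_cases hQ5 : 5 ≤ Q
    · exact Or.inr (Or.inr (Or.inr (hN.exists_nf p huH hu hvH hv huv Q hQ5 hQ hh)))
    obtain ⟨K, _, _, m, hm, hK, hiso⟩ := DicksonFull.field_case p huH hu hvH hv huv Q hQ hh
    have hK3 : Fintype.card K = 3 := by
      rcases (show Fintype.card K = 3 ∨ Fintype.card K = 4 by omega) with e | e
      · exact e
      · exfalso
        have hodd : Fintype.card F % 2 = 1 := FiniteField.odd_card_of_char_ne_two fun hc => h2 (by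
          have := (ringChar.spec F 2).2 (by rw [hc])
          rwa [Nat.cast_ofNat] at this)
        rw [← hm, e, Nat.pow_mod, show 4 % 2 = 0 from rfl] at hodd
        rcases m with _ | m <;> simp at hodd
        exact absurd (hm.symm.trans (pow_zero _)) Fintype.one_lt_card.ne'
    obtain ⟨⟨e1⟩, ⟨e2⟩⟩ := three_iso hK3
    rcases hiso with hf | hf <;> obtain ⟨f⟩ := hf
    · exact Or.inl (hP.img_of_iso (f.trans e1))
    · exact Or.inr (Or.inl (perm ⟨f.trans e2⟩))

end CfsgLib.Sp4Odd
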