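import Cfsg.Agent.Lib.Sp4Odd.FieldPartner

/-!
The field case when both unipotent groups are fixed by the pairing.
-/

set_option autoImplicit false
set_option maxHeartbeats 400000

namespace CfsgLib.Sp4Odd

open Matrix

/-- An additive map with the square law is multiplicative up to its value at one. -/
theorem mul_of_sq {k : Type*} [Field k] (h2 : (2 : k) ≠ 0) (Φ : k →+ k) (hc : Φ 1 ≠ 0)
    (h : ∀ s : k, s ≠ 0 → ∀ a : k, Φ (s * s * a) = Φ s / Φ 1 * (Φ s / Φ 1) * Φ a) (s t : k) :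
    Φ (s * t) / Φ 1 = Φ s / Φ 1 * (Φ t / Φ 1) := by
  set c := Φ 1
  have hsq : ∀ x : k, Φ (x * x) = Φ x / c * (Φ x / c) * c := fun x => by
    by_cases hx : x = 0
    · simp [hx]
    · simpa using h x hx 1
  have e := hsq (s + t)
  rw [show (s + t) * (s + t) = s * s + (s * t + s * t) + t * t by ring, map_add, map_add, map_add, map_add, hsq,
    hsq] at e
  have e' : 2 * Φ (s * t) = 2 * (Φ s / c * (Φ t / c) * c) := by linear_combination e
  rw [mul_left_cancel₀ h2 e', mul_div_cancel_right₀ _ hc]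

variable {F : Type*} [Field F] [Fintype F]

local notation "M2" => Matrix (Fin 2) (Fin 2) F

variable {P : Subgroup (Matrix (Fin 2) (Fin 2) (Matrix (Fin 2) (Fin 2) F))ˣ} {C : Ctx P}

theorem two_ne_subfield (h2 : (2 : F) ≠ 0) (K : Subfield F) : (2 : K) ≠ 0 := fun e => h2 (by
  have := congrArg K.subtype e
  rwa [map_ofNat, map_zero] at this)

/-- Both unipotent groups fixed: impossible. -/
theorem Normal.false_of_fixed (hN : Normal C) {K : Subfield F} (hn : Nf P K)
    (hUU : ∀ t ∈ K, ∃ y, In0 P (uq t) (uq y)) (hLL : ∀ t ∈ K, ∃ y, In0 P (lq t) (lq y)) : False := by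
  classical
  have hP := C.hP
  have hK := hn.kcent hP
  choose f hf using fun t : K => hUU t.1 t.2
  have hfK : ∀ t : K, f t ∈ K := fun t => hn.uq_param hP ⟨_, hN.in0_swap (hf t)⟩
  have uniq : ∀ {t : K} {y : F}, In0 P (uq (t : F)) (uq y) → y = f t := fun {t y} h =>
    uq_inj (hN.uni_unique hK (hf t) h (uni_uq _) (uni_uq _))
  let Φ : K →+ K := AddMonoidHom.mk' (fun t => ⟨f t, hfK t⟩) fun s t => Subtype.ext (by
    have := (hf s).mul (hf t)
    rw [uq_mul, uq_mul] at this
    exact (uniq (t := s + t) this).symm)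
  have hΦ : ∀ t : K, In0 P (uq (t : F)) (uq (Φ t : F)) := hf
  have hinv : ∀ t, Φ (Φ t) = t := fun t => Subtype.ext (uniq (t := Φ t) (hN.in0_swap (hΦ t))).symm
  have hΦ0 : ∀ {s : K}, s ≠ 0 → Φ s ≠ 0 := fun {s} hs e => hs (by rw [← hinv s, e, map_zero])
  choose g hg using fun t : K => hLL t.1 t.2
  -- the Weyl elements
  have hw : ∀ s : K, s ≠ 0 → In0 P (lq (-(s : F)⁻¹)) (lq (-(Φ s : F)⁻¹)) ∧
      In0 P !![0, (s : F); -(s : F)⁻¹, 0] !![0, (Φ s : F); -(Φ s : F)⁻¹, 0] := by
    intro s hs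
    have hs' : (s : F) ≠ 0 := fun e => hs (Subtype.ext e)
    obtain ⟨z, hz⟩ := hLL _ (K.neg_mem (K.inv_mem s.2))
    have h := ((hΦ s).mul hz).mul (hΦ s)
    have e : uq (s : F) * lq (-(s : F)⁻¹) * uq (s : F) = !![0, (s : F); -(s : F)⁻¹, 0] := by
      ext i j; fin_cases i <;> fin_cases j <;> simp [uq, lq, Matrix.mul_apply, Fin.sum_univ_two, hs']
    rw [e] at h
    set y := (Φ s : F) with hy
    have hy0 : y ≠ 0 := fun e => hΦ0 hs (Subtype.ext e)
    have ey : uq y * lq z * uq y = !![1 + y * z, y * (2 + y * z); z, 1 + y * z] := by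
      ext i j; fin_cases i <;> fin_cases j <;> simp [uq, lq, Matrix.mul_apply, Fin.sum_univ_two] <;> ring
    rw [ey] at h
    have h1 := ((h.mul (hΦ 1)).mul (hP.in0_adj h))
    have e1 : !![0, (s : F); -(s : F)⁻¹, 0] * uq ((1 : K) : F) * (!![0, (s : F); -(s : F)⁻¹, 0] : M2).adjugate
        = lq (-((s : F) * s)⁻¹) := by
      ext i j
      fin_cases i <;> fin_cases j <;>
        simp [uq, lq, adjugate_fin_two, Matrix.mul_apply, Matrix.vecMul, dotProduct, Fin.sum_univ_two, hs']
    rw [e1] at h1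
    obtain ⟨w, hw⟩ := hLL _ (K.neg_mem (K.inv_mem (K.mul_mem s.2 s.2)))
    have hd := (hP.in0_det h).2
    have e2 := hN.uni_unique hK hw h1 (uni_lq w) ((uni_uq (Φ 1 : F)).conj hd)
    have h00 := congrArg (fun m : M2 => (m * !![1 + y * z, y * (2 + y * z); z, 1 + y * z]) 0 1) e2
    simp only [mul_assoc, (adj_inv hd).2, mul_one] at h00
    simp [uq, lq, Matrix.mul_apply, Fin.sum_univ_two] at h00
    have hc0 : (Φ 1 : F) ≠ 0 := fun e => hΦ0 one_ne_zero (Subtype.ext e)
    have hyz : 1 + y * z = 0 := h00.resolve_right (hΦ0 one_ne_zero)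
    have hzy : z = -y⁻¹ := by
      field_simp
      linear_combination hyz
    refine ⟨by rwa [← hzy], ?_⟩
    rw [hyz, show y * (2 + y * z) = y by linear_combination y * hyz, hzy] at h
    exact h
  have hsq : ∀ s : K, s ≠ 0 → ∀ a : K, Φ (s * s * a) = Φ s / Φ 1 * (Φ s / Φ 1) * Φ a := by
    intro s hs a
    have hs' : (s : F) ≠ 0 := fun e => hs (Subtype.ext e)
    have hc0 : (Φ 1 : F) ≠ 0 := fun e => hΦ0 one_ne_zero (Subtype.ext e)
    have hy0 : (Φ s : F) ≠ 0 := fun e => hΦ0 hs (Subtype.ext e)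
    have h := (hw s hs).2.mul (hP.in0_adj (hw 1 one_ne_zero).2)
    have h1 := (h.mul (hΦ a)).mul (hP.in0_adj h)
    have e1 : !![0, (s : F); -(s : F)⁻¹, 0] * (!![0, ((1 : K) : F); -((1 : K) : F)⁻¹, 0] : M2).adjugate * uq (a : F) *
        (!![0, (s : F); -(s : F)⁻¹, 0] * (!![0, ((1 : K) : F); -((1 : K) : F)⁻¹, 0] : M2).adjugate).adjugate
        = uq ((s * s * a : K) : F) := by
      ext i j
      fin_cases i <;> fin_cases j <;>
        simp [uq, adjugate_fin_two, Matrix.mul_apply, Matrix.vecMul, dotProduct, Fin.sum_univ_two, hs']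
      ring
    have e2 : !![0, (Φ s : F); -(Φ s : F)⁻¹, 0] * (!![0, (Φ 1 : F); -(Φ 1 : F)⁻¹, 0] : M2).adjugate * uq (Φ a : F) *
        (!![0, (Φ s : F); -(Φ s : F)⁻¹, 0] * (!![0, (Φ 1 : F); -(Φ 1 : F)⁻¹, 0] : M2).adjugate).adjugate
        = uq ((Φ s / Φ 1 * (Φ s / Φ 1) * Φ a : K) : F) := by
      ext i j
      fin_cases i <;> fin_cases j <;>
        simp [uq, adjugate_fin_two, Matrix.mul_apply, Matrix.vecMul, dotProduct, Fin.sum_univ_two, hc0, hy0]
      all_goals field_simp
    rw [e1, e2] at h1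
    exact (Subtype.ext (uniq h1)).symm
  have hc : Φ 1 ≠ 0 := hΦ0 one_ne_zero
  have hmul := mul_of_sq (two_ne_subfield hP.two_ne K) Φ hc hsq
  by_cases hid : ∀ s, Φ s = Φ 1 * s
  · -- the pairing is linear
    set c : F := (Φ 1 : F) with hcdef
    have hc2 : c * c = 1 := by
      have e := hinv 1
      rw [hid (Φ 1)] at e
      exact congrArg Subtype.val e
    have hX : !![c, 0; 0, 1] * !![c, 0; 0, 1] = (1 : F) • (1 : M2) := by
      ext i j; fin_cases i <;> fin_cases j <;> simp [Matrix.mul_apply, Fin.sum_univ_two, hc2]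
    obtain ⟨C', ht, hN', hu⟩ := hN.exists_swap_mem
    refine hN'.false_of_intertwiner hu hX one_ne_zero fun a b h => hN.intertwines hn hX one_ne_zero ?_ ?_ h.in0
    · intro t ht
      refine ⟨_, hΦ ⟨t, ht⟩, ?_⟩
      rw [hid ⟨t, ht⟩]
      ext i j; fin_cases i <;> fin_cases j <;> simp [uq, Matrix.mul_apply, Fin.sum_univ_two, hcdef]
    · intro t ht
      by_cases h0 : t = 0
      · exact ⟨1, by rw [h0, lq_zero]; exact In0.one, by rw [h0, lq_zero, mul_one, one_mul]⟩
      · set s : K := ⟨-t⁻¹, K.neg_mem (K.inv_mem ht)⟩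
        have hs : s ≠ 0 := fun e => h0 (by simpa [s] using congrArg Subtype.val e)
        have h1 := (hw s hs).1
        refine ⟨lq (c * t), ?_, ?_⟩
        · convert h1 using 2
          · simp [s]
          · rw [hid s]
            show c * t = -(c * -t⁻¹)⁻¹
            rw [mul_inv, inv_neg, inv_inv, mul_neg, neg_neg, inv_eq_of_mul_eq_one_right hc2]
        · ext i j
          fin_cases i <;> fin_cases j <;> simp [lq, Matrix.mul_apply, Fin.sum_univ_two]
          linear_combination (-t) * hc2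
  · -- a translation
    push Not at hid
    obtain ⟨x, hx⟩ := hid
    set c := Φ 1 with hcdef
    have hcs : c * (Φ c / c) = 1 := by rw [mul_div_cancel₀ _ hc, hcdef, hinv]
    have hFF : ∀ s, Φ (Φ s / c) / c = s := fun s => by
      have e : Φ s = Φ s / c * c := (div_mul_cancel₀ _ hc).symm
      have h1 := hinv s
      rw [e] at h1
      have h2 := hmul (Φ s / c) c
      rw [h1] at h2
      calc Φ (Φ s / c) / c = Φ (Φ s / c) / c * (c * (Φ c / c)) := by rw [hcs, mul_one]
        _ = c * (s / c) := by rw [h2]; ring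
        _ = s := by rw [mul_div_cancel₀ _ hc]
    set d := x - Φ x / c with hd
    have hd0 : d ≠ 0 := fun e => hx (by
      rw [sub_eq_zero] at e
      conv_rhs => rw [e, mul_div_cancel₀ _ hc])
    have hFd : Φ d / c = -d := by
      rw [hd, map_sub, sub_div, hFF, neg_sub]
    refine hN.false_of_translation (d : F) (fun e => hd0 (Subtype.ext e)) ⟨_, _, one_ne_zero, hΦ 1⟩ ?_ ?_
    · intro a b hab
      have ha : a ∈ K := hn.uq_param hP ⟨_, hab⟩
      obtain rfl : b = f ⟨a, ha⟩ := uniq (t := ⟨a, ha⟩) hab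
      have h := hΦ (d * ⟨a, ha⟩)
      have e : Φ (d * ⟨a, ha⟩) = -(d * Φ ⟨a, ha⟩) := by
        have h1 := hmul d ⟨a, ha⟩
        rw [hFd, div_eq_iff hc] at h1
        rw [h1, mul_assoc, div_mul_cancel₀ _ hc, neg_mul]
      rw [e] at h
      exact h
    · intro a b hab ha hb
      have hga : InG P a := ⟨b, hab⟩
      by_cases h10 : a 1 0 = 0
      · refine ⟨1, 1, In0.one, ⟨a 0 1, ?_⟩, ⟨b 0 1, ?_⟩⟩ <;> rw [one_mul, adjugate_one, mul_one]
        · exact Uni.upper ha h10
        · have ha' := Uni.upper ha h10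
          have hK' : a 0 1 ∈ K := hn.uni_entries hP hga ha 0 1
          rw [ha'] at hab
          have e := hN.uni_unique hK (hΦ ⟨_, hK'⟩) hab (uni_uq _) hb
          exact Uni.upper hb (by rw [e]; simp [uq])
      · have he := hn.uni_entries hP hga ha
        set x := (a 0 0 - 1) / a 1 0 with hxdef
        have hxK : x ∈ K := K.div_mem (K.sub_mem (he 0 0) K.one_mem) (he 1 0)
        have hc' : InG P (wq * uq (-x)) := hn.wq_mem.mul (hn.uq_mem _ (K.neg_mem hxK))
        obtain ⟨e, hce⟩ := hc'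
        have had := (hP.in0_det hab).1
        have hcd : (wq * uq (-x) : M2).det = 1 := (hP.in0_det hce).1
        have hu := Uni.conj ha hcd
        have h10' : ((wq : M2) * uq (-x) * a * ((wq : M2) * uq (-x)).adjugate) 1 0 = 0 := by
          simp [wq, uq, hxdef, adjugate_fin_two, Matrix.mul_apply, Matrix.vecMul, dotProduct, Fin.sum_univ_two]
          field_simp
          have htr := Uni.trace ha had
          rw [trace_fin_two] at htr
          have hdet := had
          rw [det_fin_two] at hdet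
          linear_combination hdet - htr
        have e1 := Uni.upper hu h10'
        have hz : ((wq : M2) * uq (-x) * a * ((wq : M2) * uq (-x)).adjugate) 0 1 ∈ K :=
          hn.uni_entries hP ((InG.mul (InG.mul (⟨e, hce⟩ : InG P ((wq : M2) * uq (-x))) hga)) (InG.adj hP ⟨e, hce⟩)) hu 0 1
        refine ⟨_, e, hce, ⟨_, e1⟩, ⟨((Φ ⟨_, hz⟩ : K) : F), ?_⟩⟩
        have h2 := (hce.mul hab).mul (hP.in0_adj hce)
        rw [e1] at h2
        exact hN.uni_unique hK (hΦ ⟨_, hz⟩) h2 (uni_uq _) (Uni.conj hb (hP.in0_det hce).2)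

end CfsgLib.Sp4Odd
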