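import Cfsg.Agent.Lib.Sp4Odd.Glue

/-!
Changing the swap to another involution orthogonal to the base vector.
-/

set_option autoImplicit false
set_option maxHeartbeats 400000

namespace CfsgLib.Sp4Odd

open Matrix

variable {F : Type*} [Field F] [Fintype F]

local notation "M2" => Matrix (Fin 2) (Fin 2) F
local notation "M4" => Matrix (Fin 2) (Fin 2) (Matrix (Fin 2) (Fin 2) F)

variable {P : Subgroup (Matrix (Fin 2) (Fin 2) (Matrix (Fin 2) (Fin 2) F))ˣ}

/-- Another neighbour as the swap: the first blocks are conjugated. -/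
theorem Normal.exists_shift {C : Ctx P} (hN : Normal C) {m : M2} (hm : In0 P m m.adjugate) :
    ∃ (P' : Subgroup (Matrix (Fin 2) (Fin 2) (Matrix (Fin 2) (Fin 2) F))ˣ) (C' : Ctx P'), Normal C' ∧
      ∀ a b : M2, In0 P' a b ↔ In0 P (m * a * m.adjugate) b := by
  have hd := (C.hP.in0_det hm).1
  let h : M4ˣ := ⟨dg m.adjugate 1, dg m 1, by rw [dg_mul, adjugate_mul, hd, one_smul, one_mul, dg_one],
    by rw [dg_mul, mul_adjugate, hd, one_smul, one_mul, dg_one]⟩
  have hs : Sim h.1 := by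
    refine Iso.sim ?_
    show st (dg m.adjugate 1) * dg m.adjugate 1 = 1
    rw [st_dg, adj_adj, adjugate_one, dg_mul, mul_adjugate, hd, one_smul, one_mul, dg_one]
  have et : kv h (tM : M4) = tM := by
    show dg m.adjugate 1 * tM * dg m 1 = tM
    rw [tM_eq, dg_mul, dg_mul, mul_one, adjugate_mul, hd, one_smul, one_mul, mul_one]
  have eu : kv h (uM m) = uM 1 := by
    show dg m.adjugate 1 * uM m * dg m 1 = uM 1
    have := dg_uM m.adjugate (1 : M2) m
    rw [adj_adj, adjugate_one, mul_one, adjugate_mul, hd, one_smul] at this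
    exact this
  have hA : C.InL C.tv (uM m) := hN.inL_iff.2 ⟨m, hm, rfl⟩
  refine ⟨_, C.map hs, ⟨(C.map_tv hs).trans (by rw [hN.base]; exact et), ?_⟩, fun a b => ⟨?_, ?_⟩⟩
  · have := (C.inL_map hs).2 hA
    rwa [eu, hN.base, et] at this
  · rintro ⟨g, hg⟩
    obtain ⟨g, rfl⟩ := (conjE h P).surjective g
    refine ⟨g, ?_⟩
    rw [conjE_mat] at hg
    have := congrArg (kv h⁻¹) hg
    rw [kv_inv] at this
    rw [this, show kv h⁻¹ (dg a b) = dg m 1 * dg a b * dg m.adjugate 1 from rfl, dg_mul, dg_mul, one_mul, mul_one]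
  · rintro ⟨g, hg⟩
    refine ⟨conjE h P g, ?_⟩
    rw [conjE_mat, hg, show kv h (dg _ _) = dg m.adjugate 1 * dg _ _ * dg m 1 from rfl, dg_mul, dg_mul, one_mul,
      mul_one]
    simp only [← mul_assoc, (adj_inv hd).2, one_mul]
    simp only [mul_assoc, (adj_inv hd).2, mul_one]

end CfsgLib.Sp4Odd
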