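import Cfsg.Agent.Lib.Sp4Odd.FieldFixed
import Cfsg.Agent.Lib.Sp4Odd.Shift

/-!
The field case: reduction to fixed unipotent groups, and its exclusion.
-/

set_option autoImplicit false
set_option maxHeartbeats 400000

namespace CfsgLib.Sp4Odd

open Matrix

variable {F : Type*} [Field F]

local notation "M2" => Matrix (Fin 2) (Fin 2) F

theorem conj_uq_conj (x : F) {a : M2} : uq x * (uq (-x) * a * uq x) * uq (-x) = a := by
  simp only [← mul_assoc, uq_mul, add_neg_cancel, uq_zero, one_mul]
  rw [mul_assoc, uq_mul, add_neg_cancel, uq_zero, mul_one]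

/-- The unit of an upper unipotent matrix. -/
def uqU (x : F) : GL (Fin 2) F where
  val := uq x
  inv := uq (-x)
  val_inv := by rw [uq_mul, add_neg_cancel, uq_zero]
  inv_val := by rw [uq_mul, neg_add_cancel, uq_zero]

variable [Fintype F] {P : Subgroup (Matrix (Fin 2) (Fin 2) (Matrix (Fin 2) (Fin 2) F))ˣ}

theorem in0_conjP_uq {x : F} {a b : M2} :
    In0 (conjP (dgU (uqU x)) P) a b ↔ In0 P (uq (-x) * a * uq x) (uq (-x) * b * uq x) := in0_conjP_dgU

/-- Conjugation by a subfield translation keeps the normal form. -/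
theorem Nf.conj_uq {K : Subfield F} (hn : Nf P K) (hP : Hyp P) {x : F} (hx : x ∈ K) :
    Nf (conjP (dgU (uqU x)) P) K := by
  refine hn.congr fun a => ?_
  rw [inG_conjP_dgU]
  show InG P (uq (-x) * a * uq x) ↔ InG P a
  refine ⟨fun h => ?_, fun h => ((hn.uq_mem _ (K.neg_mem hx)).mul h).mul (hn.uq_mem _ hx)⟩
  have := ((hn.uq_mem _ hx).mul h).mul (hn.uq_mem _ (K.neg_mem hx))
  rwa [conj_uq_conj] at this

/-- The fixed point of a non-triangular unipotent matrix. -/
theorem Uni.eq_conj_lq {b : M2} (hu : Uni b) (hd : b.det = 1) (h10 : b 1 0 ≠ 0) :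
    b = uq ((b 0 0 - 1) / b 1 0) * lq (b 1 0) * uq (-((b 0 0 - 1) / b 1 0)) := by
  have htr := hu.trace hd
  rw [trace_fin_two] at htr
  rw [det_fin_two] at hd
  ext i j
  fin_cases i <;> fin_cases j <;> simp [uq, lq, Matrix.mul_apply, Fin.sum_univ_two, h10]
  all_goals field_simp
  all_goals first | linear_combination htr | linear_combination -hd + b 0 0 * htr |
    linear_combination hd - b 0 0 * htr | ring

/-- The moved case: the pairing exchanges the unipotent groups. -/
theorem Normal.false_of_moved {C : Ctx P} (hN : Normal C) {K : Subfield F} (hn : Nf P K)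
    (hUL : ∀ t ∈ K, ∃ y, In0 P (uq t) (lq y)) : False := by
  classical
  have hP := C.hP
  have hK := hn.kcent hP
  choose f hf using fun t : K => hUL t.1 t.2
  have hfK : ∀ t : K, f t ∈ K := fun t => hn.lq_param hP ⟨_, hN.in0_swap (hf t)⟩
  have uniq : ∀ {t : K} {y : F}, In0 P (uq (t : F)) (lq y) → y = f t := fun {t y} h =>
    lq_inj (hN.uni_unique hK (hf t) h (uni_lq _) (uni_lq _))
  let Φ : K →+ K := AddMonoidHom.mk' (fun t => ⟨f t, hfK t⟩) fun s t => Subtype.ext (by
    have := (hf s).mul (hf t)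
    rw [uq_mul, lq_mul] at this
    exact (uniq (t := s + t) this).symm)
  have hΦ : ∀ t : K, In0 P (uq (t : F)) (lq (Φ t : F)) := hf
  have hinj : Function.Injective Φ := by
    rw [injective_iff_map_eq_zero]
    intro t ht
    have h := hΦ t
    rw [ht, show ((0 : K) : F) = 0 from rfl, lq_zero] at h
    exact Subtype.ext (hP.uq_one_eq h)
  have hsurj : Function.Surjective Φ := Finite.injective_iff_surjective.1 hinj
  have hΦ0 : ∀ {s : K}, s ≠ 0 → Φ s ≠ 0 := fun {s} hs e => hs (hinj (by rw [e, map_zero]))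
  -- the Weyl elements
  have hw : ∀ s : K, s ≠ 0 → Φ (-(Φ s)⁻¹) = -s⁻¹ ∧
      In0 P !![0, (s : F); -(s : F)⁻¹, 0] !![0, -(Φ s : F)⁻¹; (Φ s : F), 0] := by
    intro s hs
    obtain ⟨z, hz⟩ := hsurj (-s⁻¹)
    have hs' : (s : F) ≠ 0 := fun e => hs (Subtype.ext e)
    have hz' : In0 P (lq (-(s : F)⁻¹)) (uq (z : F)) := by
      have := hN.in0_swap (hΦ z)
      rwa [hz] at this
    have h := ((hΦ s).mul hz').mul (hΦ s)
    have e : uq (s : F) * lq (-(s : F)⁻¹) * uq (s : F) = !![0, (s : F); -(s : F)⁻¹, 0] := by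
      ext i j; fin_cases i <;> fin_cases j <;> simp [uq, lq, Matrix.mul_apply, Fin.sum_univ_two, hs']
    rw [e] at h
    set y := (Φ s : F) with hy
    have hy0 : y ≠ 0 := fun e => hΦ0 hs (Subtype.ext e)
    have ey : lq y * uq (z : F) * lq y = !![1 + y * (z : F), (z : F); y * (2 + y * z), 1 + y * z] := by
      ext i j; fin_cases i <;> fin_cases j <;> simp [uq, lq, Matrix.mul_apply, Fin.sum_univ_two] <;> ring
    rw [ey] at h
    have h1 := ((h.mul (hΦ 1)).mul (hP.in0_adj h))
    have e1 : !![0, (s : F); -(s : F)⁻¹, 0] * uq ((1 : K) : F) * (!![0, (s : F); -(s : F)⁻¹, 0] : M2).adjugate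
        = lq (-((s : F) * s)⁻¹) := by
      ext i j
      fin_cases i <;> fin_cases j <;>
        simp [uq, lq, adjugate_fin_two, Matrix.mul_apply, Matrix.vecMul, dotProduct, Fin.sum_univ_two, hs']
    rw [e1] at h1
    obtain ⟨w, hw⟩ := hsurj (-(s * s)⁻¹)
    have hw' : In0 P (lq (-((s : F) * s)⁻¹)) (uq (w : F)) := by
      have := hN.in0_swap (hΦ w)
      rwa [hw] at this
    have hd := (hP.in0_det h).2
    have e2 := hN.uni_unique hK hw' h1 (uni_uq _) ((uni_lq (Φ 1 : F)).conj hd)
    have h00 := congrArg (fun m : M2 => (m * !![1 + y * (z : F), (z : F); y * (2 + y * z), 1 + y * z]) 1 0) e2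
    simp only [mul_assoc, (adj_inv hd).2, mul_one] at h00
    simp [uq, lq, Matrix.mul_apply, Fin.sum_univ_two] at h00
    have hyz : 1 + y * z = 0 := h00.resolve_right (hΦ0 one_ne_zero)
    have hzy : (z : F) = -y⁻¹ := by
      field_simp
      linear_combination hyz
    refine ⟨?_, ?_⟩
    · rw [← hz]
      congr 1
      exact Subtype.ext hzy.symm
    · rw [hyz, show y * (2 + y * z) = y by linear_combination y * hyz, hzy] at h
      exact h
  have hsq : ∀ s : K, s ≠ 0 → ∀ a : K, Φ (s * s * a) = Φ s / Φ 1 * (Φ s / Φ 1) * Φ a := by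
    intro s hs a
    have hs' : (s : F) ≠ 0 := fun e => hs (Subtype.ext e)
    have hc0 : (Φ 1 : F) ≠ 0 := fun e => hΦ0 one_ne_zero (Subtype.ext e)
    have hy0 : (Φ s : F) ≠ 0 := fun e => hΦ0 hs (Subtype.ext e)
    have h := (hw s hs).2.mul (hP.in0_adj (hw 1 one_ne_zero).2)
    have h1 := (h.mul (hΦ a)).mul (hP.in0_adj h)
    have e1 : !![0, (s : F); -(s : F)⁻¹, 0] * (!![0, ((1 : K) : F); -((1 : K) : F)⁻¹, 0] : M2).adjugate * uq (a : F) *
        (!![0, (s : F); -(s : F)⁻¹, 0] * (!![0, ((1 : K) : F); -((1 : K) : F)⁻¹, 0] : M2).adjugate).adjugate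
        = uq ((s * s * a : K) : F) := by
      ext i j
      fin_cases i <;> fin_cases j <;>
        simp [uq, adjugate_fin_two, Matrix.mul_apply, Matrix.vecMul, dotProduct, Fin.sum_univ_two, hs']
      ring
    have e2 : !![0, -(Φ s : F)⁻¹; (Φ s : F), 0] * (!![0, -(Φ 1 : F)⁻¹; (Φ 1 : F), 0] : M2).adjugate * lq (Φ a : F) *
        (!![0, -(Φ s : F)⁻¹; (Φ s : F), 0] * (!![0, -(Φ 1 : F)⁻¹; (Φ 1 : F), 0] : M2).adjugate).adjugate
        = lq ((Φ s / Φ 1 * (Φ s / Φ 1) * Φ a : K) : F) := by
      ext i j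
      fin_cases i <;> fin_cases j <;>
        simp [lq, adjugate_fin_two, Matrix.mul_apply, Matrix.vecMul, dotProduct, Fin.sum_univ_two, hc0, hy0]
      all_goals field_simp
    rw [e1, e2] at h1
    exact (Subtype.ext (uniq h1)).symm
  have hc : Φ 1 ≠ 0 := hΦ0 one_ne_zero
  have h2 := two_ne_subfield hP.two_ne K
  have hmul := mul_of_sq h2 Φ hc hsq
  set c := Φ 1 with hcdef
  by_cases hid : ∀ s, Φ s = c * s
  · -- the pairing is linear
    have hX : !![0, 1; (c : F), 0] * !![0, 1; (c : F), 0] = (c : F) • (1 : M2) := by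
      ext i j; fin_cases i <;> fin_cases j <;> simp [Matrix.mul_apply, Fin.sum_univ_two]
    have hc' : (c : F) ≠ 0 := fun e => hc (Subtype.ext e)
    obtain ⟨C', ht, hN', hu⟩ := hN.exists_swap_mem
    refine hN'.false_of_intertwiner hu hX hc' fun a b h => hN.intertwines hn hX hc' ?_ ?_ h.in0
    · intro t ht
      refine ⟨_, hΦ ⟨t, ht⟩, ?_⟩
      rw [hid ⟨t, ht⟩]
      ext i j; fin_cases i <;> fin_cases j <;> simp [uq, lq, Matrix.mul_apply, Fin.sum_univ_two]
    · intro t ht
      have h := hN.in0_swap (hΦ (⟨t, ht⟩ / c))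
      rw [hid, mul_div_cancel₀ _ hc] at h
      refine ⟨_, h, ?_⟩
      ext i j
      fin_cases i <;> fin_cases j <;> simp [uq, lq, Matrix.mul_apply, Fin.sum_univ_two, hc']
  · -- renormalise
    push Not at hid
    obtain ⟨x, hx⟩ := hid
    let G : K → K := fun s => Φ s / c
    have hG1 : G 1 = 1 := div_self hc
    have hGadd : ∀ s t, G (s + t) = G s + G t := fun s t => by simp only [G, map_add, add_div]
    have hGmul : ∀ s t, G (s * t) = G s * G t := hmul
    have hGneg : ∀ s, G (-s) = -G s := fun s => by simp only [G, map_neg, neg_div]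
    have hGinv : ∀ s, G s⁻¹ = (G s)⁻¹ := fun s => by
      by_cases hs : s = 0
      · simp [G, hs]
      · exact eq_inv_of_mul_eq_one_left (by rw [← hGmul, inv_mul_cancel₀ hs, hG1])
    have hGc : G c = c := by
      have h1 := (hw 1 one_ne_zero).1
      rw [← hcdef, inv_one] at h1
      have h2' : G (-c⁻¹) = -1 / c := by simp only [G, h1]
      rw [hGneg, hGinv, neg_div, one_div, neg_inj, _root_.inv_inj] at h2'
      exact h2'
    have hGG : ∀ s, G (G s) = s := fun s => by
      by_cases hs : s = 0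
      · simp [G, hs]
      have h1 := (hw s hs).1
      have e : Φ s = c * G s := (mul_div_cancel₀ _ hc).symm
      have h2' : G (-(c * G s)⁻¹) = -s⁻¹ / c := by simp only [G] at e ⊢; rw [← e, h1]
      rw [hGneg, hGinv, hGmul, hGc] at h2'
      field_simp at h2'
      exact (eq_of_div_eq_one (neg_inj.1 h2')).symm
    -- a norm
    let k : Subring K :=
      { carrier := {s | G s = s}
        one_mem' := hG1
        mul_mem' := fun {a b} (ha : G a = a) (hb : G b = b) => by show G _ = _; rw [hGmul, ha, hb]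
        zero_mem' := by show G 0 = 0; simp [G]
        add_mem' := fun {a b} (ha : G a = a) (hb : G b = b) => by show G _ = _; rw [hGadd, ha, hb]
        neg_mem' := fun {a} (ha : G a = a) => by show G _ = _; rw [hGneg, ha] }
    let k' : Subfield K := { k with inv_mem' := fun a (ha : G a = a) => by show G _ = _; rw [hGinv, ha] }
    haveI : Fintype k' := Fintype.ofFinite _
    set d := x - G x with hd
    have hd0 : d ≠ 0 := fun e => hx (by
      rw [sub_eq_zero] at e
      conv_rhs => rw [e]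
      simp only [G]; rw [mul_div_cancel₀ _ hc])
    have hGd : G d = -d := by
      rw [hd, sub_eq_add_neg, hGadd, hGneg, hGG, neg_add, neg_neg, add_comm]
    have hd2 : d * d ∈ k' := show G _ = _ by rw [hGmul, hGd, neg_mul_neg]
    have hci : c⁻¹ ∈ k' := show G _ = _ by rw [hGinv, hGc]
    have hk2 : ringChar k' ≠ 2 := fun h => two_ne_subfield h2 k' (by
      have := (ringChar.spec k' 2).2 (by rw [h])
      rwa [Nat.cast_ofNat] at this)
    obtain ⟨u, v, huv⟩ := FiniteField.exists_root_sum_quadratic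
      (f := (Polynomial.X ^ 2 - Polynomial.C (⟨c⁻¹, hci⟩ : k')))
      (g := Polynomial.C (-(⟨d * d, hd2⟩ : k')) * Polynomial.X ^ 2)
      (Polynomial.degree_X_pow_sub_C (by norm_num) _)
      (Polynomial.degree_C_mul_X_pow 2 (neg_ne_zero.2 fun e => mul_ne_zero hd0 hd0 (congrArg Subtype.val e)))
      (FiniteField.odd_card_of_char_ne_two hk2)
    simp only [Polynomial.eval_sub, Polynomial.eval_pow, Polynomial.eval_X, Polynomial.eval_C,
      Polynomial.eval_mul] at huv
    have huv' := congrArg k'.subtype huv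
    simp only [map_add, map_sub, map_pow, map_neg, map_mul, map_zero, Subfield.subtype_apply] at huv'
    set s : K := u + d * v with hs
    have hGs : G s = u - d * v := by
      rw [hs, hGadd, hGmul, hGd, show G (u : K) = u from u.2, show G (v : K) = v from v.2, neg_mul, sub_eq_add_neg]
    have hsn : s * G s = c⁻¹ := by rw [hGs, hs]; linear_combination huv'
    have hs0 : s ≠ 0 := fun e => inv_ne_zero hc (by rw [← hsn, e, zero_mul])
    have hΦs : Φ s = s⁻¹ := by
      refine eq_inv_of_mul_eq_one_left ?_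
      rw [show Φ s = c * G s from (mul_div_cancel₀ _ hc).symm, mul_assoc, mul_comm (G s), hsn, mul_inv_cancel₀ hc]
    have hs' : (s : F) ≠ 0 := fun e => hs0 (Subtype.ext e)
    set m : M2 := !![0, (s : F); -(s : F)⁻¹, 0] with hm
    have hmm : In0 P m m.adjugate := by
      have := (hw s hs0).2
      rw [hΦs] at this
      convert this using 1
      ext i j; fin_cases i <;> fin_cases j <;> simp [hm, adjugate_fin_two]
    obtain ⟨P', C', hN', hP'⟩ := hN.exists_shift hmm
    have hmG : InG P m := ⟨_, hmm⟩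
    have hmd := hmG.det hP
    have hn' : Nf P' K := hn.congr fun a => by
      constructor
      · rintro ⟨b, hb⟩
        have := ((InG.adj hP hmG).mul ⟨_, (hP' a b).1 hb⟩).mul hmG
        rwa [show m.adjugate * (m * a * m.adjugate) * m = a by
          simp only [← mul_assoc, (adj_inv hmd).2, one_mul]; rw [mul_assoc, (adj_inv hmd).2, mul_one]] at this
      · intro ha
        obtain ⟨b, hb⟩ := (hmG.mul ha).mul (InG.adj hP hmG)
        exact ⟨b, (hP' a b).2 hb⟩
    refine hN'.false_of_fixed hn' (fun t ht => ?_) (fun t ht => ?_)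
    · obtain ⟨z, hz⟩ := hsurj (-(⟨t, ht⟩ / (s * s)))
      refine ⟨z, (hP' _ _).2 ?_⟩
      have h := hN.in0_swap (hΦ z)
      rw [hz] at h
      convert h using 1
      ext i j
      fin_cases i <;> fin_cases j <;>
        simp [hm, uq, lq, adjugate_fin_two, Matrix.mul_apply, Matrix.vecMul, dotProduct, Fin.sum_univ_two, hs']
      field_simp
    · refine ⟨((Φ (-(⟨t, ht⟩ * (s * s))) : K) : F), (hP' _ _).2 ?_⟩
      have h := hΦ (-(⟨t, ht⟩ * (s * s)))
      convert h using 1
      ext i j
      fin_cases i <;> fin_cases j <;>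
        simp [hm, uq, lq, adjugate_fin_two, Matrix.mul_apply, Matrix.vecMul, dotProduct, Fin.sum_univ_two, hs']
      ring

/-- The field case is impossible. -/
theorem Normal.false_of_nf {C : Ctx P} (hN : Normal C) {K : Subfield F} (hn : Nf P K) : False := by
  classical
  have hP := C.hP
  have h2 := hP.two_ne
  have hK := hn.kcent hP
  have hpart : ∀ t ∈ K, ∃ b, In0 P (uq t) b ∧ Uni b := fun t ht =>
    hN.uni_partner hK (hn.uq_mem t ht) (uni_uq t)
  have hcomm : ∀ {t s : F} {b b' : M2}, In0 P (uq t) b → In0 P (uq s) b' → Uni b → Uni b' → b * b' * b.adjugate = b' :=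
    fun {t s b b'} h h' hb hb' => by
      have := (h.mul h').mul (hP.in0_adj h)
      rw [adj_uq, uq_mul, uq_mul, add_comm t s, add_neg_cancel_right] at this
      exact hN.uni_unique hK h' this hb' (hb'.conj (hP.in0_det h).2)
  have hcm : ∀ {b b' : M2}, b.det = 1 → b * b' * b.adjugate = b' → b * b' = b' * b := fun {b b'} hd e => by
    have := congrArg (· * b) e
    simp only [mul_assoc, (adj_inv hd).2, mul_one] at this
    exact this
  obtain ⟨b, hb, hbu⟩ := hpart 1 K.one_mem
  have hbd := (hP.in0_det hb).2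
  by_cases h10 : b 1 0 = 0
  · -- upper is fixed
    have hb' := Uni.upper hbu h10
    have hy : b 0 1 ≠ 0 := fun e => by
      rw [hb', e, uq_zero] at hb
      exact one_ne_zero (hP.uq_one_eq hb)
    have hUU : ∀ t ∈ K, ∃ y, In0 P (uq t) (uq y) := fun t ht => by
      obtain ⟨b', hb'', hu'⟩ := hpart t ht
      have e := hcm hbd (hcomm hb hb'' hbu hu')
      rw [hb'] at e
      exact ⟨_, Uni.upper hu' (upper_of_comm hy e.symm) ▸ hb''⟩
    choose g hg using fun t : K => hUU t.1 t.2
    have hgK : ∀ t : K, g t ∈ K := fun t => hn.uq_param hP ⟨_, hN.in0_swap (hg t)⟩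
    obtain ⟨d, hd, hdu⟩ := hN.uni_partner hK (hn.lq_mem 1 K.one_mem) (uni_lq 1)
    have hd10 : d 1 0 ≠ 0 := by
      intro e
      have hd' := Uni.upper hdu e
      have hK' : d 0 1 ∈ K := hn.uni_entries hP ⟨_, hN.in0_swap hd⟩ hdu 0 1
      obtain ⟨y, hy'⟩ := hUU _ hK'
      rw [hd'] at hd
      rcases hN.partner hK (hN.in0_swap hd) hy' with e' | e'
      all_goals
        have := congr_fun₂ e' 1 0
        simp [uq, lq] at this
    set x := (d 0 0 - 1) / d 1 0 with hxdef
    have hde := hn.uni_entries hP ⟨_, hN.in0_swap hd⟩ hdu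
    have hxK : x ∈ K := K.div_mem (K.sub_mem (hde 0 0) K.one_mem) (hde 1 0)
    have hLx : ∀ t ∈ K, ∃ y, In0 P (lq t) (uq x * lq y * uq (-x)) := by
      intro t ht
      obtain ⟨e, he, heu⟩ := hN.uni_partner hK (hn.lq_mem t ht) (uni_lq t)
      have hdd := (hP.in0_det hd).2
      have hce : d * e = e * d := by
        refine hcm hdd ?_
        have := (hd.mul he).mul (hP.in0_adj hd)
        rw [adj_lq, lq_mul, lq_mul, add_comm (1 : F) t, add_neg_cancel_right] at this
        exact hN.uni_unique hK he this heu (heu.conj hdd)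
      set e' : M2 := uq (-x) * e * uq x with he'
      have hd1 : (uq (-x) : M2).det = 1 := det_uq _
      have hu' : Uni e' := by
        have := Uni.conj heu hd1
        rwa [adj_uq, neg_neg] at this
      have hdx : uq (-x) * d * uq x = lq (d 1 0) := by
        rw [Uni.eq_conj_lq hdu hdd hd10, ← hxdef]
        have h10' : (uq x * lq (d 1 0) * uq (-x)) 1 0 = d 1 0 := by
          simp [uq, lq, Matrix.mul_apply, Fin.sum_univ_two]
        rw [h10']
        simp only [← mul_assoc, uq_mul, neg_add_cancel, uq_zero, one_mul]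
        rw [mul_assoc, uq_mul, neg_add_cancel, uq_zero, mul_one]
      have h01 : e' 0 1 = 0 := by
        refine lower_of_comm hd10 ?_
        rw [← hdx, he']
        calc uq (-x) * e * uq x * (uq (-x) * d * uq x) = uq (-x) * (e * (uq x * uq (-x)) * d) * uq x := by
              simp only [mul_assoc]
          _ = uq (-x) * (d * (uq x * uq (-x)) * e) * uq x := by rw [uq_mul, add_neg_cancel, uq_zero, mul_one, mul_one, hce]
          _ = uq (-x) * d * uq x * (uq (-x) * e * uq x) := by simp only [mul_assoc]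
      refine ⟨e' 1 0, ?_⟩
      rw [← Uni.lower hu' h01, he', conj_uq_conj]
      exact he
    have hgx : g ⟨x, hxK⟩ = -x := by
      obtain ⟨y, hy'⟩ := hLx 1 K.one_mem
      have hy0 : y ≠ 0 := fun e => by
        rw [e, lq_zero, mul_one, uq_mul, add_neg_cancel, uq_zero] at hy'
        exact one_ne_zero (hn.lq_one_eq hP hy')
      have hyK : y ∈ K := by
        have h := hn.uni_entries hP ⟨_, hN.in0_swap hy'⟩ (by
          have := Uni.conj (uni_lq y) (det_uq x); rwa [adj_uq] at this) 1 0
        simpa [uq, lq, Matrix.mul_apply, Fin.sum_univ_two] using h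
      obtain ⟨z, hz⟩ := hLx y hyK
      set w := g ⟨x, hxK⟩
      have h1 := ((hg ⟨x, hxK⟩).mul hz).mul (hP.in0_adj (hg ⟨x, hxK⟩))
      rw [adj_uq, adj_uq] at h1
      have h2' := hN.in0_swap hy'
      have hu : Uni (uq w * (uq x * lq z * uq (-x)) * uq (-w)) := by
        have h' := Uni.conj (uni_lq z) (det_uq x)
        rw [adj_uq] at h'
        have := Uni.conj h' (det_uq w)
        rwa [adj_uq] at this
      have e := congr_fun₂ (hN.uni_unique hK h2' h1 (uni_lq 1) hu) 0 1
      have e' := congr_fun₂ (hN.uni_unique hK h2' h1 (uni_lq 1) hu) 1 0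
      simp [uq, lq, Matrix.mul_apply, Matrix.vecMul, dotProduct, Fin.sum_univ_two] at e e'
      subst e'
      have : (w + x) * (w + x) = 0 := by linear_combination -e
      linear_combination mul_self_eq_zero.1 this
    have h2K : (2 : F) ∈ K := by rw [← one_add_one_eq_two]; exact K.add_mem K.one_mem K.one_mem
    have hxK2 : x / 2 ∈ K := K.div_mem hxK h2K
    have hg2 : g ⟨x / 2, hxK2⟩ = -(x / 2) := by
      have h := (hg ⟨x / 2, hxK2⟩).mul (hg ⟨x / 2, hxK2⟩)
      rw [uq_mul, uq_mul, show x / 2 + x / 2 = x by field_simp; ring] at h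
      have e := uq_inj (hN.uni_unique hK (hg ⟨x, hxK⟩) h (uni_uq _) (uni_uq _))
      rw [hgx] at e
      field_simp
      linear_combination e
    refine (hN.map_dgU (uqU (-(x / 2)))).false_of_fixed (hn.conj_uq hP (K.neg_mem hxK2))
      (fun t ht => ⟨g ⟨t, ht⟩, ?_⟩) (fun t ht => ?_)
    · refine in0_conjP_uq.2 ?_
      rw [neg_neg, uq_mul, uq_mul, uq_mul, uq_mul, add_comm (x / 2) t, add_comm (x / 2) (g _), add_neg_cancel_right,
        add_neg_cancel_right]
      exact hg ⟨t, ht⟩
    · obtain ⟨y, hy'⟩ := hLx t ht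
      refine ⟨y, in0_conjP_uq.2 ?_⟩
      rw [neg_neg]
      have h := ((hg ⟨x / 2, hxK2⟩).mul hy').mul (hP.in0_adj (hg ⟨x / 2, hxK2⟩))
      rw [hg2, adj_uq, adj_uq, neg_neg] at h
      convert h using 1
      simp only [← mul_assoc, uq_mul]
      rw [show -(x / 2) + x = x / 2 by field_simp; ring, mul_assoc _ (uq (-x)), uq_mul,
        show -x + x / 2 = -(x / 2) by field_simp; ring]
  · -- upper is moved
    set x := (b 0 0 - 1) / b 1 0 with hxdef
    have hbe := hn.uni_entries hP ⟨_, hN.in0_swap hb⟩ hbu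
    have hxK : x ∈ K := K.div_mem (K.sub_mem (hbe 0 0) K.one_mem) (hbe 1 0)
    refine (hN.map_dgU (uqU (-x))).false_of_moved (hn.conj_uq hP (K.neg_mem hxK)) fun t ht => ?_
    obtain ⟨b', hb', hu'⟩ := hpart t ht
    have hcb := hcm hbd (hcomm hb hb' hbu hu')
    set e' : M2 := uq (-x) * b' * uq x with he'
    have hue : Uni e' := by
      have := Uni.conj hu' (det_uq (-x))
      rwa [adj_uq, neg_neg] at this
    have hbx : uq (-x) * b * uq x = lq (b 1 0) := by
      conv_lhs => rw [Uni.eq_conj_lq hbu hbd h10, ← hxdef]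
      simp only [← mul_assoc, uq_mul, neg_add_cancel, uq_zero, one_mul]
      rw [mul_assoc, uq_mul, neg_add_cancel, uq_zero, mul_one]
    have h01 : e' 0 1 = 0 := by
      refine lower_of_comm h10 ?_
      rw [← hbx, he']
      calc uq (-x) * b' * uq x * (uq (-x) * b * uq x) = uq (-x) * (b' * (uq x * uq (-x)) * b) * uq x := by
            simp only [mul_assoc]
        _ = uq (-x) * (b * (uq x * uq (-x)) * b') * uq x := by rw [uq_mul, add_neg_cancel, uq_zero, mul_one, mul_one, hcb]
        _ = uq (-x) * b * uq x * (uq (-x) * b' * uq x) := by simp only [mul_assoc]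
    refine ⟨e' 1 0, in0_conjP_uq.2 ?_⟩
    rw [neg_neg, uq_mul, uq_mul, add_comm x t, add_neg_cancel_right, ← Uni.lower hue h01, he', conj_uq_conj]
    exact hb'

end CfsgLib.Sp4Odd
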