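import Cfsg.Agent.Lib.Sp4Odd.Model

/-!
Two-by-two matrices of trace zero: commuting and anticommuting partners.
-/

set_option autoImplicit false

namespace CfsgLib.Sp4Odd

open Matrix

variable {F : Type*} [Field F]

local notation "M2" => Matrix (Fin 2) (Fin 2) F

theorem mul_self_of_trace {m : M2} (ht : m.trace = 0) (hd : m.det = 1) : m * m = -1 := by
  rw [sq_eq, ht, hd, zero_smul, zero_sub, one_smul]

theorem anti_trace {x y : M2} (hx : x.trace = 0) (hy : y.trace = 0) : x * y + y * x = (x * y).trace • 1 := by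
  rw [trace_fin_two] at hx hy
  have e1 : x 1 1 = -x 0 0 := by linear_combination hx
  have e2 : y 1 1 = -y 0 0 := by linear_combination hy
  ext a b
  fin_cases a <;> fin_cases b <;> simp [mul_apply, trace_fin_two, Fin.sum_univ_two, e1, e2] <;> ring

theorem anticomm_of_trace {x y : M2} (hx : x.trace = 0) (hy : y.trace = 0) (h : (x * y).trace = 0) :
    x * y = -(y * x) := by
  rw [← add_eq_zero_iff_eq_neg, anti_trace hx hy, h, zero_smul]

theorem trace_eq_zero_of_anticomm (h2 : (2 : F) ≠ 0) {i a : M2} (hi : i * i = -1) (h : a * i = -(i * a)) :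
    a.trace = 0 := by
  have e : i * a * i = a := by
    rw [mul_assoc, h, mul_neg, ← mul_assoc, hi, neg_mul, one_mul, neg_neg]
  have : a.trace = -a.trace := by
    conv_lhs => rw [← e]
    rw [trace_mul_cycle, hi, neg_mul, one_mul, trace_neg]
  exact (mul_eq_zero.1 (show (2 : F) * a.trace = 0 by linear_combination this)).resolve_left h2

/-- The centraliser of a square root of minus one. -/
theorem exists_lin_of_comm (h2 : (2 : F) ≠ 0) {i a : M2} (ht : i.trace = 0) (hd : i.det = 1)
    (h : a * i = i * a) : ∃ α β : F, a = α • 1 + β • i := by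
  set a0 := a + (-(a.trace / 2)) • (1 : M2) with ha0
  have ht0 : a0.trace = 0 := by
    rw [ha0, trace_add, trace_smul, trace_one, smul_eq_mul]
    simp
    field_simp
    ring
  have hc : a0 * i = i * a0 := by rw [ha0, add_mul, mul_add, h, smul_mul_assoc, mul_smul_comm, one_mul, mul_one]
  have e := anti_trace ht0 ht
  rw [← hc, ← two_smul F] at e
  have hi := mul_self_of_trace ht hd
  have e' := congrArg (fun m : M2 => (-(2 : F)⁻¹) • (m * i)) e
  simp only [smul_mul_assoc, mul_assoc, hi, mul_neg, mul_one, one_mul, smul_smul, smul_neg] at e'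
  rw [neg_mul, inv_mul_cancel₀ h2, neg_one_smul, neg_neg] at e'
  refine ⟨a.trace / 2, -2⁻¹ * (a0 * i).trace, ?_⟩
  rw [← e', ha0, neg_smul]
  abel

/-- A commuting element moves across an anticommuting one to its adjugate. -/
theorem mul_of_anticomm (h2 : (2 : F) ≠ 0) {i c m : M2} (ht : i.trace = 0) (hd : i.det = 1) (hc : c * i = i * c)
    (hm : m * i = -(i * m)) : m * c.adjugate = c * m := by
  obtain ⟨α, β, rfl⟩ := exists_lin_of_comm h2 ht hd hc
  rw [adj_add, adj_smul, adj_smul, adjugate_one, adj_eq_of_trace ht, mul_add, add_mul, mul_smul_comm, mul_smul_comm,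
    smul_mul_assoc, smul_mul_assoc, mul_neg, hm, neg_neg, mul_one, one_mul]

theorem comm_of_two_anti {i a b : M2} (ha : a * i = -(i * a)) (hb : b * i = -(i * b)) :
    a * b * i = i * (a * b) := by
  rw [mul_assoc, hb, mul_neg, ← mul_assoc, ha, neg_mul, neg_neg, mul_assoc]

end CfsgLib.Sp4Odd
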