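import Cfsg.Agent.Lib.Sp4Odd.Glue
import Cfsg.Agent.Lib.Sp4Odd.Sign
import Cfsg.Agent.Lib.Sp4Odd.Two

/-!
An intertwiner of the two blocks with scalar square is impossible, and so are blocks of exponent four.
-/

set_option autoImplicit false
set_option maxHeartbeats 400000

namespace CfsgLib.Sp4Odd

open Matrix

variable {F : Type*} [Field F]

local notation "M2" => Matrix (Fin 2) (Fin 2) F

theorem exists_inv_of_sq {X : M2} {κ : F} (hX : X * X = κ • 1) (hκ : κ ≠ 0) :
    ∀ x y : M2, (x * X = y * X → x = y) ∧ (X * x = X * y → x = y) := by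
  intro x y
  constructor <;> intro e
  · have := congrArg (fun z => z * X) e
    simp only [mul_assoc, hX, mul_smul_comm, mul_one] at this
    exact smul_right_injective M2 hκ this
  · have := congrArg (fun z => X * z) e
    simp only [← mul_assoc, hX, smul_mul_assoc, one_mul] at this
    exact smul_right_injective M2 hκ this

theorem neg_ne_self2 (h2 : (2 : F) ≠ 0) {a : M2} (h : a.det = 1) : a ≠ -a := by
  intro e
  have e2 : (2 : F) • a = 0 := by rw [two_smul]; exact add_eq_zero_iff_eq_neg.2 e
  rw [(smul_eq_zero.1 e2).resolve_left h2, det_zero] at h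
  exact zero_ne_one h

variable [Fintype F] {P : Subgroup (Matrix (Fin 2) (Fin 2) (Matrix (Fin 2) (Fin 2) F))ˣ}

/-- An intertwiner with scalar square is impossible. -/
theorem Normal.false_of_intertwiner {C : Ctx P} (hN : Normal C)
    (hu : ∃ u ∈ (C.T : Subgroup P), u.1.1 = uM (1 : M2)) {X : M2} {κ : F} (hX : X * X = κ • 1) (hκ : κ ≠ 0)
    (hpick : ∀ a b, InT C a b → X * a = b * X ∨ X * a = -(b * X)) : False := by
  have h2 := C.hP.two_ne
  refine hN.false_of_sign hu (fun a b => X * a = b * X) (by rw [mul_one, one_mul])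
    (by rw [mul_neg, mul_one, neg_mul, one_mul]) (fun a b h => ?_) (fun a b h e e' => ?_)
    (fun a b c d _ _ e e' => ?_) (fun a b _ e => ?_)
  · rcases hpick a b h with e | e
    exacts [Or.inl e, Or.inr (by rw [e, neg_mul])]
  · rw [e, neg_mul, ← neg_mul] at e'
    exact neg_ne_self2 h2 (C.hP.in0_det h.in0).2 ((exists_inv_of_sq hX hκ _ _).1 e')
  · show X * (a * c) = b * d * X
    rw [← mul_assoc, e, mul_assoc, e', ← mul_assoc]
  · refine (exists_inv_of_sq hX hκ _ _).2 ?_
    rw [← mul_assoc, ← mul_assoc, hX, smul_mul_assoc, one_mul, e, mul_assoc, hX, mul_smul_comm, mul_one]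

theorem KCent.elim_pair {C : Ctx P} (hK : KCent P) (hN : Normal C) {a b c d : M2} (h : In0 P a b) (h' : In0 P c d)
    (hc : c = a ∨ c = -a) : d = b ∨ d = -b := by
  rcases hc with rfl | rfl
  · exact hN.partner hK h h'
  · have := hN.in0_neg_left h'
    rw [neg_neg] at this
    exact hN.partner hK h this

/-- The projection has no central kernel and two-elements of order dividing four only. -/
theorem Normal.false_of_exponent {C : Ctx P} (hN : Normal C) (hK : KCent P)
    (hexp : ∀ a, InG P a → ∀ n : ℕ, a ^ 2 ^ n = 1 → a * a = 1 ∨ a * a = -1) : False := by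
  classical
  have hP := C.hP
  have h2 := hP.two_ne
  obtain ⟨C', -, hN', hu⟩ := hN.exists_swap_mem
  obtain ⟨u, huT, hue⟩ := hu
  have hswap : ∀ {a b : M2}, InT C' a b → InT C' b a := by
    rintro a b ⟨g, hg, e⟩
    exact ⟨u * g * u, mul_mem (mul_mem huT hg) huT, by
      rw [Subgroup.coe_mul, Subgroup.coe_mul, Units.val_mul, Units.val_mul, e, hue, uM_one_dg]⟩
  have hmul : ∀ {a b c d : M2}, InT C' a b → InT C' c d → InT C' (a * c) (b * d) := by
    rintro a b c d ⟨g, hg, e⟩ ⟨h, hh, e'⟩
    exact ⟨g * h, mul_mem hg hh, by rw [Subgroup.coe_mul, Units.val_mul, e, e', dg_mul]⟩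
  -- the first blocks in the Sylow subgroup
  have hsq : ∀ {a b : M2}, InT C' a b → a = 1 ∨ a = -1 ∨ (a * a = -1 ∧ a.trace = 0) := by
    rintro a b h
    obtain ⟨g, hg, e⟩ := h
    obtain ⟨n, hn⟩ := C'.T.2 ⟨g, hg⟩
    have hn' : g ^ 2 ^ n = 1 := congrArg Subtype.val hn
    have hpow : ∀ m : ℕ, (g ^ m).1.1 = dg (a ^ m) (b ^ m) := fun m => by
      induction m with
      | zero => simp [dg_one]
      | succ m ih => rw [pow_succ, Subgroup.coe_mul, Units.val_mul, ih, e, dg_mul, pow_succ, pow_succ]
    have ha : a ^ 2 ^ n = 1 := by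
      have := hpow (2 ^ n)
      rw [hn', show ((1 : P).1.1 : Matrix (Fin 2) (Fin 2) M2) = 1 from rfl, ← dg_one] at this
      exact (dg_inj this).1.symm
    have hd := (hP.in0_det ⟨g, e⟩).1
    rcases hexp a ⟨b, g, e⟩ n ha with h' | h'
    · rcases eq_pm_of_sq h2 hd h' with h'' | h''
      exacts [Or.inl h'', Or.inr (Or.inl h'')]
    · exact Or.inr (Or.inr ⟨h', trace_of_sq_neg hd h'⟩)
  -- two trace zero first blocks agree up to sign or anticommute
  have hanti : ∀ {a b c d : M2}, InT C' a b → InT C' c d → a * a = -1 → c * c = -1 → ¬ (c = a ∨ c = -a) →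
      a * c = -(c * a) := by
    intro a b c d hab hcd ha hc hne
    have hta := trace_of_sq_neg (hP.in0_det hab.in0).1 ha
    have htc := trace_of_sq_neg (hP.in0_det hcd.in0).1 hc
    rcases hsq (hmul hab hcd) with h | h | ⟨-, h⟩
    · exact absurd (Or.inr (by
        calc c = -(a * a) * c := by rw [ha, neg_neg, one_mul]
          _ = -a := by rw [neg_mul, mul_assoc, h, mul_one])) hne
    · exact absurd (Or.inl (by
        calc c = -(a * a) * c := by rw [ha, neg_neg, one_mul]
          _ = a := by rw [neg_mul, mul_assoc, h, mul_neg, mul_one, neg_neg])) hne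
    · exact anticomm_of_trace hta htc h
  by_cases hid : ∀ a b, InT C' a b → b = a ∨ b = -a
  · refine hN'.false_of_intertwiner ⟨u, huT, hue⟩ (X := 1) (κ := 1) (by rw [mul_one, one_smul]) one_ne_zero
      fun a b h => ?_
    rcases hid a b h with rfl | rfl
    exacts [Or.inl (by rw [mul_one, one_mul]), Or.inr (by rw [mul_one, one_mul, neg_neg])]
  push Not at hid
  obtain ⟨a, b, hab, hb1, hb2⟩ := hid
  have hcent : ∀ {x y : M2}, InT C' x y → (x = 1 ∨ x = -1) → y = 1 ∨ y = -1 := by
    intro x y h hx
    rcases hx with rfl | rfl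
    · exact hK _ (hN'.in0_swap h.in0)
    · have := hN'.in0_swap (hP.in0_neg h.in0)
      rw [neg_neg] at this
      rcases hK _ this with e | e
      · exact Or.inr (neg_eq_iff_eq_neg.1 e)
      · exact Or.inl (neg_inj.1 e)
  have ha : a * a = -1 := by
    rcases hsq hab with h | h | ⟨h, -⟩
    · rcases hcent hab (Or.inl h) with e | e
      exacts [absurd (e.trans h.symm) hb1, absurd (e.trans (by rw [h])) hb2]
    · rcases hcent hab (Or.inr h) with e | e
      exacts [absurd (e.trans (by rw [h, neg_neg])) hb2, absurd (e.trans h.symm) hb1]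
    · exact h
  have hb : b * b = -1 := by
    rcases hsq (hswap hab) with h | h | ⟨h, -⟩
    · rcases hcent (hswap hab) (Or.inl h) with e | e
      exacts [absurd (h.trans e.symm) hb1, absurd (h.trans (by rw [e, neg_neg])) hb2]
    · rcases hcent (hswap hab) (Or.inr h) with e | e
      exacts [absurd (h.trans (by rw [e])) hb2, absurd (h.trans e.symm) hb1]
    · exact h
  have hab' : a * b = -(b * a) := hanti hab (hswap hab) ha hb (not_or.2 ⟨hb1, hb2⟩)
  set X := a + b with hX
  have hXX : X * X = (-2 : F) • 1 := by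
    rw [hX, add_mul, mul_add, mul_add, ha, hb, hab']
    module
  have hXa : X * a = b * X := by rw [hX, add_mul, mul_add, ha, hb, add_comm]
  have hXb : X * b = a * X := by rw [hX, add_mul, mul_add, ha, hb, add_comm]
  refine hN'.false_of_intertwiner ⟨u, huT, hue⟩ hXX (neg_ne_zero.2 h2) fun c d hcd => ?_
  rcases hsq hcd with h | h | ⟨hc, -⟩
  · rcases hcent hcd (Or.inl h) with e | e <;> rw [h, e] <;> simp
  · rcases hcent hcd (Or.inr h) with e | e <;> rw [h, e] <;> simp
  by_cases h1 : c = a ∨ c = -a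
  · rcases hK.elim_pair hN' hab.in0 hcd.in0 h1 with e | e
    all_goals rcases h1 with rfl | rfl <;> subst e <;> simp [hXa]
  by_cases h3 : c = b ∨ c = -b
  · rcases hK.elim_pair hN' (hswap hab).in0 hcd.in0 h3 with e | e
    all_goals rcases h3 with rfl | rfl <;> subst e <;> simp [hXb]
  -- the third axis
  have h4 : a * b * c = c * (a * b) := by
    rw [mul_assoc, hanti (hswap hab) hcd hb hc h3, mul_neg, ← mul_assoc, hanti hab hcd ha hc h1, neg_mul, neg_neg,
      mul_assoc]
  have habs : (a * b) * (a * b) = -1 := by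
    calc a * b * (a * b) = a * (b * a) * b := by simp only [mul_assoc]
      _ = -(a * a * (b * b)) := by rw [show b * a = -(a * b) by rw [hab', neg_neg], mul_neg, neg_mul]; simp only [mul_assoc]
      _ = -1 := by rw [ha, hb, neg_mul_neg, one_mul]
  have hc3 : c = a * b ∨ c = -(a * b) := by
    by_contra hne
    have := hanti (hmul hab (hswap hab)) hcd habs hc hne
    rw [h4] at this
    exact neg_ne_self2 h2 (by rw [det_mul, (hP.in0_det hcd.in0).1,
      (hP.in0_det (hmul hab (hswap hab)).in0).1, mul_one] : (c * (a * b)).det = 1) this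
  have hXab : X * (a * b) = b * a * X := by rw [← mul_assoc, hXa, mul_assoc, hXb, mul_assoc]
  rcases hK.elim_pair hN' (hmul hab (hswap hab)).in0 hcd.in0 hc3 with e | e
  all_goals rcases hc3 with rfl | rfl <;> subst e <;> simp [hXab]
end CfsgLib.Sp4Odd
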