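import Cfsg.Agent.Lib.Sp4Odd.Dickson
import Cfsg.Agent.Lib.Sp4Odd.Intertwine

/-!
The normal form over a subfield: generation, unipotent members and the kernel.
-/

set_option autoImplicit false
set_option maxHeartbeats 400000

namespace CfsgLib.Sp4Odd

open Matrix

variable {F : Type*} [Field F]

local notation "M2" => Matrix (Fin 2) (Fin 2) F

/-- Unipotent matrices. -/
def Uni (a : Matrix (Fin 2) (Fin 2) F) : Prop := (a - 1) * (a - 1) = 0

theorem uni_uq (t : F) : Uni (uq t : M2) := uq_sub_sq t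

theorem uni_lq (t : F) : Uni (lq t : M2) := by
  unfold Uni
  ext i j; fin_cases i <;> fin_cases j <;> simp [lq, Matrix.mul_apply, Fin.sum_univ_two]

theorem Uni.trace {a : M2} (h : Uni a) (hd : a.det = 1) : a.trace = 2 := by
  have e : (a.trace - 2) • a = 0 := by
    unfold Uni at h
    rw [sub_mul, mul_sub, mul_sub, one_mul, mul_one, one_mul, sq_eq, hd] at h
    linear_combination (norm := module) h
  rcases smul_eq_zero.1 e with h' | h'
  · exact sub_eq_zero.1 h'
  · rw [h', det_zero] at hd; exact absurd hd zero_ne_one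

theorem Uni.conj {a c : M2} (h : Uni a) (hc : c.det = 1) : Uni (c * a * c.adjugate) := by
  unfold Uni at h ⊢
  have e : c * a * c.adjugate - 1 = c * (a - 1) * c.adjugate := by
    rw [mul_sub, sub_mul, mul_one, (adj_inv hc).1]
  rw [e]
  calc c * (a - 1) * c.adjugate * (c * (a - 1) * c.adjugate)
      = c * ((a - 1) * (c.adjugate * c) * (a - 1)) * c.adjugate := by simp only [mul_assoc]
    _ = 0 := by rw [(adj_inv hc).2, mul_one, h, mul_zero, zero_mul]

theorem Uni.pow {a : M2} (h : Uni a) (n : ℕ) : a ^ n = 1 + (n : F) • (a - 1) := by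
  induction n with
  | zero => simp
  | succ n ih =>
    have e : (a - 1) * a = a - 1 := by
      calc (a - 1) * a = (a - 1) * (a - 1) + (a - 1) := by noncomm_ring
        _ = a - 1 := by rw [h, zero_add]
    rw [pow_succ, ih, add_mul, one_mul, smul_mul_assoc, e, Nat.cast_succ, add_smul, one_smul]
    abel

theorem Uni.upper {a : M2} (h : Uni a) (h10 : a 1 0 = 0) : a = uq (a 0 1) := by
  refine eq_uq_of_upper h10 ?_ ?_
  · have := congr_fun₂ h 0 0
    simp [Matrix.mul_apply, Fin.sum_univ_two, h10] at this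
    exact sub_eq_zero.1 this
  · have := congr_fun₂ h 1 1
    simp [Matrix.mul_apply, Fin.sum_univ_two, h10] at this
    exact sub_eq_zero.1 this

theorem Uni.lower {a : M2} (h : Uni a) (h01 : a 0 1 = 0) : a = lq (a 1 0) := by
  have e0 : a 0 0 = 1 := by
    have := congr_fun₂ h 0 0
    simp [Matrix.mul_apply, Fin.sum_univ_two, h01] at this
    exact sub_eq_zero.1 this
  have e1 : a 1 1 = 1 := by
    have := congr_fun₂ h 1 1
    simp [Matrix.mul_apply, Fin.sum_univ_two, h01] at this
    exact sub_eq_zero.1 this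
  ext i j; fin_cases i <;> fin_cases j <;> simp [lq, h01, e0, e1]

/-- Matrices over a subfield of determinant one are products of elementary ones. -/
theorem gen_subfield {K : Subfield F} (S : M2 → Prop) (hmul : ∀ a b, S a → S b → S (a * b))
    (hu : ∀ t ∈ K, S (uq t)) (hl : ∀ t ∈ K, S (lq t)) {a : M2} (ha : ∀ i j, a i j ∈ K) (hd : a.det = 1) : S a := by
  have key : ∀ b : M2, (∀ i j, b i j ∈ K) → b.det = 1 → b 1 0 ≠ 0 → S b := by
    intro b hb hbd h10
    rw [det_fin_two] at hbd
    have e : b = uq ((b 0 0 - 1) / b 1 0) * lq (b 1 0) * uq ((b 1 1 - 1) / b 1 0) := by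
      ext i j
      fin_cases i <;> fin_cases j <;> simp [uq, lq, Matrix.mul_apply, Fin.sum_univ_two, h10]
      all_goals field_simp
      all_goals first | linear_combination hbd | linear_combination -hbd | ring
    rw [e]
    exact hmul _ _ (hmul _ _ (hu _ (K.div_mem (K.sub_mem (hb 0 0) K.one_mem) (hb 1 0))) (hl _ (hb 1 0)))
      (hu _ (K.div_mem (K.sub_mem (hb 1 1) K.one_mem) (hb 1 0)))
  by_cases h10 : a 1 0 = 0
  · have h11 : a 1 1 ≠ 0 := by
      intro e
      rw [det_fin_two, h10, e, mul_zero, mul_zero, sub_zero] at hd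
      exact zero_ne_one hd
    have e : a = a * lq 1 * lq (-1) := by rw [mul_assoc, lq_mul, add_neg_cancel, lq_zero, mul_one]
    rw [e]
    refine hmul _ _ (key _ (fun i j => ?_) (by rw [det_mul, hd, det_lq, one_mul]) ?_) (hl _ (K.neg_mem K.one_mem))
    · fin_cases i <;> fin_cases j <;> simp [lq, Matrix.mul_apply, Fin.sum_univ_two] <;>
        first | exact K.add_mem (ha _ _) (ha _ _) | exact ha _ _
    · simp [lq, Matrix.mul_apply, Fin.sum_univ_two, h10, h11]
  · exact key a ha hd h10

variable [Fintype F] {P : Subgroup (Matrix (Fin 2) (Fin 2) (Matrix (Fin 2) (Fin 2) F))ˣ} {K : Subfield F}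

theorem Nf.congr {P' : Subgroup (Matrix (Fin 2) (Fin 2) (Matrix (Fin 2) (Fin 2) F))ˣ} (hK : Nf P K)
    (h : ∀ a, InG P' a ↔ InG P a) : Nf P' K :=
  ⟨fun t ht => (h _).2 (hK.uq_mem t ht), fun t ht => (h _).2 (hK.lq_mem t ht), fun a ha => hK.shape a ((h a).1 ha),
    hK.five⟩

theorem Nf.mem_of_entries (hK : Nf P K) {a : M2} (ha : ∀ i j, a i j ∈ K) (hd : a.det = 1) : InG P a :=
  gen_subfield (InG P) (fun _ _ h h' => h.mul h') hK.uq_mem hK.lq_mem ha hd

/-- Unipotent members have entries in the subfield. -/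
theorem Nf.uni_entries (hK : Nf P K) (hP : Hyp P) {a : M2} (ha : InG P a) (hu : Uni a) : ∀ i j, a i j ∈ K := by
  obtain ⟨α, hα0, hα2, he⟩ := hK.shape a ha
  have ht : a 0 0 / α + a 1 1 / α ∈ K := K.add_mem (he 0 0) (he 1 1)
  have htr := hu.trace (ha.det hP)
  rw [trace_fin_two] at htr
  have h2 : (2 : F) ∈ K := by
    rw [← one_add_one_eq_two]; exact K.add_mem K.one_mem K.one_mem
  have hα : α ∈ K := by
    have e : α = 2 / (a 0 0 / α + a 1 1 / α) := by
      rw [← add_div, htr, div_div_eq_mul_div, mul_div_assoc]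
      field_simp [hP.two_ne]
    rw [e]; exact K.div_mem h2 ht
  intro i j
  have := K.mul_mem (he i j) hα
  rwa [div_mul_cancel₀ _ hα0] at this

theorem Nf.uq_param (hK : Nf P K) (hP : Hyp P) {t : F} (h : InG P (uq t)) : t ∈ K := by
  simpa [uq] using hK.uni_entries hP h (uni_uq t) 0 1

theorem Nf.lq_param (hK : Nf P K) (hP : Hyp P) {t : F} (h : InG P (lq t)) : t ∈ K := by
  simpa [lq] using hK.uni_entries hP h (uni_lq t) 1 0

theorem Nf.ratio (hK : Nf P K) {a : M2} (ha : InG P a) : a 0 0 / a 1 0 ∈ K := by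
  obtain ⟨α, hα0, hα2, he⟩ := hK.shape a ha
  have := K.div_mem (he 0 0) (he 1 0)
  rwa [div_div_div_cancel_right₀ hα0] at this

/-- The Weyl element. -/
def wq : Matrix (Fin 2) (Fin 2) F := !![0, -1; 1, 0]

theorem Nf.wq_mem (hK : Nf P K) : InG P (wq : M2) :=
  hK.mem_of_entries (fun i j => by fin_cases i <;> fin_cases j <;> simp [wq, K.zero_mem, K.one_mem, K.neg_mem])
    (by simp [wq, det_fin_two])

theorem in0_conj_one (hP : Hyp P) {k a : M2} (h : In0 P k 1) (ha : InG P a) : In0 P (a * k * a.adjugate) 1 := by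
  obtain ⟨b, hb⟩ := ha
  have := (hb.mul h).mul (hP.in0_adj hb)
  rwa [mul_one, (adj_inv (hP.in0_det hb).2).1] at this

theorem Nf.lq_one_eq (hK : Nf P K) (hP : Hyp P) {t : F} (h : In0 P (lq t) 1) : t = 0 := by
  refine neg_eq_zero.1 (hP.uq_one_eq (a := -t) ?_)
  have := in0_conj_one hP h hK.wq_mem
  convert this using 1
  ext i j; fin_cases i <;> fin_cases j <;> simp [uq, lq, wq, adjugate_fin_two, Matrix.mul_apply, Fin.sum_univ_two]

/-- The kernel of the projection is central in normal form. -/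
theorem Nf.kcent (hK : Nf P K) (hP : Hyp P) : KCent P := by
  classical
  have h2 := hP.two_ne
  have comm : ∀ {k a : M2}, In0 P k 1 → InG P a → In0 P (a * k * a.adjugate * k.adjugate) 1 := fun h ha => by
    have := (in0_conj_one hP h ha).mul (hP.in0_adj h)
    rwa [adjugate_one, mul_one] at this
  have hup : ∀ {k : M2}, In0 P k 1 → k 1 0 = 0 → k 0 0 * k 0 0 = 1 ∧ k 0 1 = 0 := by
    intro k h h10
    have hd := (hP.in0_det h).1
    rw [det_fin_two, h10, mul_zero, sub_zero] at hd
    have h1 := comm h (hK.uq_mem 1 K.one_mem)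
    have e : uq 1 * k * (uq 1).adjugate * k.adjugate = uq (1 - k 0 0 * k 0 0) := by
      ext i j
      fin_cases i <;> fin_cases j <;>
        simp [uq, adjugate_fin_two, Matrix.mul_apply, Matrix.vecMul, dotProduct, Fin.sum_univ_two, h10]
      all_goals first | linear_combination hd | linear_combination -hd | ring
    rw [e] at h1
    have h00 := sub_eq_zero.1 (hP.uq_one_eq h1)
    refine ⟨h00.symm, ?_⟩
    have e2 : k * k = uq (2 * k 0 0 * k 0 1) := by
      have h11 : k 1 1 = k 0 0 := by linear_combination k 0 0 * hd + k 1 1 * h00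
      ext i j
      fin_cases i <;> fin_cases j <;> simp [uq, Matrix.mul_apply, Fin.sum_univ_two, h10, h11]
      · exact h00.symm
      · ring
      · exact h00.symm
    have hkk := h.mul h
    rw [mul_one, e2] at hkk
    exact (mul_eq_zero.1 (hP.uq_one_eq hkk)).resolve_left (mul_ne_zero h2 (left_ne_zero_of_mul_eq_one hd))
  intro k hk
  by_cases h10 : k 1 0 = 0
  · obtain ⟨h00, h01⟩ := hup hk h10
    have hd := (hP.in0_det hk).1
    rw [det_fin_two, h10, mul_zero, sub_zero] at hd
    have h11 : k 1 1 = k 0 0 := by linear_combination k 0 0 * hd - k 1 1 * h00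
    rcases mul_self_eq_one_iff.1 h00 with e | e
    · left; ext i j; fin_cases i <;> fin_cases j <;> simp [h10, h01, h11, e]
    · right; ext i j; fin_cases i <;> fin_cases j <;> simp [h10, h01, h11, e]
  exfalso
  -- make the corner zero
  have hcorner : ∀ b : M2, In0 P b 1 → b 1 0 ≠ 0 → In0 P !![0, -(b 1 0)⁻¹; b 1 0, b.trace] 1 := by
    intro b hb hb10
    set x := b 0 0 / b 1 0 with hx
    have h := in0_conj_one hP hb (hK.uq_mem (-x) (K.neg_mem (hK.ratio ⟨_, hb⟩)))
    convert h using 1
    have hd := (hP.in0_det hb).1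
    rw [det_fin_two] at hd
    ext i j
    fin_cases i <;> fin_cases j <;>
      simp [uq, hx, adjugate_fin_two, trace_fin_two, Matrix.mul_apply, Matrix.vecMul, dotProduct, Fin.sum_univ_two]
    all_goals field_simp
    all_goals first | linear_combination hd | linear_combination -hd | ring
  have hlow : ∀ {A X : F}, A ≠ 0 → In0 P !![A, 0; X, A⁻¹] 1 → A * A = 1 ∧ X = 0 := by
    intro A X hA h
    have h' := in0_conj_one hP h hK.wq_mem
    have e : wq * !![A, 0; X, A⁻¹] * wq.adjugate = !![A⁻¹, -X; 0, A] := by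
      ext i j; fin_cases i <;> fin_cases j <;> simp [wq, adjugate_fin_two, Matrix.mul_apply, Fin.sum_univ_two]
    rw [e] at h'
    obtain ⟨h1, h2'⟩ := hup h' (by simp)
    simp at h1 h2'
    refine ⟨?_, h2'⟩
    field_simp at h1
    linear_combination -h1
  have hs : ∀ b : M2, In0 P b 1 → b 1 0 ≠ 0 → ∀ s ∈ K, s ≠ 0 → s ^ 4 = 1 ∧ (s ^ 2 = 1 ∨ b.trace = 0) := by
    intro b hb hb10 s hs hs0
    have hk' := hcorner b hb hb10
    revert hb10 hk'
    generalize b 1 0 = C
    generalize b.trace = D
    intro hb10 hk'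
    have hm : InG P !![s, 0; 0, s⁻¹] := hK.mem_of_entries
      (fun i j => by fin_cases i <;> fin_cases j <;> simp [hs, K.zero_mem, K.inv_mem hs])
      (by simp [det_fin_two, hs0])
    have h := comm hk' hm
    have e : !![s, 0; 0, s⁻¹] * !![0, -C⁻¹; C, D] * (!![s, 0; 0, s⁻¹] : M2).adjugate * (!![0, -C⁻¹; C, D] : M2).adjugate
        = !![s ^ 2, 0; C * D * ((s ^ 2)⁻¹ - 1), (s ^ 2)⁻¹] := by
      ext i j
      fin_cases i <;> fin_cases j <;> simp [adjugate_fin_two, Matrix.mul_apply, Fin.sum_univ_two, hs0, hb10] <;>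
        field_simp <;> ring
    rw [e] at h
    obtain ⟨h1, h3⟩ := hlow (pow_ne_zero 2 hs0) h
    refine ⟨by linear_combination h1, ?_⟩
    rcases mul_eq_zero.1 h3 with h3 | h3
    · exact Or.inr ((mul_eq_zero.1 h3).resolve_left hb10)
    · exact Or.inl (inv_eq_one.1 (sub_eq_zero.1 h3))
  -- the subfield has five elements
  haveI : Fintype K := Fintype.ofFinite K
  have hcard : Fintype.card K = 5 := by
    refine le_antisymm ?_ (by rw [← Nat.card_eq_fintype_card]; exact hK.five)
    have : (Finset.univ : Finset K) ⊆ insert 0 (Polynomial.nthRootsFinset 4 (1 : K)) := by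
      intro s _
      rw [Finset.mem_insert, Polynomial.mem_nthRootsFinset (by norm_num)]
      by_cases h : s = 0
      · exact Or.inl h
      · exact Or.inr (Subtype.ext (by
          rw [SubmonoidClass.coe_pow]; exact (hs k hk h10 s.1 s.2 (fun e => h (Subtype.ext e))).1))
    calc Fintype.card K = (Finset.univ : Finset K).card := rfl
      _ ≤ _ := Finset.card_le_card this
      _ ≤ _ := Finset.card_insert_le _ _
      _ ≤ 5 := by
        rw [Polynomial.nthRootsFinset_def]
        have h4 := (Multiset.toFinset_card_le (Polynomial.nthRoots 4 (1 : K))).trans (Polynomial.card_nthRoots 4 1)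
        omega
  have h5 : (5 : F) = 0 := by
    have := congrArg K.subtype (FiniteField.cast_card_eq_zero K)
    rwa [hcard, Nat.cast_ofNat, map_ofNat, map_zero] at this
  have h3 : (3 : F) ≠ 0 := fun h => h2 (by linear_combination h5 - h)
  have h2K : (2 : F) ∈ K := by rw [← one_add_one_eq_two]; exact K.add_mem K.one_mem K.one_mem
  have htr : ∀ b : M2, In0 P b 1 → b 1 0 ≠ 0 → b.trace = 0 := fun b hb hb10 =>
    (hs b hb hb10 2 h2K h2).2.resolve_left fun h => h3 (by linear_combination h)
  have hk' := hcorner k hk h10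
  rw [htr k hk h10] at hk'
  revert hk' h10
  generalize k 1 0 = C
  intro h10 hk'
  have hC2 : ∀ t ∈ K, t ≠ 0 → t ^ 2 * C ^ 2 = -2 := by
    intro t ht ht0
    have hb := hk'.mul (in0_conj_one hP hk' (hK.uq_mem t ht))
    rw [mul_one] at hb
    have h := htr _ hb ?_
    · simp [uq, trace_fin_two, adjugate_fin_two, Matrix.mul_apply, Fin.sum_univ_two, h10] at h
      field_simp at h
      linear_combination -h
    · simp [uq, adjugate_fin_two, Matrix.mul_apply, Fin.sum_univ_two, h10, ht0]
  have e1 := hC2 1 K.one_mem one_ne_zero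
  have e2 := hC2 2 h2K h2
  have h6 : (3 : F) * C ^ 2 = 0 := by linear_combination e2 - e1
  exact mul_ne_zero h3 (pow_ne_zero 2 h10) h6

end CfsgLib.Sp4Odd
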