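import Cfsg.Agent.Lib.Sp4Odd.FieldNf

/-!
Partners of unipotent members, and intertwiners determined by them.
-/

set_option autoImplicit false
set_option maxHeartbeats 400000

namespace CfsgLib.Sp4Odd

open Matrix

variable {F : Type*} [Field F]

local notation "M2" => Matrix (Fin 2) (Fin 2) F
local notation "SL" => Matrix.SpecialLinearGroup (Fin 2) F

theorem Uni.not_neg (h2 : (2 : F) ≠ 0) {a : M2} (h : Uni a) (hd : a.det = 1) : ¬ Uni (-a) := by
  intro h'
  have e1 := h.trace hd
  have e2 := h'.trace (by rw [det_neg, hd, Fintype.card_fin]; norm_num)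
  rw [trace_neg, e1] at e2
  exact mul_ne_zero h2 h2 (by linear_combination -e2)

/-- A matrix commuting with both elementary unipotent ones is scalar. -/
theorem eq_scalar_of_comm {z : M2} (hu : z * uq 1 = uq 1 * z) (hl : z * lq 1 = lq 1 * z) : z = z 0 0 • 1 := by
  have e1 := congr_fun₂ hu 0 0
  have e2 := congr_fun₂ hu 0 1
  have e3 := congr_fun₂ hl 0 0
  simp [uq, lq, Matrix.mul_apply, Fin.sum_univ_two] at e1 e2 e3
  ext i j
  fin_cases i <;> fin_cases j <;> simp
  · exact e3
  · exact e1
  · linear_combination -e2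

theorem upper_of_comm {z : M2} {y : F} (hy : y ≠ 0) (h : z * uq y = uq y * z) : z 1 0 = 0 := by
  have e := congr_fun₂ h 0 0
  simp [uq, Matrix.mul_apply, Fin.sum_univ_two] at e
  exact e.resolve_left hy

theorem lower_of_comm {z : M2} {y : F} (hy : y ≠ 0) (h : z * lq y = lq y * z) : z 0 1 = 0 := by
  have e := congr_fun₂ h 0 0
  simp [lq, Matrix.mul_apply, Fin.sum_univ_two] at e
  exact e.resolve_right hy

variable [Fintype F] {P : Subgroup (Matrix (Fin 2) (Fin 2) (Matrix (Fin 2) (Fin 2) F))ˣ} {C : Ctx P}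

/-- A unipotent member has a unipotent partner. -/
theorem Normal.uni_partner (hN : Normal C) (hK : KCent P) {a : M2} (ha : InG P a) (hu : Uni a) :
    ∃ b, In0 P a b ∧ Uni b := by
  classical
  obtain ⟨b, hb⟩ := ha
  obtain ⟨p, hp⟩ := CharP.exists F
  haveI : Fact p.Prime := ⟨CharP.char_is_prime F p⟩
  have h1 := hb.pow p
  rw [hu.pow p, CharP.cast_eq_zero, zero_smul, add_zero] at h1
  have hodd : Odd p := by
    rcases (Fact.out : p.Prime).eq_two_or_odd' with rfl | h
    · exact absurd (by simpa using CharP.cast_eq_zero F 2) C.hP.two_ne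
    · exact h
  have key : ∀ c : M2, In0 P a c → c ^ p = 1 → Uni c := fun c hc e => by
    have hd := (C.hP.in0_det hc).2
    set g : SL := ⟨c, hd⟩
    have eg : g ^ p ^ 1 = 1 := Subtype.ext (by rw [pow_one]; exact (Matrix.SpecialLinearGroup.coe_pow g p).trans e)
    exact Dickson.sub_one_sq (Dickson.trace_of_pow p eg)
  rcases hK _ (hN.in0_swap h1) with e | e
  · exact ⟨b, hb, key b hb e⟩
  · exact ⟨-b, hN.in0_neg_right hb, key _ (hN.in0_neg_right hb) (by rw [hodd.neg_pow, e, neg_neg])⟩

/-- The unipotent partner is unique. -/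
theorem Normal.uni_unique (hN : Normal C) (hK : KCent P) {a b b' : M2} (h : In0 P a b) (h' : In0 P a b') (hb : Uni b)
    (hb' : Uni b') : b' = b := by
  rcases hN.partner hK h h' with e | e
  · exact e
  · rw [e] at hb'
    exact absurd hb' (hb.not_neg C.hP.two_ne (C.hP.in0_det h).2)

omit [Fintype F] in
theorem Uni.one : Uni (1 : M2) := by simp [Uni]

theorem Normal.eq_one_of_uni (_hN : Normal C) (hK : KCent P) {a : M2} (h : In0 P a 1) (ha : Uni a) : a = 1 := by
  rcases hK a h with e | e
  · exact e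
  · rw [e] at ha
    exact absurd ha ((Uni.one (F := F)).not_neg C.hP.two_ne det_one)

/-- An intertwiner of the elementary unipotent pairs intertwines every pair up to sign. -/
theorem Normal.intertwines (hN : Normal C) {K : Subfield F} (hn : Nf P K) {X : M2} {κ : F} (hX : X * X = κ • 1)
    (hκ : κ ≠ 0) (hu : ∀ t ∈ K, ∃ y, In0 P (uq t) y ∧ X * uq t = y * X)
    (hl : ∀ t ∈ K, ∃ y, In0 P (lq t) y ∧ X * lq t = y * X) {a b : M2} (hab : In0 P a b) :
    X * a = b * X ∨ X * a = -(b * X) := by
  have hK := hn.kcent C.hP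
  obtain ⟨had, hbd⟩ := C.hP.in0_det hab
  have hS : ∀ x : M2, (∀ i j, x i j ∈ K) → x.det = 1 → ∃ y, In0 P x y ∧ X * x = y * X := fun x hx hd => by
    refine gen_subfield (fun x : M2 => ∃ y, In0 P x y ∧ X * x = y * X) ?_ hu hl hx hd
    rintro x x' ⟨y, hy, e⟩ ⟨y', hy', e'⟩
    exact ⟨y * y', hy.mul hy', by rw [← mul_assoc, e, mul_assoc, e', ← mul_assoc]⟩
  have hcancel := exists_inv_of_sq hX hκ
  have hXd : X.det ≠ 0 := fun e => hκ (by
    have := congrArg Matrix.det hX
    rw [det_mul, e, zero_mul, det_smul, det_one, mul_one, Fintype.card_fin] at this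
    exact pow_eq_zero_iff (n := 2) (by norm_num) |>.1 this.symm)
  have hconj : ∀ x y : M2, X * x = y * X → κ • y = X * x * X := fun x y e => by
    rw [e, mul_assoc, hX, mul_smul_comm, mul_one]
  have huni : ∀ x y : M2, X * x = y * X → Uni x → Uni y := fun x y e hx => by
    have e1 : X * (x - 1) = (y - 1) * X := by rw [mul_sub, sub_mul, mul_one, one_mul, e]
    unfold Uni at hx ⊢
    refine (hcancel _ _).1 ?_
    rw [zero_mul, mul_assoc, ← e1, ← mul_assoc, ← e1, mul_assoc, hx, mul_zero]
  set z := X * (b.adjugate * X * a) with hz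
  have key : ∀ u : M2, InG P u → Uni u → (∀ i j, u i j ∈ K) → z * u = u * z := by
    intro u hgu hu' hue
    obtain ⟨v, hv, ev⟩ := hS u hue (hgu.det C.hP)
    have hw : InG P (a * u * a.adjugate) := (InG.mul ⟨b, hab⟩ hgu).mul (InG.adj C.hP ⟨b, hab⟩)
    obtain ⟨y, hy, ey⟩ := hS _ (hn.uni_entries C.hP hw (hu'.conj had)) (hw.det C.hP)
    have hy' : y = b * v * b.adjugate :=
      hN.uni_unique hK ((hab.mul hv).mul (C.hP.in0_adj hab)) hy ((huni u v ev hu').conj hbd)
        (huni _ _ ey (hu'.conj had))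
    have h1 : b.adjugate * X * a * u = v * (b.adjugate * X * a) := by
      calc b.adjugate * X * a * u = b.adjugate * (X * (a * u * a.adjugate)) * a := by
            simp only [mul_assoc, (adj_inv had).2, mul_one]
        _ = b.adjugate * (b * v * b.adjugate * X) * a := by rw [ey, hy']
        _ = v * (b.adjugate * X * a) := by simp only [← mul_assoc, (adj_inv hbd).2, one_mul]
    have h2 : X * v = u * X := by
      refine (hcancel _ _).1 ?_
      rw [mul_assoc, ← ev, ← mul_assoc, hX, smul_mul_assoc, one_mul, mul_assoc, hX, mul_smul_comm, mul_one]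
    rw [hz, mul_assoc, h1, ← mul_assoc, h2, mul_assoc]
  have hzs := eq_scalar_of_comm (key _ (hn.uq_mem 1 K.one_mem) (uni_uq 1) (hn.uni_entries C.hP (hn.uq_mem 1 K.one_mem) (uni_uq 1)))
    (key _ (hn.lq_mem 1 K.one_mem) (uni_lq 1) (hn.uni_entries C.hP (hn.lq_mem 1 K.one_mem) (uni_lq 1)))
  generalize z 0 0 = μ at hzs
  have e2 : κ • (X * a) = μ • (b * X) := by
    have := congrArg (fun m => b * (X * m)) hzs
    simp only [hz, mul_smul_comm, mul_one, ← mul_assoc X X, hX, smul_mul_assoc, one_mul] at this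
    simp only [← mul_assoc, (adj_inv hbd).1, one_mul] at this
    exact this
  have hd : μ ^ 2 = κ ^ 2 := by
    have := congrArg Matrix.det e2
    rw [det_smul, det_smul, det_mul, det_mul, had, hbd, Fintype.card_fin, mul_one, one_mul] at this
    exact (mul_right_cancel₀ hXd this).symm
  rcases sq_eq_sq_iff_eq_or_eq_neg.1 hd with e | e <;> rw [e] at e2
  · exact Or.inl (smul_right_injective M2 hκ e2)
  · exact Or.inr (smul_right_injective M2 hκ (show κ • (X * a) = κ • -(b * X) by rw [e2, neg_smul, smul_neg]))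

end CfsgLib.Sp4Odd
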