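import Cfsg.Agent.Lib.Sp4Odd.Geom

/-!
Five pairwise orthogonal non-central involutions.
-/

set_option autoImplicit false
set_option maxHeartbeats 400000

namespace CfsgLib.Sp4Odd

open Matrix Module

variable {F : Type*} [Field F] [Fintype F]

local notation "M4" => Matrix (Fin 2) (Fin 2) (Matrix (Fin 2) (Fin 2) F)

variable {P : Subgroup (Matrix (Fin 2) (Fin 2) (Matrix (Fin 2) (Fin 2) F))ˣ}

/-- Five pairwise orthogonal non-central involutions. -/
structure Five (P : Subgroup (Matrix (Fin 2) (Fin 2) (Matrix (Fin 2) (Fin 2) F))ˣ) (v : Fin 5 → P) : Prop where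
  red : ∀ i, Red P (v i).1.1
  orth : ∀ i j, i ≠ j → ip (v i).1.1 (v j).1.1 = 0

/-- The elements fixing the five lines. -/
def stab5 (v : Fin 5 → P) : Subgroup P := ⨅ i, cpm P (v i).1.1

theorem mem_stab5 {v : Fin 5 → P} {g : P} : g ∈ stab5 v ↔ ∀ i, Same (cj g (v i).1.1) (v i).1.1 := by
  simp [stab5, Subgroup.mem_iInf, mem_cpm]

/-- An element induces the map `π` on the five lines. -/
def Perm5 (v : Fin 5 → P) (g : P) (π : Fin 5 → Fin 5) : Prop :=
  ∀ i, Same (cj g (v i).1.1) (v (π i)).1.1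

theorem Perm5.mul {v : Fin 5 → P} {g h : P} {π σ : Fin 5 → Fin 5} (hg : Perm5 v g π) (hh : Perm5 v h σ) :
    Perm5 v (g * h) (π ∘ σ) := fun i => by
  rw [cj_mul]; exact (Same.cj g (hh i)).trans (hg (σ i))

theorem Perm5.inv {v : Fin 5 → P} {g : P} {π σ : Fin 5 → Fin 5} (hg : Perm5 v g π) (hσ : ∀ i, π (σ i) = i) :
    Perm5 v g⁻¹ σ := fun i => by
  have h := Same.cj g⁻¹ (hg (σ i))
  rw [cj_inv_cj, hσ i] at h
  exact h.symm

theorem perm5_id_iff {v : Fin 5 → P} {g : P} : Perm5 v g id ↔ g ∈ stab5 v := by rw [mem_stab5]; rfl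

/-- Transport of a five by conjugation. -/
theorem Five.conj (hP : Hyp P) {v : Fin 5 → P} (hv : Five P v) (k : P) :
    Five P (fun i => k * v i * k⁻¹) :=
  ⟨fun i => by rw [← cj_coe]; exact (hv.red i).cj hP k,
    fun i j hij => by rw [← cj_coe, ← cj_coe, ip_cj]; exact hv.orth i j hij⟩

theorem Perm5.conj {v : Fin 5 → P} {g : P} {π : Fin 5 → Fin 5} (hg : Perm5 v g π) (k : P) :
    Perm5 (fun i => k * v i * k⁻¹) (k * g * k⁻¹) π := fun i => by
  show Same (cj (k * g * k⁻¹) (k * v i * k⁻¹).1.1) (k * v (π i) * k⁻¹).1.1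
  rw [← cj_coe k (v i), ← cj_coe k (v (π i)), cj_mul, cj_mul, cj_inv_cj]
  exact Same.cj k (hg i)

theorem Five.span (hP : Hyp P) {v : Fin 5 → P} (hv : Five P v) :
    Submodule.span F (Set.range fun i => (v i).1.1) = (W5s : Submodule F M4) := by
  refine Submodule.eq_of_le_of_finrank_eq ?_ ?_
  · rw [Submodule.span_le]
    rintro _ ⟨i, rfl⟩
    exact (hv.red i).w5
  · rw [finrank_span_eq_card (linearIndependent_of_orth (fun i => (hv.red i).ip_self hP) hv.orth), finrank_W5s,
      Fintype.card_fin]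

/-- A line orthogonal to four members of a five is the fifth. -/
theorem Five.same_of_orth (hP : Hyp P) {v : Fin 5 → P} (hv : Five P v) {A : M4} (hA : Red P A) (k : Fin 5)
    (h : ∀ i, i ≠ k → ip A (v i).1.1 = 0) : Same A (v k).1.1 := by
  set X := A + (-ip A (v k).1.1) • (v k).1.1 with hX
  have h0 : X = 0 := by
    refine eq_zero_of_ip hP.two_ne (hA.w5.add ((hv.red k).w5.smul _)) fun B hB => ?_
    refine ip_eq_zero_of_span ?_ (show B ∈ Submodule.span F (Set.range fun i => (v i).1.1) by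
      rw [hv.span hP]; exact hB)
    rintro _ ⟨i, rfl⟩
    rw [ip_add_left, ip_smul_left]
    by_cases hi : i = k
    · subst hi; rw [(hv.red i).ip_self hP]; ring
    · rw [h i hi, hv.orth k i (Ne.symm hi)]; ring
  rw [hX, neg_smul, add_neg_eq_zero] at h0
  have h1 := hA.ip_self hP
  rw [h0, ip_smul_left, ip_smul_right, (hv.red k).ip_self hP, mul_one] at h1
  rcases mul_self_eq_one_iff.1 h1 with e | e
  · exact Or.inl (by rw [h0, e, one_smul])
  · exact Or.inr (by rw [h0, e, neg_one_smul])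

/-- A fixed line is one of any five in the Sylow subgroup. -/
theorem Five.exists_same (hP : Hyp P) {v : Fin 5 → P} (hv : Five P v) {T : Sylow 2 P}
    (hvT : ∀ i, v i ∈ (T : Subgroup P)) {A : M4} (hA : Red P A) (hf : Fix T A) : ∃ i, Same A (v i).1.1 := by
  by_contra hc
  push Not at hc
  have h : ∀ i, ip A (v i).1.1 = 0 := fun i => by
    rw [ip_comm]
    exact ((hv.red i).same_or_orth hP hA (hf _ (hvT i))).resolve_left (hc i)
  exact hc 0 (hv.same_of_orth hP hA 0 fun i _ => h i)

theorem Five.mem_stab5 (hP : Hyp P) {v : Fin 5 → P} (hv : Five P v) (i : Fin 5) : v i ∈ stab5 v := by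
  rw [Sp4Odd.mem_stab5]
  intro j
  by_cases h : j = i
  · subst h; exact Or.inl ((cj_eq_iff _ _).2 rfl)
  · right
    rw [cj_red hP (hv.red i) (hv.red j).w5, hv.orth i j (Ne.symm h), mul_zero, zero_smul, zero_sub]

/-- An element fixing the five lines has square one up to sign. -/
theorem Five.sq_mem_pm (hP : Hyp P) {v : Fin 5 → P} (hv : Five P v) {g : P} (hg : g ∈ stab5 v) :
    g * g ∈ pm P := by
  rw [Sp4Odd.mem_stab5] at hg
  have h1 : Same (g * g).1.1 (1 : P).1.1 := same_of_cj hP fun A hA => by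
    rw [cj_one]
    have hA' : A ∈ Submodule.span F (Set.range fun i => (v i).1.1) := by rw [hv.span hP]; exact hA
    clear hA
    induction hA' using Submodule.span_induction with
    | mem B hB =>
      obtain ⟨i, rfl⟩ := hB
      rw [cj_mul]
      rcases hg i with h | h <;> rw [h]
      · exact h
      · rw [cj_neg, h, neg_neg]
    | zero => simp [cj]
    | add B D _ _ e1 e2 => rw [cj_add, e1, e2]
    | smul r B _ e1 => rw [cj_smul, e1]
  rcases h1 with h | h
  · exact Or.inl (Units.ext h)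
  · exact Or.inr (Units.ext (by rw [h]; simp))

theorem Five.isPGroup (hP : Hyp P) {v : Fin 5 → P} (hv : Five P v) : IsPGroup 2 (stab5 v) := by
  intro y
  refine ⟨2, Subtype.ext ?_⟩
  rw [Subgroup.coe_pow, Subgroup.coe_one, show (y : P) ^ 2 ^ 2 = y.1 * y.1 * (y.1 * y.1) by
    simp [pow_succ, mul_assoc]]
  rcases hv.sq_mem_pm hP y.2 with h | h <;> exact Subtype.ext (by rw [Subgroup.coe_mul, h]; simp)

/-- A product of two disjoint transpositions is not induced if the Sylow subgroup fixes two lines. -/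
theorem Five.no_double (hP : Hyp P) {v : Fin 5 → P} (hv : Five P v) {T : Sylow 2 P} {A B : M4}
    (hA : Red P A) (hfA : Fix T A) (hB : Red P B) (hfB : Fix T B) (hne : ¬ Same A B) {g : P}
    {π : Fin 5 → Fin 5} (hg : Perm5 v g π) (hinv : ∀ i, π (π i) = i) (hone : ∀ i j, π i = i → π j = j → i = j) :
    False := by
  let W : Subgroup P :=
    { carrier := {h | Perm5 v h id ∨ Perm5 v h π}
      one_mem' := Or.inl fun i => by rw [cj_one]; exact Same.refl _
      mul_mem' := by
        rintro x y (hx | hx) (hy | hy)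
        · exact Or.inl (hx.mul hy)
        · exact Or.inr (hx.mul hy)
        · exact Or.inr (hx.mul hy)
        · exact Or.inl (by
            have := hx.mul hy
            rwa [show π ∘ π = id from funext hinv] at this)
      inv_mem' := by
        rintro x (hx | hx)
        · exact Or.inl (hx.inv (fun _ => rfl))
        · exact Or.inr (hx.inv hinv) }
  have hW : IsPGroup 2 W := by
    intro y
    have hy : (y : P) * y ∈ stab5 v := by
      rw [← perm5_id_iff]
      rcases y.2 with h | h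
      · exact h.mul h
      · have := h.mul h
        rwa [show π ∘ π = id from funext hinv] at this
    refine ⟨3, Subtype.ext ?_⟩
    rw [Subgroup.coe_pow, Subgroup.coe_one]
    have h4 := hv.sq_mem_pm hP hy
    rw [show (y : P) ^ 2 ^ 3 = y.1 * y.1 * (y.1 * y.1) * (y.1 * y.1 * (y.1 * y.1)) by simp [pow_succ, mul_assoc]]
    rcases h4 with h | h
    · have e : (y : P) * y * (y * y) = 1 := Subtype.ext h
      rw [e, mul_one]
    · exact Subtype.ext (by rw [Subgroup.coe_mul, h]; simp)
  obtain ⟨S, hS⟩ := hW.exists_le_sylow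
  obtain ⟨k, hk⟩ := MulAction.exists_smul_eq P S T
  have hmem : ∀ x ∈ W, k * x * k⁻¹ ∈ (T : Subgroup P) := fun x hx => by
    rw [← hk, Sylow.coe_subgroup_smul]
    exact Subgroup.smul_mem_pointwise_smul x (MulAut.conj k) _ (hS hx)
  have hgk := hg.conj k
  have hv' := hv.conj hP k
  have hvT : ∀ i, k * v i * k⁻¹ ∈ (T : Subgroup P) := fun i =>
    hmem _ (Or.inl (perm5_id_iff.2 (hv.mem_stab5 hP i)))
  have key : ∀ D : M4, Red P D → Fix T D → ∃ i, Same D (k * v i * k⁻¹).1.1 ∧ π i = i := by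
    intro D hD hfD
    obtain ⟨i, hi⟩ := hv'.exists_same hP hvT hD hfD
    refine ⟨i, hi, ?_⟩
    by_contra hne'
    have h1 := hfD.same hi.symm _ (hmem g (Or.inr hg))
    have h2 := (hgk i).symm.trans h1
    have h3 := hv'.orth _ _ hne'
    rcases h2 with e | e
    · rw [e, (hv'.red i).ip_self hP] at h3; exact one_ne_zero h3
    · rw [e, ip_neg_left, (hv'.red i).ip_self hP, neg_eq_zero] at h3; exact one_ne_zero h3
  obtain ⟨i, hi, hfi⟩ := key A hA hfA
  obtain ⟨j, hj, hfj⟩ := key B hB hfB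
  obtain rfl := hone i j hfi hfj
  exact hne (hi.trans hj.symm)

end CfsgLib.Sp4Odd
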