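import Cfsg.Agent.Lib.Sp4Odd.Frame5
import Mathlib.GroupTheory.SpecificGroups.Alternating

/-!
A projection onto the alternating group of degree five is impossible: a flip of the quaternion frame would have to
exchange the two classes of elements of order five, whose traces differ.
-/

set_option autoImplicit false
set_option maxHeartbeats 1000000

namespace CfsgLib.Sp4Odd

open Matrix Equiv

/-- The first involution of the standard four-group. -/
def fiveI : Perm (Fin 5) := Equiv.swap 0 1 * Equiv.swap 2 3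

/-- The second involution of the standard four-group. -/
def fiveJ : Perm (Fin 5) := Equiv.swap 0 2 * Equiv.swap 1 3

/-- The third involution of the standard four-group. -/
def fiveK : Perm (Fin 5) := Equiv.swap 0 3 * Equiv.swap 1 2

/-- An involution outside the standard four-group. -/
def fiveZ : Perm (Fin 5) := Equiv.swap 0 1 * Equiv.swap 3 4

set_option maxHeartbeats 4000000 in
set_option synthInstance.maxSize 2048 in
theorem klein_norm : ∀ x y : Perm (Fin 5), EvenInv x → EvenInv y → x ≠ y → x * y = y * x →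
    ∃ w, w * x * w⁻¹ = fiveI ∧ w * y * w⁻¹ = fiveJ ∧ w * (x * y) * w⁻¹ = fiveK := by
  decide +kernel

theorem invol_conj_five : ∀ x : Perm (Fin 5), EvenInv x → ∃ w, Perm.sign w = 1 ∧ w * x * w⁻¹ = fiveI := by
  decide +kernel

theorem cent_five : ∀ x : Perm (Fin 5), Perm.sign x = 1 → x * fiveI = fiveI * x → x * fiveJ = fiveJ * x := by
  decide +kernel

theorem class_five : ∀ x : Perm (Fin 5), x * x * x * x * x = 1 → x ≠ 1 →
    ∃ w, Perm.sign w = 1 ∧ (x = w * (fiveZ * fiveJ) * w⁻¹ ∨ x = w * (fiveZ * fiveK) * w⁻¹) := by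
  decide +kernel

theorem z_five : EvenInv fiveI ∧ EvenInv fiveJ ∧ EvenInv fiveK ∧ EvenInv fiveZ ∧ fiveI ≠ fiveJ ∧
    fiveI * fiveJ = fiveK ∧ fiveI * fiveJ = fiveJ * fiveI ∧ (fiveZ * fiveJ) ^ 5 = 1 ∧ fiveZ * fiveJ ≠ 1 ∧
    ∃ w, Perm.sign w = 1 ∧ fiveZ * fiveK = w * (fiveZ * fiveJ) ^ 2 * w⁻¹ := by
  decide +kernel

theorem no_exchange : ∀ z : Perm (Fin 5), EvenInv z → ∀ w, Perm.sign w = 1 → z * fiveJ = w * (fiveZ * fiveK) * w⁻¹ →
    ∀ v, Perm.sign v = 1 → z * fiveK ≠ v * (fiveZ * fiveJ) * v⁻¹ := by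
  decide +kernel

theorem perm_cases : ∀ π : Perm (Fin 5), π 0 = 1 → π 1 = 0 → π 2 = 2 →
    π = Equiv.swap 0 1 ∨ (π 3 = 4 ∧ π 4 = 3) := by
  decide +kernel

variable {F : Type*} [Field F] [Fintype F] {P : Subgroup (Matrix (Fin 2) (Fin 2) (Matrix (Fin 2) (Fin 2) F))ˣ}
  {C : Ctx P}

local notation "M2" => Matrix (Fin 2) (Fin 2) F
local notation "M4" => Matrix (Fin 2) (Fin 2) (Matrix (Fin 2) (Fin 2) F)

/-- An element of the kernel has no double eigenvalue. -/
theorem Normal.false_of_trace_two (hN : Normal C) {a : M2} (h : In0 P a 1) (h1 : a ≠ 1) (ht : a.trace = 2) :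
    False := by
  have hd := (C.hP.in0_det h).1
  have hnil : (a - 1) * (a - 1) = 0 := by
    rw [sub_mul, mul_sub, mul_one, one_mul, sq_eq, hd, ht, one_smul]
    module
  obtain ⟨M, κ, hκ, e⟩ := exists_triangular (sub_ne_zero.2 h1) hnil
  have hu : In0 (conjP (dgU M) P) (uq κ) 1 := by
    rw [in0_conjP_dgU]
    have e' : uq κ = M.1 * a * (M⁻¹).1 := by
      rw [uq_eq, ← e, mul_sub, mul_one, sub_mul, Units.mul_inv, add_sub_cancel]
    rw [e', mul_one, Units.inv_mul]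
    simp only [← mul_assoc, Units.inv_mul, one_mul]
    simp only [mul_assoc, Units.inv_mul, mul_one]
    exact h
  exact hκ ((C.hP.map (sim_dgU M)).uq_one_eq hu)

namespace PMap

variable {n : ℕ} {R : Subgroup (Perm (Fin n))} (φ : PMap C R)

theorem ev_of_pm {a b : M2} (ha : InG P a) (hb : InG P b) (h : a = b ∨ a = -b) : φ.ev ha = φ.ev hb := by
  have hd := hb.det C.hP
  have : φ.ev (ha.mul (hb.adj C.hP)) = 1 := (φ.ev_eq_one _).2 (by
    rcases h with rfl | rfl
    · exact Or.inl (adj_inv hd).1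
    · exact Or.inr (by rw [neg_mul, (adj_inv hd).1]))
  rwa [φ.ev_mul ha (hb.adj C.hP), φ.ev_adj hb, mul_inv_eq_one] at this

/-- The square of the trace is a class function on the image. -/
theorem trace_sq {a b : M2} (ha : InG P a) (hb : InG P b) {w : Perm (Fin n)} (hw : w ∈ R)
    (e : φ.ev ha = w * φ.ev hb * w⁻¹) : a.trace ^ 2 = b.trace ^ 2 := by
  obtain ⟨c, hc, rfl⟩ := φ.exists_ev hw
  rw [← φ.ev_adj hc, ← φ.ev_mul hc hb, ← φ.ev_mul (hc.mul hb) (hc.adj C.hP)] at e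
  have ht : (c * b * c.adjugate).trace = b.trace := by
    rw [trace_mul_comm, ← mul_assoc, (adj_inv (hc.det C.hP)).2, one_mul]
  rcases φ.eq_pm ha _ e with e' | e' <;> rw [e']
  · rw [ht]
  · rw [trace_neg, ht, neg_sq]

theorem ev_inv_of_trace {a : M2} (ha : InG P a) (ht : a.trace = 0) : φ.ev (ha.adj C.hP) = φ.ev ha :=
  φ.ev_of_pm _ _ (Or.inr (adj_eq_of_trace ht))

/-- Renumbering the points. -/
def conj [R.Normal] (w : Perm (Fin n)) : PMap C R where
  hom := (MulAut.conj w).toMonoidHom.comp φ.hom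
  range := by
    rw [MonoidHom.range_comp, φ.range]
    ext x
    constructor
    · rintro ⟨y, hy, rfl⟩
      exact Subgroup.Normal.conj_mem inferInstance y hy w
    · intro hx
      exact ⟨w⁻¹ * x * w, by simpa using Subgroup.Normal.conj_mem inferInstance x hx w⁻¹, by simp [mul_assoc]⟩
  ker g := by
    rw [← φ.ker g]
    simp

theorem ev_conj [R.Normal] (w : Perm (Fin n)) {a : M2} (ha : InG P a) :
    (φ.conj w).ev ha = w * φ.ev ha * w⁻¹ := rfl

end PMap

variable (φ : PMap C (alternatingGroup (Fin 5)))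

theorem PMap.sign_ev {a : M2} (ha : InG P a) : Perm.sign (φ.ev ha) = 1 :=
  Equiv.Perm.mem_alternatingGroup.1 (φ.ev_mem ha)

theorem PMap.evenInv_of_trace {a : M2} (ha : InG P a) (ht : a.trace = 0) : EvenInv (φ.ev ha) :=
  ⟨(φ.sq_one_of_trace ha ht).1, (φ.sq_one_of_trace ha ht).2, φ.sign_ev ha⟩

/-- The kernel of the projection is the whole projection, if it is not central. -/
theorem Normal.five_full (hN : Normal C) (hK : ¬ KCent P) (φ : PMap C (alternatingGroup (Fin 5))) :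
    ∀ a, InG P a → In0 P a 1 := by
  have hP := C.hP
  simp only [KCent, not_forall, not_or] at hK
  obtain ⟨k, hk, hk1, hk2⟩ := hK
  let K : Subgroup (alternatingGroup (Fin 5)) :=
    { carrier := {x | ∃ (a : M2) (h : In0 P a 1), φ.ev (a := a) ⟨1, h⟩ = x.1}
      one_mem' := ⟨1, In0.one, (φ.ev_eq_one _).2 (Or.inl rfl)⟩
      mul_mem' := by
        rintro x y ⟨a, ha, ea⟩ ⟨b, hb, eb⟩
        refine ⟨a * b, by simpa using ha.mul hb, ?_⟩
        rw [Subgroup.coe_mul, ← ea, ← eb]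
        exact φ.ev_mul ⟨1, ha⟩ ⟨1, hb⟩
      inv_mem' := by
        rintro x ⟨a, ha, ea⟩
        refine ⟨a.adjugate, by simpa using hP.in0_adj ha, ?_⟩
        rw [Subgroup.coe_inv, ← ea]
        exact φ.ev_adj ⟨1, ha⟩ }
  haveI : K.Normal := ⟨by
    rintro x ⟨a, ha, ea⟩ y
    obtain ⟨b, ⟨b', hb⟩, eb⟩ := φ.exists_ev y.2
    have h : In0 P (b * a * b.adjugate) 1 := by
      have := (hb.mul ha).mul (hP.in0_adj hb)
      rwa [mul_one, (adj_inv (hP.in0_det hb).2).1] at this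
    refine ⟨_, h, ?_⟩
    rw [Subgroup.coe_mul, Subgroup.coe_mul, Subgroup.coe_inv, ← ea, ← eb]
    have gb : InG P b := ⟨b', hb⟩
    have ga : InG P a := ⟨1, ha⟩
    rw [← φ.ev_adj gb, ← φ.ev_mul gb ga, ← φ.ev_mul (gb.mul ga) (gb.adj hP)]⟩
  rcases alternatingGroup.isSimpleGroup_five.eq_bot_or_eq_top_of_normal K inferInstance with h | h
  · exfalso
    have hm : (⟨_, φ.ev_mem (a := k) ⟨1, hk⟩⟩ : alternatingGroup (Fin 5)) ∈ K := ⟨k, hk, rfl⟩
    rw [h, Subgroup.mem_bot] at hm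
    rcases (φ.ev_eq_one _).1 (congrArg Subtype.val hm) with e | e
    exacts [hk1 e, hk2 e]
  · intro a ha
    obtain ⟨c, hc, e⟩ : (⟨_, φ.ev_mem ha⟩ : alternatingGroup (Fin 5)) ∈ K := h ▸ Subgroup.mem_top _
    rcases φ.eq_pm ha _ e.symm with rfl | rfl
    exacts [hc, hN.in0_neg_left hc]

/-- A member with the trace of an element of the second class lies in it. -/
theorem PMap.five_class (hN : Normal C) (hfull : ∀ a, InG P a → In0 P a 1) {c d a : M2} (hc : InG P c)
    (hd : InG P d) (ha : InG P a) (ec : φ.ev hc = fiveZ * fiveJ) (ed : φ.ev hd = fiveZ * fiveK) :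
    (a.trace ^ 2 = d.trace ^ 2 → ∃ w, Perm.sign w = 1 ∧ φ.ev ha = w * (fiveZ * fiveK) * w⁻¹) ∧
    (a.trace ^ 2 = c.trace ^ 2 → ∃ w, Perm.sign w = 1 ∧ φ.ev ha = w * (fiveZ * fiveJ) * w⁻¹) := by
  have hP := C.hP
  have h2 := hP.two_ne
  obtain ⟨-, -, -, -, -, -, -, h5, h51, v, hv, hvk⟩ := z_five
  have root : ∀ {b : M2} (hb : InG P b), φ.ev hb ^ 5 = 1 → φ.ev hb ≠ 1 →
      b.trace ^ 4 - 3 * b.trace ^ 2 + 1 = 0 := by
    intro b hb e e1
    rcases trace_of_pow_five (hb.det hP) (φ.pow_pm hb e) with h | h | h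
    · exact absurd ((φ.ev_eq_one hb).2 (Or.inl h)) e1
    · exact absurd ((φ.ev_eq_one hb).2 (Or.inr h)) e1
    · exact h
  have hcr := root hc (by rw [ec]; exact h5) (by rw [ec]; exact h51)
  have hd1 : φ.ev hd ≠ 1 := fun e => h51 (by
    rw [ed, hvk, conj_eq_one_iff] at e
    have := congrArg (fun x => x ^ 3) e
    simp only [one_pow, ← pow_mul] at this
    rwa [pow_succ, h5, one_mul] at this)
  have hdr := root hd (by rw [ed, hvk, conj_pow, ← pow_mul, pow_mul', h5, one_pow, mul_one, mul_inv_cancel]) hd1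
  have h50 : (5 : F) ≠ 0 := by
    intro h0
    have hsq : (c.trace ^ 2 + 1) ^ 2 = 0 := by linear_combination hcr + c.trace ^ 2 * h0
    have h4 : c.trace ^ 2 = 2 ^ 2 := by linear_combination (pow_eq_zero_iff two_ne_zero).1 hsq - h0
    have hc1 : c ≠ 1 := fun e => h51 (ec ▸ (φ.ev_eq_one hc).2 (Or.inl e))
    have hc2 : c ≠ -1 := fun e => h51 (ec ▸ (φ.ev_eq_one hc).2 (Or.inr e))
    rcases sq_eq_sq_iff_eq_or_eq_neg.1 h4 with e | e
    · exact hN.false_of_trace_two (hfull _ hc) hc1 e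
    · exact hN.false_of_trace_two (hfull _ (hc.neg hP)) (fun e' => hc2 (by rw [← e', neg_neg]))
        (by rw [trace_neg, e, neg_neg])
  have hne : c.trace ^ 2 ≠ d.trace ^ 2 := by
    have hcc := φ.trace_sq hd (hc.mul hc) (Equiv.Perm.mem_alternatingGroup.2 hv)
      (by rw [ed, hvk, φ.ev_mul hc hc, ec, pow_two])
    rw [sq_eq, hc.det hP, one_smul, trace_sub, trace_smul, trace_one2, smul_eq_mul] at hcc
    intro e
    have e3 : 2 * c.trace ^ 2 = 3 := by linear_combination hcr + e + hcc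
    exact h50 (by linear_combination -4 * hcr + (2 * c.trace ^ 2 - 3) * e3)
  have key : ∀ {b : M2}, b.trace ^ 4 - 3 * b.trace ^ 2 + 1 = 0 → a.trace ^ 2 = b.trace ^ 2 →
      ∃ w, Perm.sign w = 1 ∧ (φ.ev ha = w * (fiveZ * fiveJ) * w⁻¹ ∨ φ.ev ha = w * (fiveZ * fiveK) * w⁻¹) := by
    intro b hb e
    have hr : (a.trace ^ 2) ^ 2 - 3 * a.trace ^ 2 + 1 = 0 := by rw [e]; linear_combination hb
    have no4 : ¬ (a = 1 ∨ a = -1) := by
      rintro (h | h) <;> rw [h] at hr <;> simp [trace_neg, trace_one2] at hr <;>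
        exact h50 (by linear_combination hr)
    have hx1 : φ.ev ha ≠ 1 := fun h => no4 ((φ.ev_eq_one ha).1 h)
    rcases poly_alt_five.two _ (φ.ev_mem ha) with h | h | h
    · exfalso
      rcases trace_of_pow_four h2 (ha.det hP) (φ.pow_pm ha h) with h | h | h | h
      · exact no4 (Or.inl h)
      · exact no4 (Or.inr h)
      · rw [h] at hr; simp at hr
      · rw [h] at hr; exact one_ne_zero (show (1 : F) = 0 by linear_combination -hr)
    · exfalso
      rcases trace_of_pow_three (ha.det hP) (φ.pow_pm ha h) with h | h | h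
      · exact no4 (Or.inl h)
      · exact no4 (Or.inr h)
      · rw [h] at hr; exact one_ne_zero (show (1 : F) = 0 by linear_combination -hr)
    · exact class_five _ (by rw [← h]; simp only [pow_succ, pow_zero, one_mul]) hx1
  constructor <;> intro e
  · obtain ⟨w, hw, h | h⟩ := key hdr e
    · exact absurd ((φ.trace_sq ha hc (Equiv.Perm.mem_alternatingGroup.2 hw) (by rw [h, ec])).symm.trans e) hne
    · exact ⟨w, hw, h⟩
  · obtain ⟨w, hw, h | h⟩ := key hcr e
    · exact ⟨w, hw, h⟩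
    · exact absurd (e.symm.trans (φ.trace_sq ha hd (Equiv.Perm.mem_alternatingGroup.2 hw) (by rw [h, ed]))) hne

/-- The alternating group of degree five is impossible. -/
theorem Normal.false_of_alt_five {C : Ctx P} (hN : Normal C) (himg : Img C.hP (alternatingGroup (Fin 5))) :
    False := by
  classical
  have hP := C.hP
  have h2 := hP.two_ne
  obtain ⟨φ0⟩ := Img.exists_pmap (C := C) himg
  by_cases hK : KCent P
  · refine hN.false_of_exponent hK fun a ha m hm => ?_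
    have h : φ0.ev ha ^ 4 = 1 ∧ φ0.ev ha ^ 2 ^ m = 1 := by
      have hp : φ0.ev ha ^ 2 ^ m = 1 := by
        obtain ⟨b, hb⟩ := ha
        rw [← φ0.ev_pow ⟨b, hb⟩ (2 ^ m) ⟨_, hb.pow _⟩]
        exact (φ0.ev_eq_one _).2 (Or.inl hm)
      refine ⟨?_, hp⟩
      rcases poly_alt_five.two _ (φ0.ev_mem ha) with h | h | h
      · exact h
      all_goals
        rw [← orderOf_dvd_iff_pow_eq_one] at h hp
        have h1 := Nat.dvd_gcd h hp
        rw [Nat.Coprime.gcd_eq_one (Nat.Coprime.pow_right _ (by norm_num)), Nat.dvd_one, orderOf_eq_one_iff] at h1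
        rw [h1, one_pow]
    have key : ∀ x : Perm (Fin 5), Perm.sign x = 1 → x ^ 4 = 1 → x ^ 2 = 1 := by decide +kernel
    rw [← pow_two a]
    exact φ0.pow_pm ha (key _ (φ0.sign_ev ha) h.1)
  obtain ⟨i, j, hQ, hev⟩ := hN.exists_quat hK poly_alt_five φ0
  have hfull := hN.five_full hK φ0
  have gi : InG P i := ⟨1, hQ.ki⟩
  have gj : InG P j := ⟨1, hQ.kj⟩
  have gk : InG P (i * j) := ⟨1, hQ.kk⟩
  obtain ⟨ei, ej, hij, hcm⟩ := hev gi gj
  obtain ⟨w, wI, wJ, wK⟩ := klein_norm _ _ ei ej hij hcm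
  set φ := φ0.conj w with hφ
  have pI : φ.ev gi = fiveI := wI
  have pJ : φ.ev gj = fiveJ := wJ
  have pK : φ.ev gk = fiveK := by
    rw [hφ, PMap.ev_conj, φ0.ev_congr rfl gk (gi.mul gj), φ0.ev_mul gi gj]; exact wK
  -- the flip
  obtain ⟨g0, hgt0, hgu0⟩ := hQ.exists_flip fun m hm => ⟨m, 1, hfull m ⟨_, hm⟩, by rw [adjugate_one, mul_one]⟩
  obtain ⟨i', hi', hti', ei'⟩ := hQ.flip_imag hgt0 hgu0 (hQ.line hQ.ki hQ.ti) hQ.ti
  obtain ⟨v, hv, hvI⟩ := invol_conj_five _ (φ.evenInv_of_trace (a := i') ⟨_, hi'⟩ hti')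
  obtain ⟨a, ha, hav⟩ := φ.exists_ev (Equiv.Perm.mem_alternatingGroup.2 hv)
  have haa : In0 P a a := by
    have := (hfull a ha).mul (hN.in0_swap (hfull a ha))
    rwa [mul_one, one_mul] at this
  obtain ⟨h, hh⟩ := haa
  set g := h * g0 with hg
  have had := ha.det hP
  have hgt : cj g (tM : M4) = uM 1 := by
    rw [hg, cj_mul, hgt0, hP.cj_uM hh, mul_one, (adj_inv had).1]
  have hgu : cj g (uM (1 : M2)) = tM := by
    rw [hg, cj_mul, hgu0, hP.cj_tM hh]
  have gi'' : InG P (a * i' * a.adjugate) := (ha.mul ⟨_, hi'⟩).mul (ha.adj hP)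
  have hgi : Same (cj g (uM i)) (uM i) := by
    rw [hg, cj_mul, ei', hP.cj_uM hh, same_uM]
    refine φ.eq_pm gi'' gi ?_
    rw [φ.ev_mul (ha.mul ⟨_, hi'⟩) (ha.adj hP), φ.ev_mul ha ⟨_, hi'⟩, φ.ev_adj ha, hav, hvI, pI]
  -- images of imaginary neighbours
  have img : ∀ {y : M2}, InG P y → y.trace = 0 → ∃ y' : M2, InG P y' ∧ y'.trace = 0 ∧ cj g (uM y) = uM y' := by
    intro y hy ht
    obtain ⟨y', hy', ht', e⟩ := hQ.flip_imag hgt hgu (hQ.line (hfull y hy) ht) ht
    exact ⟨y', ⟨_, hy'⟩, ht', e⟩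
  have orth : ∀ {y y' z z' : M2}, Same (cj g (uM y)) (uM y') → Same (cj g (uM z)) (uM z') →
      (y' * z'.adjugate).trace ^ 2 = (y * z.adjugate).trace ^ 2 := by
    intro y y' z z' e e'
    have hip := ip_cj g (uM y) (uM z)
    rcases e with e | e <;> rcases e' with e' | e' <;>
      simp only [e, e', ← uM_neg, ip_uM h2, adj_neg, neg_mul, mul_neg, neg_neg, trace_neg] at hip <;>
      field_simp at hip <;> rw [← hip] <;> ring
  have tri : ∀ {y : M2}, InG P y → y.trace = 0 → (y * i.adjugate).trace = 0 →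
      ∃ n' : Fin 5, Same (uM y) (fvec i j n') := by
    intro y hy ht hyi
    obtain ⟨-, hsq⟩ := φ.sq_one_of_trace (hy.mul (gi.adj hP)) hyi
    rw [φ.ev_mul hy (gi.adj hP), φ.ev_inv_of_trace gi hQ.ti] at hsq
    have hy' := φ.evenInv_of_trace hy ht
    have hc : φ.ev gi * φ.ev hy = φ.ev hy * φ.ev gi := by
      have hi2 : φ.ev gi * φ.ev gi = 1 := by rw [pI]; exact z_five.1.2.1
      have e1 := eq_inv_of_mul_eq_one_left hsq
      rw [_root_.mul_inv_rev, inv_eq_of_mul_eq_one_right hi2, inv_eq_of_mul_eq_one_right hy'.2.1] at e1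
      exact e1.symm
    obtain ⟨hI, hJ, hK', -, hne, hIJ, hIJc, -⟩ := z_five
    rw [pI] at hc
    rcases poly_alt_five.klein _ (Equiv.Perm.mem_alternatingGroup.2 hI.2.2) hI _
      (Equiv.Perm.mem_alternatingGroup.2 hJ.2.2) hJ hne hIJc _ (φ.ev_mem hy) hy' hc with e | e | e
    · exact ⟨2, same_uM.2 (φ.eq_pm hy gi (e.trans pI.symm))⟩
    · exact ⟨3, same_uM.2 (φ.eq_pm hy gj (e.trans pJ.symm))⟩
    · exact ⟨4, same_uM.2 (φ.eq_pm hy gk (e.trans (hIJ.trans pK.symm)))⟩
  have tj : (j * i.adjugate).trace = 0 := by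
    rw [adj_eq_of_trace hQ.ti, mul_neg, trace_neg, trace_mul_comm, hQ.tk, neg_zero]
  have tk : (i * j * i.adjugate).trace = 0 := by
    rw [trace_mul_comm, ← mul_assoc, (adj_inv hQ.det_i).2, one_mul, hQ.tj]
  have himag : ∀ n : Fin 5, n ≠ 0 → n ≠ 1 → ∃ n' : Fin 5, Same (cj g (fvec i j n)) (fvec i j n') := by
    intro n h0 h1
    have step : ∀ {y : M2}, InG P y → y.trace = 0 → (y * i.adjugate).trace = 0 →
        ∃ n' : Fin 5, Same (cj g (uM y)) (fvec i j n') := by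
      intro y hy ht hyi
      obtain ⟨y', hy', ht', e⟩ := img hy ht
      have h := orth (Or.inl e) hgi
      rw [hyi, zero_pow two_ne_zero, pow_eq_zero_iff two_ne_zero] at h
      obtain ⟨n', hn'⟩ := tri hy' ht' h
      exact ⟨n', e ▸ hn'⟩
    fin_cases n
    · exact absurd rfl h0
    · exact absurd rfl h1
    · exact ⟨2, hgi⟩
    · exact step gj hQ.tj tj
    · exact step gk hQ.tk tk
  obtain ⟨π, π0, π1, hπ, hπr⟩ := hQ.flip_perm hgt hgu himag
  have π2 : π 2 = 2 := hQ.fvec_inj ((hπ 2).symm.trans hgi)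
  rcases perm_cases π π0 π1 π2 with e | ⟨π3, π4⟩
  · -- two lines exchanged by an element centralising the third
    subst e
    have hQm := hQ.permQ_mem hπr π0 π1
    obtain ⟨g3, hg3⟩ : Equiv.swap 3 4 ∈ realized P i j :=
      flip_word ▸ mul_mem (mul_mem (mul_mem hQ.permA_mem hQm) hQ.permA_mem) hπr
    have s0 : Equiv.swap (3 : Fin 5) 4 0 = 0 ∧ Equiv.swap (3 : Fin 5) 4 1 = 1 ∧ Equiv.swap (3 : Fin 5) 4 2 = 2 ∧
        Equiv.swap (3 : Fin 5) 4 3 = 4 := by decide
    obtain ⟨s0, s1, s2, s3⟩ := s0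
    have g30 := hg3 0
    have g31 := hg3 1
    have g32 := hg3 2
    have g33 := hg3 3
    rw [s0] at g30; rw [s1] at g31; rw [s2] at g32; rw [s3] at g33
    obtain ⟨b, hb, hy⟩ := hQ.diag_of_fix (g := g3) g30 g31
    have gb : InG P b := ⟨b, hb⟩
    have key : ∀ {y : M2} (gy : InG P y), Same (uM (b * y * b.adjugate)) (uM y) ↔
        φ.ev gb * φ.ev gy = φ.ev gy * φ.ev gb := by
      intro y gy
      rw [same_uM]
      constructor
      · intro h
        have e := φ.ev_of_pm ((gb.mul gy).mul (gb.adj hP)) gy h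
        rwa [φ.ev_mul (gb.mul gy) (gb.adj hP), φ.ev_mul gb gy, φ.ev_adj gb, mul_inv_eq_iff_eq_mul] at e
      · intro h
        refine φ.eq_pm ((gb.mul gy).mul (gb.adj hP)) gy ?_
        rw [φ.ev_mul (gb.mul gy) (gb.adj hP), φ.ev_mul gb gy, φ.ev_adj gb, h, mul_inv_cancel_right]
    have hI : φ.ev gb * φ.ev gi = φ.ev gi * φ.ev gb := (key gi).1 ((hy i hQ.ti).symm.trans g32)
    rw [pI] at hI
    have hJ := (key gj).2 (by rw [pJ]; exact cent_five _ (φ.sign_ev gb) hI)
    have : Same (fvec i j 4) (fvec i j 3) := by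
      refine Same.trans ?_ hJ
      exact (Same.trans (hy j hQ.tj).symm g33).symm
    exact absurd (hQ.fvec_inj this) (by decide)
  · -- the classes of elements of order five are exchanged
    have h3 := hπ 3
    have h4 := hπ 4
    rw [π3] at h3
    rw [π4] at h4
    obtain ⟨z, hz, ez⟩ := φ.exists_ev (Equiv.Perm.mem_alternatingGroup.2 z_five.2.2.2.1.2.2)
    have htz : z.trace = 0 := φ.trace_zero hz (by rw [ez]; exact z_five.2.2.2.1.1) (by rw [ez]; exact z_five.2.2.2.1.2.1)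
    obtain ⟨z', hz', htz', ez'⟩ := img hz htz
    have ejj := φ.ev_inv_of_trace gj hQ.tj
    have ekk := φ.ev_inv_of_trace gk hQ.tk
    have e3 : (z' * (i * j).adjugate).trace ^ 2 = (z * j.adjugate).trace ^ 2 := orth (Or.inl ez') h3
    have e4 : (z' * j.adjugate).trace ^ 2 = (z * (i * j).adjugate).trace ^ 2 := orth (Or.inl ez') h4
    have c1 : φ.ev (hz.mul (gj.adj hP)) = fiveZ * fiveJ := by rw [φ.ev_mul hz (gj.adj hP), ejj, ez, pJ]
    have c2 : φ.ev (hz.mul (gk.adj hP)) = fiveZ * fiveK := by rw [φ.ev_mul hz (gk.adj hP), ekk, ez, pK]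
    have cls := fun (b : M2) (hb : InG P b) =>
      φ.five_class hN hfull (hz.mul (gj.adj hP)) (hz.mul (gk.adj hP)) hb c1 c2
    obtain ⟨w1, hw1, f1⟩ := (cls _ (hz'.mul (gj.adj hP))).1 e4
    obtain ⟨w2, hw2, f2⟩ := (cls _ (hz'.mul (gk.adj hP))).2 e3
    rw [φ.ev_mul hz' (gj.adj hP), ejj, pJ] at f1
    rw [φ.ev_mul hz' (gk.adj hP), ekk, pK] at f2
    exact no_exchange _ (φ.evenInv_of_trace hz' htz') w1 hw1 f1 w2 hw2 f2

end CfsgLib.Sp4Odd
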