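import Cfsg.Agent.Lib.Sp4Odd.Dickson
import Cfsg.Agent.Lib.Sp4Odd.Intertwine
import Cfsg.Agent.S0105

/-!
The projection of the centraliser onto the alternating group of degree four cannot be the full product.
-/

set_option autoImplicit false
set_option maxHeartbeats 800000

namespace CfsgLib.Sp4Odd

open Matrix

variable {F : Type*} [Field F]

local notation "M2" => Matrix (Fin 2) (Fin 2) F
local notation "SL" => Matrix.SpecialLinearGroup (Fin 2) F
local notation "M4" => Matrix (Fin 2) (Fin 2) (Matrix (Fin 2) (Fin 2) F)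

theorem three_dec : ∀ x y : Equiv.Perm (Fin 4), Equiv.Perm.sign x = 1 → y * y * y = 1 → y ≠ 1 →
    x * y * x⁻¹ = y ∨ x * y * x⁻¹ = y * y → x * y = y * x := by
  decide +kernel

/-- A matrix of determinant one and order three satisfies the cyclotomic equation. -/
theorem sq_of_cube {w : M2} (hd : w.det = 1) (h3 : w * w * w = 1) (h1 : w ≠ 1) :
    w.trace = -1 ∧ w * w = -w - 1 := by
  have hs : w * w = w.trace • w - 1 := by rw [sq_eq, hd, one_smul]
  have e : (w.trace ^ 2 - 1) • w = (w.trace + 1) • (1 : M2) := by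
    have e2 : w.trace • (w.trace • w - 1) - w = (1 : M2) := by
      rw [← hs, ← h3]
      conv_rhs => rw [hs, sub_mul, one_mul, smul_mul_assoc]
    conv_rhs => rw [add_smul, one_smul]
    conv_lhs => rw [sub_smul, one_smul, pow_two, mul_smul]
    linear_combination (norm := module) e2
  have ht : w.trace = -1 := by
    by_contra ht
    have hp : w.trace + 1 ≠ 0 := fun e0 => ht (by linear_combination e0)
    have e' : (w.trace - 1) • w = 1 := by
      refine smul_right_injective M2 hp ?_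
      show (w.trace + 1) • ((w.trace - 1) • w) = (w.trace + 1) • (1 : M2)
      rw [smul_smul, show (w.trace + 1) * (w.trace - 1) = w.trace ^ 2 - 1 by ring, e]
    have hne : w.trace - 1 ≠ 0 := fun h => by simp [h] at e'
    have hw : w = (w.trace - 1)⁻¹ • (1 : M2) := by rw [← e', smul_smul, inv_mul_cancel₀ hne, one_smul]
    set c := (w.trace - 1)⁻¹
    rw [hw] at hd h3
    have hc2 : c ^ 2 = 1 := by simpa [det_smul2] using hd
    have hc3 : c * (c * c) = 1 := by simpa [smul_smul] using congr_fun₂ h3 0 0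
    exact h1 (by rw [hw, show c = 1 by linear_combination hc3 - c * hc2, one_smul])
  exact ⟨ht, by rw [hs, ht, neg_one_smul]⟩

variable [Fintype F] {P : Subgroup (Matrix (Fin 2) (Fin 2) (Matrix (Fin 2) (Fin 2) F))ˣ}

/-- The image with kernel the centre determines the order. -/
theorem Img.card {hP : Hyp P} {n : ℕ} {R : Subgroup (Equiv.Perm (Fin n))} (h : Img hP R) :
    Nat.card hP.gproj = 2 * Nat.card R := by
  obtain ⟨φ, rfl, hker⟩ := h
  rw [Subgroup.card_eq_card_quotient_mul_card_subgroup φ.ker,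
    Nat.card_congr (QuotientGroup.quotientKerEquivRange φ).toEquiv, mul_comm]
  congr 1
  classical
  have hm : (-1 : SL) ∈ hP.gproj := by
    rw [hP.mem_gproj, SpecialLinearGroup.coe_neg]
    exact InG.neg hP ⟨1, In0.one⟩
  rw [← SetLike.coe_sort_coe, Nat.card_coe_set_eq, Set.ncard_eq_two]
  refine ⟨1, ⟨-1, hm⟩, fun e => ?_, ?_⟩
  · exact neg_ne_self2 hP.two_ne det_one (congrArg (fun g : hP.gproj => g.1.1) e)
  · ext g
    rw [SetLike.mem_coe, MonoidHom.mem_ker, hker, Set.mem_insert_iff, Set.mem_singleton_iff]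
    refine or_congr ?_ ?_
    · exact ⟨fun h => Subtype.ext (Subtype.ext h), fun h => by rw [h]; rfl⟩
    · exact ⟨fun h => Subtype.ext (Subtype.ext h), fun h => by rw [h]; rfl⟩

namespace Normal

variable {C : Ctx P}

/-- The element with two given blocks. -/
theorem exists_hom (hN : Normal C) (hfull : ∀ a, InG P a → In0 P a 1) :
    ∃ f : C.hP.gproj × C.hP.gproj →* P, Function.Injective f ∧ ∀ x, (f x).1.1 = dg x.1.1.1 x.2.1.1 := by
  have h : ∀ x : C.hP.gproj × C.hP.gproj, ∃ g : P, g.1.1 = dg x.1.1.1 x.2.1.1 := fun x => by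
    have := (hfull _ x.1.2).mul (hN.in0_swap (hfull _ x.2.2))
    rwa [mul_one, one_mul] at this
  choose g hg using h
  refine ⟨MonoidHom.mk' g fun x y => Subtype.ext (Units.ext ?_), fun x y e => ?_, hg⟩
  · rw [Subgroup.coe_mul, Units.val_mul, hg, hg, hg, dg_mul]; rfl
  · have e' : dg x.1.1.1 x.2.1.1 = dg y.1.1.1 y.2.1.1 := by rw [← hg, ← hg]; exact congrArg (fun g : P => g.1.1) e
    exact Prod.ext (Subtype.ext (Subtype.ext (dg_inj e').1)) (Subtype.ext (Subtype.ext (dg_inj e').2))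

/-- The full product over the alternating group of degree four is impossible. -/
theorem false_of_full_four (hN : Normal C) (himg : Img C.hP (alternatingGroup (Fin 4)))
    (hfull : ∀ a, InG P a → In0 P a 1) : False := by
  classical
  have hP := C.hP
  haveI h3f : Fact (Nat.Prime 3) := ⟨Nat.prime_three⟩
  have hc24 : Nat.card C.hP.gproj = 24 := by
    rw [himg.card, nat_card_alternatingGroup, Nat.card_fin]; rfl
  obtain ⟨φ, hφ, hker⟩ := himg
  obtain ⟨w, hw⟩ := exists_prime_orderOf_dvd_card' (G := C.hP.gproj) 3 (hc24 ▸ by norm_num)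
  have hw3 : w.1.1 * w.1.1 * w.1.1 = 1 := by
    have h : w ^ 3 = 1 := orderOf_dvd_iff_pow_eq_one.1 (dvd_of_eq hw)
    rw [pow_succ, pow_two] at h
    exact congrArg (fun g : C.hP.gproj => g.1.1) h
  have hw1 : w.1.1 ≠ 1 := fun e => by
    rw [show w = 1 from Subtype.ext (Subtype.ext e), orderOf_one] at hw
    norm_num at hw
  obtain ⟨htr, hww⟩ := sq_of_cube w.1.2 hw3 hw1
  rcases eq_or_ne (3 : F) 0 with h30 | h30
  · have hnil : (w.1.1 - 1) * (w.1.1 - 1) = 0 := by
      rw [sub_mul, mul_sub, mul_one, one_mul, hww,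
        show -w.1.1 - 1 - w.1.1 - (w.1.1 - 1) = (3 : F) • (-w.1.1) by module, h30, zero_smul]
    obtain ⟨M, κ, hκ, e⟩ := exists_triangular (sub_ne_zero.2 hw1) hnil
    have hu : In0 (conjP (dgU M) P) (uq κ) 1 := by
      rw [in0_conjP_dgU]
      have e' : uq κ = M.1 * w.1.1 * (M⁻¹).1 := by
        rw [uq_eq, ← e, mul_sub, mul_one, sub_mul, Units.mul_inv, add_sub_cancel]
      rw [e', mul_one, Units.inv_mul]
      simp only [← mul_assoc, Units.inv_mul, one_mul]
      simp only [mul_assoc, Units.inv_mul, mul_one]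
      exact hfull _ w.2
    exact hκ ((hP.map (sim_dgU M)).uq_one_eq hu)
  obtain ⟨f, hf, hfv⟩ := hN.exists_hom hfull
  set R : Subgroup P := ((Subgroup.zpowers w).prod (Subgroup.zpowers w)).map f with hRdef
  have hR9 : Nat.card R = 9 := by
    rw [hRdef, Subgroup.card_map_of_injective hf, Nat.card_congr (Subgroup.prodEquiv _ _).toEquiv, Nat.card_prod,
      Nat.card_zpowers, hw]
  have hz : ∀ x ∈ Subgroup.zpowers w, x.1.1 = 1 ∨ x.1.1 = w.1.1 ∨ x.1.1 = w.1.1 * w.1.1 := by
    intro x hx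
    obtain ⟨n, hn⟩ := mem_powers_iff_mem_zpowers.2 hx
    change w ^ n = x at hn
    rw [← pow_mod_orderOf, hw] at hn
    subst hn
    have : n % 3 < 3 := Nat.mod_lt _ (by norm_num)
    rcases (by omega : n % 3 = 0 ∨ n % 3 = 1 ∨ n % 3 = 2) with e | e | e <;> rw [e]
    · exact Or.inl rfl
    · exact Or.inr (Or.inl (by rw [pow_one]))
    · exact Or.inr (Or.inr (by rw [pow_two]; rfl))
  have hRmem : ∀ {r : P}, r ∈ R → ∃ x y : C.hP.gproj, x ∈ Subgroup.zpowers w ∧ y ∈ Subgroup.zpowers w ∧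
      r = f (x, y) := by
    intro r hr
    obtain ⟨⟨x, y⟩, ⟨hx, hy⟩, rfl⟩ := Subgroup.mem_map.1 hr
    exact ⟨x, y, hx, hy, rfl⟩
  have hwR : f (w, 1) ∈ R :=
    Subgroup.mem_map_of_mem f ⟨Subgroup.mem_zpowers w, one_mem _⟩
  -- the normaliser fixes the base line
  have hfix : ∀ g ∈ Subgroup.normalizer (R : Set P), g ∈ cpm P (tM : M4) := by
    intro g hg
    have hr : g⁻¹ * f (w, 1) * g ∈ R := (Subgroup.mem_normalizer_iff''.1 hg _).1 hwR
    obtain ⟨x, y, -, -, e⟩ := hRmem hr
    have h1 : cj (f (w, 1)) (cj g (tM : M4)) = cj g tM := by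
      rw [← cj_mul, show f (w, 1) * g = g * f (x, y) by rw [← e]; group, cj_mul, hP.cj_tM (hfv _)]
    have hA : W5 (cj g (tM : M4)) := hP.W5_cj g W5.tM
    obtain ⟨l, m, hlm⟩ := hA
    have hsq : cj g (tM : M4) * cj g tM = 1 := by
      have hcone : cj g (1 : M4) = 1 := by simp [cj]
      rw [← cj_mul_mat, tM_eq, dg_mul, one_mul, mul_neg, mul_one, neg_neg, dg_one, hcone]
    have hm : m = 0 := by
      rw [hlm, wv_decomp, cj_add, cj_smul, hP.cj_tM (hfv _), hP.cj_uM (hfv _)] at h1
      have h := uM_inj (add_left_cancel h1)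
      simp at h
      have h' : (w.1.1 - 1) * m = 0 := by rw [sub_mul, one_mul, h, sub_self]
      have hd : (w.1.1 - 1).det ≠ 0 := by
        have hgen : ∀ X : M2, (X - 1).det = X.det - X.trace + 1 := fun X => by
          simp [det_fin_two, trace_fin_two]; ring
        rw [hgen, w.1.2, htr]
        intro h0; exact h30 (by linear_combination h0)
      have := congrArg (fun X => (w.1.1 - 1).adjugate * X) h'
      simp only [← mul_assoc, adjugate_mul, mul_zero, smul_mul_assoc, one_mul] at this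
      exact (smul_eq_zero.1 this).resolve_left hd
    rw [hlm, hm, wv_sq, det_zero, add_zero] at hsq
    have hl := smul_one_inj (hsq.trans (one_smul F (1 : M4)).symm)
    show Same (cj g (tM : M4)) tM
    rw [hlm, hm]
    rcases sq_eq_one_iff.1 hl with e | e
    · exact Or.inl (by rw [e, tM])
    · exact Or.inr (by rw [e, tM, wv_neg, neg_zero])
  obtain ⟨u, hu⟩ := hN.swap_red.mem
  -- the shape of the stabiliser
  have hshape : ∀ g ∈ cpm P (tM : M4), g ∈ f.range ∨ g * u⁻¹ ∈ f.range := by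
    intro g hg
    obtain ⟨a, b, hab, hc⟩ := hN.cpm_cases hg
    obtain ⟨a', ha', ea⟩ := hP.exists_gproj ⟨b, hab⟩
    obtain ⟨b', hb', eb⟩ := hP.exists_gproj ⟨a, hN.in0_swap hab⟩
    have e : (f (⟨a', ha'⟩, ⟨b', hb'⟩)).1.1 = dg a b := by rw [hfv, ea, eb]
    rcases hc with hc | hc
    · exact Or.inl ⟨_, Subtype.ext (Units.ext (e.trans hc.symm))⟩
    · refine Or.inr ⟨(⟨a', ha'⟩, ⟨b', hb'⟩), eq_mul_inv_of_mul_eq (Subtype.ext (Units.ext ?_))⟩
      rw [Subgroup.coe_mul, Units.val_mul, e, hu, hc]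
  -- so the group of order nine is a Sylow subgroup
  obtain ⟨S, hS⟩ := (IsPGroup.of_card (show Nat.card R = 3 ^ 2 from hR9)).exists_le_sylow
  have hSR : (S : Subgroup P) = R := by
    refine le_antisymm ?_ hS
    refine (eq_of_le_of_not_lt hS fun hlt => ?_).ge
    obtain ⟨k, hk⟩ := IsPGroup.iff_card.1 S.isPGroup'
    have h27 : 27 ∣ Nat.card P := by
      have hk3 : 3 ≤ k := by
        by_contra hk3
        have hle : 3 ^ k ≤ 3 ^ 2 := Nat.pow_le_pow_right (by norm_num) (by omega)
        have hge := Subgroup.card_le_of_le hlt.le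
        exact hlt.ne (SetLike.coe_injective (Set.eq_of_subset_of_ncard_le hlt.le (by
          rw [← Nat.card_coe_set_eq, ← Nat.card_coe_set_eq, SetLike.coe_sort_coe, SetLike.coe_sort_coe]
          omega)))
      exact ((Nat.pow_dvd_pow 3 hk3).trans (dvd_of_eq hk.symm)).trans (Subgroup.card_subgroup_dvd_card _)
    have hN27 : 3 ^ 3 ∣ Nat.card (Subgroup.normalizer (R : Set P)) := by
      have h := Sylow.card_normalizer_modEq_card (show Nat.card R = 3 ^ 2 from hR9)
      exact (Nat.modEq_zero_iff_dvd).1 (h.trans (Nat.modEq_zero_iff_dvd.2 h27))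
    have hdvd : 3 ^ 3 ∣ Nat.card (cpm P (tM : M4)) := hN27.trans (Subgroup.card_dvd_of_le hfix)
    have hK : Nat.card f.range = 576 := by
      rw [← Nat.card_congr (MonoidHom.ofInjective hf).toEquiv, Nat.card_prod, hc24]
    have hrle : f.range ≤ cpm P (tM : M4) := by
      rintro _ ⟨x, rfl⟩
      exact Or.inl (hP.cj_tM (hfv x))
    have hd2 : 576 ∣ Nat.card (cpm P (tM : M4)) := hK ▸ Subgroup.card_dvd_of_le hrle
    have hle2 : Nat.card (cpm P (tM : M4)) ≤ 2 * 576 := by
      rw [← hK]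
      refine card_le_two_mul _ _ (s₀ := u) fun s hs hs' => ?_
      obtain ⟨x, hx⟩ := (hshape s hs).resolve_left hs'
      refine ⟨(x.2, x.1), Subtype.ext (Units.ext ?_)⟩
      rw [show s = f x * u by rw [hx, inv_mul_cancel_right],
        show u⁻¹ = u from inv_eq_of_mul_eq_one_left (Red.sq' (by rw [hu]; exact hN.swap_red))]
      simp only [Subgroup.coe_mul, Units.val_mul, hfv, hu, ← mul_assoc]
      rw [uM_one_dg]
    obtain ⟨q, hq⟩ := hd2
    have hq0 : 0 < Nat.card (cpm P (tM : M4)) := Nat.card_pos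
    rcases (by omega : q = 1 ∨ q = 2) with rfl | rfl <;> rw [hq] at hdvd <;> norm_num at hdvd
  have hcomm : IsMulCommutative (S : Subgroup P) := ⟨⟨fun a b => by
    obtain ⟨x, y, hx, hy, ea⟩ := hRmem (hSR.le a.2)
    obtain ⟨x', y', hx', hy', eb⟩ := hRmem (hSR.le b.2)
    refine Subtype.ext ?_
    obtain ⟨i, rfl⟩ := Subgroup.mem_zpowers_iff.1 hx
    obtain ⟨j, rfl⟩ := Subgroup.mem_zpowers_iff.1 hy
    obtain ⟨i', rfl⟩ := Subgroup.mem_zpowers_iff.1 hx'
    obtain ⟨j', rfl⟩ := Subgroup.mem_zpowers_iff.1 hy'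
    rw [Subgroup.coe_mul, Subgroup.coe_mul, ea, eb, ← map_mul, ← map_mul]
    congr 1
    ext1
    · exact (Commute.zpow_zpow_self w i i').eq
    · exact (Commute.zpow_zpow_self w j j').eq⟩⟩
  -- the diagonal is central in the normaliser
  have hsgn : ∀ a : C.hP.gproj, Equiv.Perm.sign (φ a) = 1 := fun a => by
    rw [← Equiv.Perm.mem_alternatingGroup, ← hφ]; exact ⟨a, rfl⟩
  have hconj : ∀ a : C.hP.gproj, a * w * a⁻¹ ∈ Subgroup.zpowers w → a * w * a⁻¹ = w := by
    intro a ha
    have hne : a * w * a⁻¹ ≠ 1 := fun e => by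
      rw [conj_eq_one_iff] at e
      rw [e, orderOf_one] at hw
      norm_num at hw
    have hcases : a * w * a⁻¹ = w ∨ a * w * a⁻¹ = w * w := by
      rcases hz _ ha with e | e | e
      · exact absurd (Subtype.ext (Subtype.ext e)) hne
      · exact Or.inl (Subtype.ext (Subtype.ext e))
      · exact Or.inr (Subtype.ext (Subtype.ext e))
    rcases hcases with e | e
    · exact e
    exfalso
    have hw3' : w * w * w = 1 := Subtype.ext (Subtype.ext hw3)
    have hφ1 : φ w ≠ 1 := fun h => by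
      rcases (hker w).1 h with h | h
      · exact hw1 h
      · rw [h] at hw3; simp at hw3
        exact neg_ne_self2 hP.two_ne det_one hw3.symm
    have hc := three_dec (φ a) (φ w) (hsgn a) (by rw [← map_mul, ← map_mul, hw3', map_one]) hφ1
      (Or.inr (by rw [← map_inv, ← map_mul, ← map_mul, e, map_mul]))
    have h' := congrArg φ e
    rw [map_mul, map_mul, map_inv, hc, mul_inv_cancel_right, map_mul] at h'
    exact hφ1 (mul_eq_left.1 h'.symm)
  have hdc : f (w, w) ∈ Subgroup.centralizer (Subgroup.normalizer (R : Set P) : Set P) := by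
    rw [Subgroup.mem_centralizer_iff]
    intro g hg
    have hdR : g * f (w, w) * g⁻¹ ∈ R :=
      (Subgroup.mem_normalizer_iff.1 hg _).1 (Subgroup.mem_map_of_mem f ⟨Subgroup.mem_zpowers w, Subgroup.mem_zpowers w⟩)
    have key : ∀ a b : C.hP.gproj, f (a, b) * f (w, w) * (f (a, b))⁻¹ ∈ R → Commute (f (a, b)) (f (w, w)) := by
      intro a b h
      obtain ⟨x, y, hx, hy, e⟩ := hRmem h
      rw [← map_inv, ← map_mul, ← map_mul] at e
      have e' := hf e
      simp only [Prod.mk_mul_mk, Prod.inv_mk, Prod.mk.injEq] at e'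
      have ea := hconj a (e'.1 ▸ hx)
      have eb := hconj b (e'.2 ▸ hy)
      show f (a, b) * f (w, w) = f (w, w) * f (a, b)
      rw [← map_mul, ← map_mul, Prod.mk_mul_mk, Prod.mk_mul_mk]
      congr 1
      exact Prod.ext (mul_inv_eq_iff_eq_mul.1 ea) (mul_inv_eq_iff_eq_mul.1 eb)
    have huw : Commute u (f (w, w)) := Subtype.ext (Units.ext (by
      simp only [Subgroup.coe_mul, Units.val_mul, hfv, hu]
      calc uM 1 * dg w.1.1 w.1.1 = uM 1 * dg w.1.1 w.1.1 * (uM 1 * uM 1) := by rw [uM_sq det_one, mul_one]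
        _ = dg w.1.1 w.1.1 * uM 1 := by rw [← mul_assoc, uM_one_dg]))
    rcases hshape g (hfix g hg) with ⟨⟨a, b⟩, h⟩ | ⟨⟨a, b⟩, h⟩
    · subst h
      exact (key a b hdR).eq
    · have hg' : g = f (a, b) * u := by rw [h, inv_mul_cancel_right]
      subst hg'
      have : f (a, b) * f (w, w) * (f (a, b))⁻¹ ∈ R := by
        rwa [show f (a, b) * u * f (w, w) * (f (a, b) * u)⁻¹ = f (a, b) * f (w, w) * (f (a, b))⁻¹ by
          rw [mul_assoc (f (a, b)) u, huw.eq]; group] at hdR
      exact ((key a b this).mul_left huw).eq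
  obtain ⟨N, hNn, ⟨e⟩⟩ := Cfsg.Agent.S0105.result S hcomm
  have hNtop : N = ⊤ := by
    rw [eq_top_iff, ← hP.perfect']
    refine Subgroup.Normal.quotient_commutative_iff_commutator_le.mp ⟨⟨fun a b => e.injective ?_⟩⟩
    rw [map_mul, map_mul]
    have h := congrArg Subtype.val (hcomm.1.comm ⟨(e a).1, (e a).2.1⟩ ⟨(e b).1, (e b).2.1⟩)
    exact Subtype.ext h
  subst hNtop
  haveI : Subsingleton (P ⧸ (⊤ : Subgroup P)) := QuotientGroup.subsingleton_quotient_top
  have hsub : Subsingleton ((S : Subgroup P) ⊓ Subgroup.centralizer (Subgroup.normalizer (S : Set P) : Set P) : Subgroup P) :=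
    e.symm.toEquiv.subsingleton
  have hmem : f (w, w) ∈ (S : Subgroup P) ⊓ Subgroup.centralizer (Subgroup.normalizer (S : Set P) : Set P) := by
    refine ⟨hSR.ge (Subgroup.mem_map_of_mem f ⟨Subgroup.mem_zpowers w, Subgroup.mem_zpowers w⟩), ?_⟩
    rw [show (S : Set P) = (R : Set P) by rw [← hSR]; rfl]
    exact hdc
  have h1 : f (w, w) = 1 := congrArg Subtype.val (hsub.elim ⟨_, hmem⟩ 1)
  rw [← map_one f] at h1
  exact hw1 (congrArg (fun x : C.hP.gproj × C.hP.gproj => x.1.1.1) (hf h1))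

end Normal

end CfsgLib.Sp4Odd
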