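import Cfsg.Agent.Lib.Sp4Odd.Frame5
import Cfsg.Agent.Lib.Sp4Odd.FullFour

/-!
The projection onto the alternating group of degree four is impossible.
-/

set_option autoImplicit false
set_option maxHeartbeats 400000

namespace CfsgLib.Sp4Odd

open Matrix Equiv

set_option synthInstance.maxSize 2000 in
theorem a4_facts : ∀ x : Perm (Fin 4), Perm.sign x = 1 → (x * x = 1 ∨ x ^ 3 = 1) ∧
    (∀ y : Perm (Fin 4), Perm.sign y = 1 → x * x = 1 → y * y = 1 →
      x * y = y * x ∧ (x * y) * (x * y) = 1 ∧ (x = 1 ∨ y = 1 ∨ x = y ∨ x * y ≠ 1)) := by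
  decide +kernel

theorem a4_coset : ∀ x : Perm (Fin 4), Perm.sign x = 1 → ¬ x * x = 1 → ∀ z : Perm (Fin 4), Perm.sign z = 1 →
    z * z = 1 ∨ (z * x) * (z * x) = 1 ∨ (z * (x * x)) * (z * (x * x)) = 1 := by
  decide +kernel

theorem a4_double : ∀ x : Perm (Fin 4), Perm.sign x = 1 → ¬ x * x = 1 → ∀ z : Perm (Fin 4), Perm.sign z = 1 →
    (x * z) * (x * z) = 1 → ¬ (x⁻¹ * z) * (x⁻¹ * z) = 1 := by
  decide +kernel

variable {F : Type*} [Field F]

local notation "M2" => Matrix (Fin 2) (Fin 2) F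

variable [Fintype F] {P : Subgroup (Matrix (Fin 2) (Fin 2) (Matrix (Fin 2) (Fin 2) F))ˣ}

/-- The projection onto the alternating group of degree four is impossible. -/
theorem Normal.false_of_alt_four {C : Ctx P} (hN : Normal C) (himg : Img C.hP (alternatingGroup (Fin 4))) :
    False := by
  classical
  have hP := C.hP
  have h2 := hP.two_ne
  obtain ⟨φ⟩ := Img.exists_pmap (C := C) himg
  have sgn : ∀ {a : M2} (ha : InG P a), Perm.sign (φ.ev ha) = 1 := fun ha =>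
    Perm.mem_alternatingGroup.1 (φ.ev_mem ha)
  -- members over the four group
  have v4 : ∀ {a : M2} (ha : InG P a), φ.ev ha * φ.ev ha = 1 ↔ (a = 1 ∨ a = -1 ∨ a.trace = 0) := by
    intro a ha
    constructor
    · intro h
      exact trace_of_pow_two h2 (ha.det hP) (φ.pow_pm ha (m := 2) (by rw [pow_two]; exact h))
    · rintro (h | h | h)
      · rw [(φ.ev_eq_one ha).2 (Or.inl h), mul_one]
      · rw [(φ.ev_eq_one ha).2 (Or.inr h), mul_one]
      · exact (φ.sq_one_of_trace ha h).2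
  by_cases hK : KCent P
  · refine hN.false_of_exponent hK fun a ha n hn => ?_
    have hsq : a * a = 1 ∨ a * a = -1 := by
      have hg : φ.ev ha ^ 2 ^ n = 1 := by
        have hp : InG P (a ^ 2 ^ n) := by rw [hn]; exact ⟨1, In0.one⟩
        rw [← φ.ev_pow ha (2 ^ n) hp]
        exact (φ.ev_eq_one hp).2 (Or.inl hn)
      have h1 : φ.ev ha * φ.ev ha = 1 := by
        rcases (a4_facts _ (sgn ha)).1 with h | h
        · exact h
        · have e1 : orderOf (φ.ev ha) ∣ Nat.gcd 3 (2 ^ n) :=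
            Nat.dvd_gcd (orderOf_dvd_of_pow_eq_one h) (orderOf_dvd_of_pow_eq_one hg)
          rw [Nat.Coprime.gcd_eq_one (Nat.Coprime.pow_right n (by norm_num)), Nat.dvd_one, orderOf_eq_one_iff] at e1
          rw [e1, mul_one]
      have := φ.pow_pm ha (m := 2) (by rw [pow_two]; exact h1)
      rwa [pow_two] at this
    exact hsq
  obtain ⟨i, j, hQ, hij⟩ := hN.exists_quat hK poly_alt_four φ
  have hgi : InG P i := ⟨1, hQ.ki⟩
  have hgj : InG P j := ⟨1, hQ.kj⟩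
  obtain ⟨hei, hej, hne, hcomm⟩ := hij hgi hgj
  have q8 : ∀ {a : M2}, InG P a → (a = 1 ∨ a = -1 ∨ a.trace = 0) →
      In0 P a 1 ∧ (a.trace = 0 → a = i ∨ a = -i ∨ a = j ∨ a = -j ∨ a = i * j ∨ a = -(i * j)) := by
    intro a ha ht
    have hk : a.trace = 0 → a = i ∨ a = -i ∨ a = j ∨ a = -j ∨ a = i * j ∨ a = -(i * j) := by
      intro h0
      obtain ⟨hne1, hsq⟩ := φ.sq_one_of_trace ha h0
      have hc := ((a4_facts _ (sgn hgi)).2 _ (sgn ha) hei.2.1 hsq).1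
      rcases poly_alt_four.klein _ (φ.ev_mem hgi) hei _ (φ.ev_mem hgj) hej hne hcomm _ (φ.ev_mem ha)
          ⟨hne1, hsq, sgn ha⟩ hc with e | e | e
      · rcases φ.eq_pm ha hgi e with h | h
        exacts [Or.inl h, Or.inr (Or.inl h)]
      · rcases φ.eq_pm ha hgj e with h | h
        exacts [Or.inr (Or.inr (Or.inl h)), Or.inr (Or.inr (Or.inr (Or.inl h)))]
      · rw [← φ.ev_mul hgi hgj] at e
        rcases φ.eq_pm ha (hgi.mul hgj) e with h | h
        exacts [Or.inr (Or.inr (Or.inr (Or.inr (Or.inl h)))), Or.inr (Or.inr (Or.inr (Or.inr (Or.inr h))))]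
    refine ⟨?_, hk⟩
    rcases ht with rfl | rfl | h0
    · exact In0.one
    · exact hN.in0_neg_left In0.one
    · rcases hk h0 with rfl | rfl | rfl | rfl | rfl | rfl
      exacts [hQ.ki, hN.in0_neg_left hQ.ki, hQ.kj, hN.in0_neg_left hQ.kj, hQ.kk, hN.in0_neg_left hQ.kk]
  by_cases hK3 : ∃ (k : M2) (hk : In0 P k 1), ¬ φ.ev (a := k) ⟨1, hk⟩ * φ.ev (a := k) ⟨1, hk⟩ = 1
  · -- the full product
    obtain ⟨k, hk, hk3⟩ := hK3
    refine hN.false_of_full_four himg fun a ha => ?_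
    have hgk : InG P k := ⟨1, hk⟩
    rcases a4_coset _ (sgn hgk) hk3 _ (sgn ha) with h | h | h
    · exact (q8 ha ((v4 ha).1 h)).1
    · rw [← φ.ev_mul ha hgk] at h
      have := (q8 (ha.mul hgk) ((v4 (ha.mul hgk)).1 h)).1.mul (hP.in0_adj hk)
      rwa [adjugate_one, mul_one, mul_assoc, (adj_inv (hgk.det hP)).1, mul_one] at this
    · rw [← φ.ev_mul hgk hgk, ← φ.ev_mul ha (hgk.mul hgk)] at h
      have := (q8 (ha.mul (hgk.mul hgk)) ((v4 (ha.mul (hgk.mul hgk))).1 h)).1.mul (hP.in0_adj (hk.mul hk))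
      rwa [mul_one, adjugate_one, mul_one, mul_assoc, (adj_inv ((hgk.mul hgk).det hP)).1, mul_one] at this
  push Not at hK3
  have hK8 : ∀ {k : M2} (hk : In0 P k 1) (hgk : InG P k), φ.ev hgk * φ.ev hgk = 1 := fun hk hgk => hK3 _ hk
  by_cases hcase : ∀ (m : M2) (hm : In0 P m m.adjugate), φ.ev (a := m) ⟨_, hm⟩ * φ.ev (a := m) ⟨_, hm⟩ = 1
  · -- four lines
    refine C.clique fun A B hA hB => ?_
    obtain ⟨m, hm, rfl⟩ := hN.inL_eq hA
    obtain ⟨n, hn, rfl⟩ := hN.inL_eq hB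
    have hgm : InG P m := ⟨_, hm⟩
    have hgn : InG P n := ⟨_, hn⟩
    have h1 : φ.ev (hgm.mul (hgn.adj hP)) * φ.ev (hgm.mul (hgn.adj hP)) = 1 := by
      have hn1 : φ.ev hgn * φ.ev hgn = 1 := hcase n hn
      rw [φ.ev_mul hgm (hgn.adj hP), φ.ev_adj hgn, inv_eq_of_mul_eq_one_right hn1]
      exact ((a4_facts _ (sgn hgm)).2 _ (sgn hgn) (hcase m hm) hn1).2.1
    have hd := hgn.det hP
    rcases (v4 _).1 h1 with h | h | h
    · left
      rw [same_uM]; left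
      calc m = m * n.adjugate * n := by rw [mul_assoc, (adj_inv hd).2, mul_one]
        _ = n := by rw [h, one_mul]
    · left
      rw [same_uM]; right
      calc m = m * n.adjugate * n := by rw [mul_assoc, (adj_inv hd).2, mul_one]
        _ = -n := by rw [h, neg_mul, one_mul]
    · right
      rw [ip_uM h2, h, zero_div]
  push Not at hcase
  obtain ⟨m0, hm0, hm03⟩ := hcase
  -- a flip
  have htrans : ∀ m, In0 P m m.adjugate → ∃ a b : M2, In0 P a b ∧ a * b.adjugate = m := by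
    intro m hm
    have hgm : InG P m := ⟨_, hm⟩
    have hd := hgm.det hP
    rcases (a4_facts _ (sgn hgm)).1 with h | h
    · exact ⟨m, 1, (q8 hgm ((v4 hgm).1 h)).1, by rw [adjugate_one, mul_one]⟩
    · have h4 := hm.mul hm
      rcases φ.pow_pm hgm (m := 3) h with e | e
      · exact ⟨_, _, h4, by rw [adjugate_mul_distrib, adj_adj, show m * m * (m * m) = m ^ 3 * m by simp [pow_succ, mul_assoc], e, one_mul]⟩
      · refine ⟨_, _, hN.in0_neg_left h4, ?_⟩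
        rw [adjugate_mul_distrib, adj_adj, neg_mul, show m * m * (m * m) = m ^ 3 * m by simp [pow_succ, mul_assoc], e,
          neg_mul, one_mul, neg_neg]
  obtain ⟨g, hgt, hgu⟩ := hQ.exists_flip htrans
  have himag : ∀ n : Fin 5, n ≠ 0 → n ≠ 1 → ∃ n' : Fin 5, Same (cj g (fvec i j n)) (fvec i j n') := by
    intro n h0 h1
    obtain ⟨y, hy, hyt, hn⟩ : ∃ y : M2, In0 P y y.adjugate ∧ y.trace = 0 ∧ fvec i j n = uM y := by
      fin_cases n
      · exact absurd rfl h0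
      · exact absurd rfl h1
      · exact ⟨i, hQ.line hQ.ki hQ.ti, hQ.ti, rfl⟩
      · exact ⟨j, hQ.line hQ.kj hQ.tj, hQ.tj, rfl⟩
      · exact ⟨i * j, hQ.line hQ.kk hQ.tk, hQ.tk, rfl⟩
    obtain ⟨y', hy', hyt', e⟩ := hQ.flip_imag hgt hgu hy hyt
    rw [hn, e]
    rcases (q8 ⟨_, hy'⟩ (Or.inr (Or.inr hyt'))).2 hyt' with rfl | rfl | rfl | rfl | rfl | rfl
    exacts [⟨2, Or.inl rfl⟩, ⟨2, Or.inr (uM_neg i)⟩, ⟨3, Or.inl rfl⟩, ⟨3, Or.inr (uM_neg j)⟩, ⟨4, Or.inl rfl⟩,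
      ⟨4, Or.inr (uM_neg (i * j))⟩]
  obtain ⟨π, hπ0, hπ1, -, hπ⟩ := hQ.flip_perm hgt hgu himag
  obtain ⟨a, ha, hai, -, -⟩ := hQ.exists_cycle hπ hπ0 hπ1
  have hga : InG P a := ⟨_, ha⟩
  have ha3 : ¬ φ.ev hga * φ.ev hga = 1 := by
    intro h
    have hc := ((a4_facts _ (sgn hga)).2 _ (sgn hgi) h hei.2.1).1
    have e : φ.ev ((hga.mul hgi).mul (hga.adj hP)) = φ.ev hgi := by
      rw [φ.ev_mul (hga.mul hgi) (hga.adj hP), φ.ev_mul hga hgi, φ.ev_adj hga, hc, mul_inv_cancel_right]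
    have h' : Same (uM (a * i * a.adjugate)) (uM i) := same_uM.2 (φ.eq_pm _ _ e)
    exact absurd (hQ.fvec_inj (m := 2) (n := 3) (h'.symm.trans hai)) (by decide)
  -- a kernel element outside the frame
  obtain ⟨c, hc, hq⟩ : ∃ (c : M2) (hc : In0 P c c),
      φ.ev (a := m0) ⟨_, hm0⟩ * φ.ev (a := c) ⟨_, hc⟩ * (φ.ev (a := m0) ⟨_, hm0⟩ * φ.ev (a := c) ⟨_, hc⟩) = 1 := by
    rcases a4_coset _ (sgn hga) ha3 _ (sgn (a := m0) ⟨_, hm0⟩) with h | h | h
    · exact absurd h hm03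
    · exact ⟨a, ha, h⟩
    · refine ⟨a * a, ha.mul ha, ?_⟩
      rw [φ.ev_mul hga hga]; exact h
  have hgm : InG P m0 := ⟨_, hm0⟩
  have hgc : InG P c := ⟨_, hc⟩
  have hk := (q8 (hgm.mul hgc) ((v4 _).1 (by rw [φ.ev_mul hgm hgc]; exact hq))).1
  have h1 := (hP.in0_adj hk).mul (hm0.mul hc)
  rw [adjugate_one, one_mul, (adj_inv ((hgm.mul hgc).det hP)).2] at h1
  have hk' := hN.in0_swap h1
  have h3 := hK8 hk' ((hgm.adj hP).mul hgc)
  rw [φ.ev_mul (hgm.adj hP) hgc, φ.ev_adj hgm] at h3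
  exact a4_double _ (sgn hgm) hm03 _ (sgn hgc) hq h3

end CfsgLib.Sp4Odd
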