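import Cfsg.Agent.Lib.Sp4Odd.Lines
import Cfsg.Agent.Lib.Involutions
import Cfsg.Agent.S1169
import Cfsg.Agent.S0223

/-!
The neighbours of the base line cannot be pairwise orthogonal.
-/

set_option autoImplicit false
set_option maxHeartbeats 400000

namespace CfsgLib.Sp4Odd

open Matrix

section Grp

variable {G : Type*} [Group G] [Finite G]

/-- A simple group with a strongly embedded subgroup has one class of involutions. -/
theorem isConj_of_stronglyEmbedded [IsSimpleGroup G] {H : Subgroup G} (hH : Cfsg.IsStronglyEmbedded H) {x y : G}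
    (hx : orderOf x = 2) (hy : orderOf y = 2) : ∃ g : G, g * x * g⁻¹ = y := by
  have hcent : ∀ z ∈ H, orderOf z = 2 → ∀ g : G, Commute g z → g ∈ H := by
    intro z hz ho g hc
    by_contra hg
    have hodd := hH.2.2 g hg
    have hmem : z ∈ H ⊓ H.map (MulAut.conj g).toMonoidHom := by
      refine ⟨hz, Subgroup.mem_map.2 ⟨z, hz, ?_⟩⟩
      show g * z * g⁻¹ = z
      rw [hc.eq, mul_inv_cancel_right]
    have hd := orderOf_dvd_natCard (⟨z, hmem⟩ : ↥(H ⊓ H.map (MulAut.conj g).toMonoidHom))
    rw [← Subgroup.orderOf_coe, ho] at hd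
    exact (Nat.not_even_iff_odd.2 hodd) (even_iff_two_dvd.2 hd)
  have hsq : ∀ {z : G}, orderOf z = 2 → z * z = 1 := CfsgLib.Involutions.mul_self_eq_one_of_orderOf
  have key : ∀ a b : G, orderOf a = 2 → orderOf b = 2 → a ∈ H → b ∉ H → ∃ g : G, g * a * g⁻¹ = b := by
    intro a b ha hb haH hbH
    rcases Nat.even_or_odd (orderOf (a * b)) with h | h
    · exfalso
      obtain ⟨h1, h2⟩ := CfsgLib.Involutions.central_half (hsq ha) (hsq hb) h
      have hc := CfsgLib.Involutions.orderOf_half h
      exact hbH (hcent _ (hcent a haH ha _ h1) hc b h2.symm)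
    · obtain ⟨d, -, hd⟩ := CfsgLib.Involutions.exists_conj_eq_of_odd (hsq ha) (hsq hb) h
      exact ⟨d, hd⟩
  -- an involution inside and one outside
  haveI : Fact (Nat.Prime 2) := ⟨Nat.prime_two⟩
  obtain ⟨a, ha⟩ := exists_prime_orderOf_dvd_card' (G := H) 2 hH.2.1.two_dvd
  rw [← Subgroup.orderOf_coe] at ha
  obtain ⟨b, hb, hbH⟩ : ∃ b : G, orderOf b = 2 ∧ b ∉ H := by
    by_contra hc
    push Not at hc
    have hle : Subgroup.normalClosure ({(a : G)} : Set G) ≤ H := by
      rw [Subgroup.normalClosure, Subgroup.closure_le]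
      intro w hw
      obtain ⟨v, hv, hvw⟩ := Group.mem_conjugatesOfSet_iff.1 hw
      obtain rfl : v = (a : G) := hv
      obtain ⟨c, rfl⟩ := isConj_iff.1 hvw
      exact hc _ (by rw [← ha]; exact (MulAut.conj c).orderOf_eq _)
    rcases (Subgroup.normalClosure_normal (s := ({(a : G)} : Set G))).eq_bot_or_eq_top with h | h
    · have : (a : G) ∈ (⊥ : Subgroup G) := h ▸ Subgroup.subset_normalClosure rfl
      rw [Subgroup.mem_bot] at this
      rw [this, orderOf_one] at ha
      omega
    · exact hH.1 (top_le_iff.1 (h ▸ hle))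
  -- every involution is conjugate to the one outside
  have all : ∀ z : G, orderOf z = 2 → ∃ g : G, g * z * g⁻¹ = b := by
    intro z hz
    by_cases hzH : z ∈ H
    · exact key z b hz hb hzH hbH
    · obtain ⟨g₁, h1⟩ := key a z ha hz a.2 hzH
      obtain ⟨g₂, h2⟩ := key a b ha hb a.2 hbH
      exact ⟨g₂ * g₁⁻¹, by rw [← h1, ← h2]; group⟩
  obtain ⟨g₁, h1⟩ := all x hx
  obtain ⟨g₂, h2⟩ := all y hy
  exact ⟨g₂⁻¹ * g₁, by
    calc g₂⁻¹ * g₁ * x * (g₂⁻¹ * g₁)⁻¹ = g₂⁻¹ * (g₁ * x * g₁⁻¹) * g₂ := by group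
      _ = y := by rw [h1, ← h2]; group⟩

end Grp

variable {F : Type*} [Field F] [Fintype F]

local notation "M4" => Matrix (Fin 2) (Fin 2) (Matrix (Fin 2) (Fin 2) F)

variable {P : Subgroup (Matrix (Fin 2) (Fin 2) (Matrix (Fin 2) (Fin 2) F))ˣ}

theorem Hyp.anti_prod (hP : Hyp P) {x y : P} {A : M4} (h : A * x.1.1 = -(x.1.1 * A))
    (h' : A * y.1.1 = -(y.1.1 * A)) : A * (x * y).1.1 = (x * y).1.1 * A := by
  rw [Subgroup.coe_mul, Units.val_mul, ← mul_assoc, h, neg_mul, mul_assoc, h', mul_neg, neg_neg, mul_assoc]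

theorem Red.ne_neg_self (hP : Hyp P) {A : M4} (hA : Red P A) : A ≠ -A := fun e => by
  have h0 := two_ne_mat hP.two_ne e
  have := hA.sq
  rw [h0, mul_zero] at this
  exact one_ne_zero4 this.symm

/-- The product of four orthogonal involutions is an involution orthogonal to them. -/
theorem Hyp.prod_four (hP : Hyp P) {a b c d : P} (ha : Red P a.1.1) (hb : Red P b.1.1) (hc : Red P c.1.1)
    (hd : Red P d.1.1) (hab : ip a.1.1 b.1.1 = 0) (hac : ip a.1.1 c.1.1 = 0) (had : ip a.1.1 d.1.1 = 0)
    (hbc : ip b.1.1 c.1.1 = 0) (hbd : ip b.1.1 d.1.1 = 0) (hcd : ip c.1.1 d.1.1 = 0) :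
    Red P (a * b * c * d).1.1 ∧ ip (a * b * c * d).1.1 a.1.1 = 0 ∧ ip (a * b * c * d).1.1 b.1.1 = 0 ∧
      ip (a * b * c * d).1.1 c.1.1 = 0 ∧ ip (a * b * c * d).1.1 d.1.1 = 0 := by
  have an : ∀ {u v : P}, Red P u.1.1 → Red P v.1.1 → ip u.1.1 v.1.1 = 0 → u * v = hP.negOne * (v * u) := by
    intro u v hu hv h
    refine Subtype.ext (Units.ext ?_)
    simp [Hyp.negOne, (hu.w5.anticomm_iff hP.two_ne hv.w5).2 h]
  have hn2 : hP.negOne * hP.negOne = 1 := Subtype.ext (by simp [Hyp.negOne])
  have nc : ∀ g : P, g * hP.negOne = hP.negOne * g := pm_comm (Or.inr rfl)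
  have mv : ∀ {u v : P}, u * v = hP.negOne * (v * u) → v * u = hP.negOne * (u * v) := by
    intro u v h
    rw [h, ← mul_assoc, hn2, one_mul]
  set n := hP.negOne with hn
  have e_a : a * (a * b * c * d) = n * (a * b * c * d * a) := by
    have h1 : a * b * c * d * a = n * (n * (n * (a * a * b * c * d))) := by
      calc a * b * c * d * a = a * b * c * (d * a) := by group
        _ = a * b * c * (n * (a * d)) := by rw [mv (an ha hd had)]
        _ = n * (a * b * (c * a) * d) := by rw [← mul_assoc (a * b * c), nc]; group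
        _ = n * (a * b * (n * (a * c)) * d) := by rw [mv (an ha hc hac)]
        _ = n * (n * (a * (b * a) * c * d)) := by rw [← mul_assoc (a * b), nc]; group
        _ = n * (n * (a * (n * (a * b)) * c * d)) := by rw [mv (an ha hb hab)]
        _ = n * (n * (n * (a * a * b * c * d))) := by rw [← mul_assoc a n, nc]; group
    rw [h1, ← mul_assoc n n, hn2, one_mul, ← mul_assoc n n, hn2, one_mul]
    group
  have e_b : b * (a * b * c * d) = n * (a * b * c * d * b) := by
    have h1 : a * b * c * d * b = n * (n * (a * b * b * c * d)) := by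
      calc a * b * c * d * b = a * b * c * (d * b) := by group
        _ = a * b * c * (n * (b * d)) := by rw [mv (an hb hd hbd)]
        _ = n * (a * b * (c * b) * d) := by rw [← mul_assoc (a * b * c), nc]; group
        _ = n * (a * b * (n * (b * c)) * d) := by rw [mv (an hb hc hbc)]
        _ = n * (n * (a * b * b * c * d)) := by rw [← mul_assoc (a * b), nc]; group
    have h2 : b * (a * b * c * d) = n * (a * b * b * c * d) := by
      calc b * (a * b * c * d) = b * a * (b * c * d) := by group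
        _ = n * (a * b) * (b * c * d) := by rw [mv (an ha hb hab)]
        _ = n * (a * b * b * c * d) := by group
    rw [h1, h2, ← mul_assoc n n, hn2, one_mul]
  have e_c : c * (a * b * c * d) = n * (a * b * c * d * c) := by
    have h1 : a * b * c * d * c = n * (a * b * c * c * d) := by
      calc a * b * c * d * c = a * b * c * (d * c) := by group
        _ = a * b * c * (n * (c * d)) := by rw [mv (an hc hd hcd)]
        _ = n * (a * b * c * c * d) := by rw [← mul_assoc (a * b * c), nc]; group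
    have h2 : c * (a * b * c * d) = n * (n * (a * b * c * c * d)) := by
      calc c * (a * b * c * d) = c * a * (b * c * d) := by group
        _ = n * (a * c) * (b * c * d) := by rw [mv (an ha hc hac)]
        _ = n * (a * (c * b) * (c * d)) := by group
        _ = n * (a * (n * (b * c)) * (c * d)) := by rw [mv (an hb hc hbc)]
        _ = n * (n * (a * b * c * c * d)) := by rw [← mul_assoc a n, nc]; group
    rw [h1, h2]
  have e_d : d * (a * b * c * d) = n * (a * b * c * d * d) := by
    calc d * (a * b * c * d) = d * a * (b * c * d) := by group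
      _ = n * (a * d) * (b * c * d) := by rw [mv (an ha hd had)]
      _ = n * (a * (d * b) * (c * d)) := by group
      _ = n * (a * (n * (b * d)) * (c * d)) := by rw [mv (an hb hd hbd)]
      _ = n * (n * (a * b * (d * c) * d)) := by rw [← mul_assoc a n, nc]; group
      _ = n * (n * (a * b * (n * (c * d)) * d)) := by rw [mv (an hc hd hcd)]
      _ = n * (n * (n * (a * b * c * d * d))) := by rw [← mul_assoc (a * b) n, nc]; group
      _ = n * (a * b * c * d * d) := by rw [← mul_assoc n n, hn2, one_mul]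
  have hsq : (a * b * c * d) * (a * b * c * d) = 1 := by
    calc (a * b * c * d) * (a * b * c * d) = a * b * c * (d * (a * b * c * d)) := by group
      _ = a * b * c * (n * (a * b * c * d * d)) := by rw [e_d]
      _ = n * (a * b * c * (a * b * c)) := by
        rw [mul_assoc (a * b * c) d d, hd.sq', mul_one, ← mul_assoc (a * b * c) n, nc, mul_assoc]
      _ = n * (a * b * (c * a) * b * c) := by group
      _ = n * (a * b * (n * (a * c)) * b * c) := by rw [mv (an ha hc hac)]
      _ = n * (n * (a * (b * a) * (c * b) * c)) := by rw [← mul_assoc (a * b) n, nc]; group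
      _ = n * (n * (a * (n * (a * b)) * (n * (b * c)) * c)) := by rw [mv (an ha hb hab), mv (an hb hc hbc)]
      _ = n * (n * (n * (n * (a * a * b * b * c * c)))) := by
        rw [← mul_assoc a n, nc a, show n * a * (a * b) * (n * (b * c)) = n * (a * (a * b) * n) * (b * c) by group,
          nc (a * (a * b))]
        group
      _ = 1 := by
        rw [← mul_assoc n n, hn2, one_mul, ← mul_assoc n n, hn2, one_mul, ha.sq', one_mul, hb.sq', one_mul, hc.sq']
  set q := a * b * c * d with hq
  have hcomm : ∀ {u : P}, u * q = n * (q * u) → q ∉ pm P := by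
    intro u hu hm
    rw [← pm_comm hm u] at hu
    have h1 : (1 : P) = n := mul_right_cancel (b := u * q) (by rw [one_mul]; exact hu)
    exact one_ne_zero4 (two_ne_mat hP.two_ne (show (1 : M4) = -1 by
      simpa [hn, Hyp.negOne] using congrArg (fun y : P => y.1.1) h1))
  have hr : Red P q.1.1 := (hP.invol (congrArg Subtype.val hsq)).resolve_left (hcomm e_a)
  have orth : ∀ {u : P}, Red P u.1.1 → u * q = n * (q * u) → ip q.1.1 u.1.1 = 0 := by
    intro u hu h
    rw [ip_comm]
    refine (hu.w5.anticomm_iff hP.two_ne hr.w5).1 ?_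
    have := congrArg (fun y : P => y.1.1) h
    simpa [hn, Hyp.negOne] using this
  exact ⟨hr, orth ha e_a, orth hb e_b, orth hc e_c, orth hd e_d⟩

namespace Ctx

variable {C : Ctx P}

/-- The base line together with its neighbours. -/
def InPhi (C : Ctx P) (A : M4) : Prop := Same A C.tv ∨ C.InL C.tv A

/-- The neighbours of a dominating neighbour lie in the star of the base line. -/
theorem inPhi_of_dom {c : M4} (hc : C.InL C.tv c) (hdom : ∀ A, C.InL C.tv A → Same A c ∨ ip c A = 0)
    {A : M4} (hA : C.InL c A) : C.InPhi A := by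
  classical
  have hne2 : ∀ B : M4, Red P B → B ≠ -B := fun B hB => hB.ne_neg_self C.hP
  obtain ⟨g, hg⟩ := hc.1
  have hcard : {B | C.InL c B}.ncard = {B | C.InL C.tv B}.ncard := by rw [hg]; exact ncard_L g _
  set S : Set M4 := {B | C.InL C.tv B} \ {c, -c} ∪ {C.tv, -C.tv} with hS
  have hsub : S ⊆ {B | C.InL c B} := by
    rintro B (⟨hB, hB'⟩ | hB)
    · rcases hdom B hB with h | h
      · exact absurd h hB'
      · exact ⟨hB.1, h⟩
    · exact hc.symm_t.same hB (Same.refl c)
  have hsub2 : ({c, -c} : Set M4) ⊆ {B | C.InL C.tv B} := by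
    rintro B (rfl | rfl)
    exacts [hc, hc.same (Or.inr rfl) (Same.refl _)]
  have hcS : S.ncard = {B | C.InL C.tv B}.ncard := by
    have h1 : Disjoint ({B | C.InL C.tv B} \ {c, -c}) ({C.tv, -C.tv} : Set M4) := by
      rw [Set.disjoint_left]
      rintro B ⟨hB, -⟩ hB'
      exact InL.not_same C.red hB hB'
    rw [hS, Set.ncard_union_eq h1, Set.ncard_sdiff hsub2, Set.ncard_pair (hne2 _ hc.1.red),
      Set.ncard_pair (hne2 _ C.red)]
    have : 2 ≤ {B | C.InL C.tv B}.ncard :=
      (Set.ncard_pair (hne2 _ hc.1.red)).symm.le.trans (Set.ncard_le_ncard hsub2)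
    omega
  have heq : S = {B | C.InL c B} := Set.eq_of_subset_of_ncard_le hsub (by rw [hcard, hcS])
  have hA' : A ∈ S := by rw [heq]; exact hA
  rcases hA' with ⟨hA', -⟩ | hA'
  · exact Or.inr hA'
  · exact Or.inl hA'

theorem InPhi.inCl {A : M4} (h : C.InPhi A) : C.InCl A := h.elim (fun e => inCl_t.same e) (fun h => h.1)

theorem InPhi.same {A B : M4} (h : C.InPhi A) (e : Same B A) : C.InPhi B :=
  h.imp (fun h => e.trans h) (fun h => h.same e (Same.refl _))

/-- Pairwise orthogonal neighbours are impossible. -/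
theorem clique (hcl : ∀ A B, C.InL C.tv A → C.InL C.tv B → Same A B ∨ ip A B = 0) : False := by
  classical
  have h2 := C.hP.two_ne
  obtain ⟨a, ha⟩ := C.exists_L
  obtain ⟨a, rfl⟩ := ha.1.red.mem
  -- two neighbours
  by_cases h2L : ∀ A, C.InL C.tv A → Same A a.1.1
  · have hom : C.Om a.1.1 := ⟨ha.1, fun s hs => h2L _ ((ha.cj s).same (Same.refl _) (C.fix s hs).symm)⟩
    obtain ⟨B, hB, hBt, hBa⟩ := C.exists_third hom (ha.not_same C.red)
    exact hBa (h2L B ⟨hB.1, Ctx.om_t.orth hB hBt⟩)
  push Not at h2L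
  obtain ⟨b, hb, hab⟩ := h2L
  obtain ⟨b, rfl⟩ := hb.1.red.mem
  have hab0 : ip a.1.1 b.1.1 = 0 := (hcl _ _ ha hb).resolve_left fun h => hab h.symm
  by_cases h3L : ∀ A, C.InL C.tv A → Same A a.1.1 ∨ Same A b.1.1
  · refine C.planar ha hb hab0 (fun A hA => ?_) (fun A hA => ?_)
    · rcases h3L A hA with (h | h) | (h | h) <;> rw [h]
      exacts [Submodule.subset_span (Or.inl rfl), neg_mem (Submodule.subset_span (Or.inl rfl)),
        Submodule.subset_span (Or.inr rfl), neg_mem (Submodule.subset_span (Or.inr rfl))]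
    · rcases h3L A hA with h | h
      · exact ⟨_, hb, ip_same_zero h hab0⟩
      · exact ⟨_, ha, ip_same_zero h (by rw [ip_comm]; exact hab0)⟩
  push Not at h3L
  obtain ⟨c, hc, hac, hbc⟩ := h3L
  obtain ⟨c, rfl⟩ := hc.1.red.mem
  have hac0 : ip a.1.1 c.1.1 = 0 := (hcl _ _ ha hc).resolve_left fun h => hac h.symm
  have hbc0 : ip b.1.1 c.1.1 = 0 := (hcl _ _ hb hc).resolve_left fun h => hbc h.symm
  have hta : ip C.t.1.1 a.1.1 = 0 := ha.2
  have htb : ip C.t.1.1 b.1.1 = 0 := hb.2
  have htc : ip C.t.1.1 c.1.1 = 0 := hc.2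
  obtain ⟨hq, hqt, hqa, hqb, hqc⟩ :=
    C.hP.prod_four C.red ha.1.red hb.1.red hc.1.red hta htb htc hab0 hac0 hbc0
  set q := C.t * a * b * c with hqdef
  by_cases h4L : ∀ A, C.InL C.tv A → Same A a.1.1 ∨ Same A b.1.1 ∨ Same A c.1.1
  · have hsymm : ∀ {A : M4}, ip C.t.1.1 A = 0 → ip A C.t.1.1 = 0 := fun h => by rwa [ip_comm]
    refine C.iso_perp hq (fun h => ?_) hqt (fun A hA => ?_) (fun d hd _ => ?_)
    · rcases h4L q.1.1 ⟨h, by rw [ip_comm]; exact hqt⟩ with e | e | e
      all_goals
        have h0 := ip_same_zero e (show ip _ q.1.1 = 0 by rw [ip_comm]; first | exact hqa | exact hqb | exact hqc)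
        rw [hq.ip_self C.hP] at h0
        exact one_ne_zero h0
    · rw [ip_comm]
      rcases h4L A hA with e | e | e <;> refine ip_same_zero e ?_ <;> rw [ip_comm]
      exacts [hqa, hqb, hqc]
    · have hli : ∀ v : Fin 4 → M4, (∀ i, Red P (v i)) → (∀ i j, i ≠ j → ip (v i) (v j) = 0) →
          LinearIndependent F v := fun v hv ho => linearIndependent_of_orth (fun i => (hv i).ip_self C.hP) ho
      have main : ∀ (u v : P), C.InL C.tv u.1.1 → C.InL C.tv v.1.1 → ip d.1.1 u.1.1 = 0 → ip d.1.1 v.1.1 = 0 →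
          ip u.1.1 v.1.1 = 0 → ∃ a b, C.InL C.tv a ∧ C.InL d.1.1 a ∧ C.InL C.tv b ∧ C.InL d.1.1 b ∧
            LinearIndependent F ![C.tv, d.1.1, a, b] := by
        intro u v hu hv hdu hdv huv
        refine ⟨u.1.1, v.1.1, hu, ⟨hu.1, hdu⟩, hv, ⟨hv.1, hdv⟩, hli _ (fun i => ?_) (fun i j hij => ?_)⟩
        · fin_cases i
          exacts [C.red, hd.1.red, hu.1.red, hv.1.red]
        · fin_cases i <;> fin_cases j <;> first
            | exact absurd rfl hij
            | simp [hd.2, hu.2, hv.2, hdu, hdv, huv, ip_comm d.1.1 C.tv, ip_comm u.1.1, ip_comm v.1.1]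
      rcases h4L _ hd with e | e | e
      · exact main b c hb hc (ip_same_zero e hab0) (ip_same_zero e hac0) hbc0
      · exact main a c ha hc (ip_same_zero e (by rw [ip_comm]; exact hab0)) (ip_same_zero e hbc0) hac0
      · exact main a b ha hb (ip_same_zero e (by rw [ip_comm]; exact hac0))
          (ip_same_zero e (by rw [ip_comm]; exact hbc0)) hab0
  push Not at h4L
  obtain ⟨d, hd, had, hbd, hcd⟩ := h4L
  -- the five lines
  let v : Fin 5 → M4 := ![C.tv, a.1.1, b.1.1, c.1.1, d]
  have hvphi : ∀ i, C.InPhi (v i) := by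
    intro i
    fin_cases i
    exacts [Or.inl (Same.refl _), Or.inr ha, Or.inr hb, Or.inr hc, Or.inr hd]
  have horth : ∀ A B, C.InPhi A → C.InPhi B → ¬ Same A B → ip A B = 0 := by
    rintro A B (hA | hA) (hB | hB) hne
    · exact absurd (hA.trans hB.symm) hne
    · exact ip_same_zero hA hB.2
    · rw [ip_comm]; exact ip_same_zero hB hA.2
    · exact (hcl A B hA hB).resolve_left hne
  have hv0 : ∀ i j, i ≠ j → ¬ Same (v i) (v j) := by
    have hn : ∀ {A}, C.InL C.tv A → ¬ Same A C.tv := fun h => h.not_same C.red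
    intro i j hij
    fin_cases i <;> fin_cases j <;> first
      | exact absurd rfl hij
      | exact fun e => hn ha e.symm
      | exact fun e => hn hb e.symm
      | exact fun e => hn hc e.symm
      | exact fun e => hn hd e.symm
      | exact hn ha
      | exact hn hb
      | exact hn hc
      | exact hn hd
      | exact fun e => hab e.symm
      | exact fun e => hac e.symm
      | exact fun e => hbc e.symm
      | exact fun e => had e.symm
      | exact fun e => hbd e.symm
      | exact fun e => hcd e.symm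
      | exact hab
      | exact hac
      | exact hbc
      | exact had
      | exact hbd
      | exact hcd
  have hli : LinearIndependent F v := linearIndependent_of_orth
    (fun i => (hvphi i).inCl.red.ip_self C.hP) (fun i j hij => horth _ _ (hvphi i) (hvphi j) (hv0 i j hij))
  have hspan : Submodule.span F (Set.range v) = (W5s : Submodule F M4) := by
    refine Submodule.eq_of_le_of_finrank_eq ?_ (by rw [finrank_span_eq_card hli, finrank_W5s, Fintype.card_fin])
    rw [Submodule.span_le]
    rintro _ ⟨i, rfl⟩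
    exact (hvphi i).inCl.red.w5
  -- the stars of the members coincide
  have hstar : ∀ A, C.InPhi A → ∀ B, C.InL A B → C.InPhi B := by
    rintro A (hA | hA) B hB
    · exact Or.inr (hB.same (Same.refl B) hA.symm)
    · exact inPhi_of_dom hA (fun A' hA' => (hcl A' A hA' hA).imp id fun h => by rwa [ip_comm]) hB
  let Keep : P → Prop := fun g => ∀ A, C.InPhi A → C.InPhi (Sp4Odd.cj g A)
  -- a non-central element diagonal on a translate and fixing the base line keeps the five lines
  have key : ∀ (x g : P), x ∉ pm P → (∀ A, C.InPhi A → Same (Sp4Odd.cj x (Sp4Odd.cj g A)) (Sp4Odd.cj g A)) →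
      Same (Sp4Odd.cj x C.tv) C.tv → Keep g := by
    intro x g hx hdiag hxt
    by_cases hin : C.InPhi (Sp4Odd.cj g⁻¹ C.tv)
    · intro A hA
      by_cases e : Same A (Sp4Odd.cj g⁻¹ C.tv)
      · refine Or.inl ?_
        have := Same.cj g e
        rwa [cj_cj_inv] at this
      · refine Or.inr ⟨hA.inCl.cj g, ?_⟩
        rw [ip_comm, ← cj_cj_inv g C.tv, ip_cj]
        exact horth _ _ hA hin e
    · exfalso
      have hne : ∀ i, ip C.tv (Sp4Odd.cj g (v i)) ≠ 0 := fun i h => by
        refine hin (hstar _ (hvphi i) _ ⟨inCl_t.cj g⁻¹, ?_⟩)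
        rw [← ip_cj g, cj_cj_inv, ip_comm]; exact h
      obtain ⟨ε, hε, hεt⟩ : ∃ ε : F, (ε = 1 ∨ ε = -1) ∧ Sp4Odd.cj x C.tv = ε • C.tv := by
        rcases hxt with h | h
        exacts [⟨1, Or.inl rfl, by rw [h, one_smul]⟩, ⟨-1, Or.inr rfl, by rw [h, neg_one_smul]⟩]
      have hsame : ∀ i, Sp4Odd.cj x (Sp4Odd.cj g (v i)) = ε • Sp4Odd.cj g (v i) := by
        intro i
        obtain ⟨δ, hδ, hδe⟩ : ∃ δ : F, (δ = 1 ∨ δ = -1) ∧
            Sp4Odd.cj x (Sp4Odd.cj g (v i)) = δ • Sp4Odd.cj g (v i) := by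
          rcases hdiag _ (hvphi i) with h | h
          exacts [⟨1, Or.inl rfl, by rw [h, one_smul]⟩, ⟨-1, Or.inr rfl, by rw [h, neg_one_smul]⟩]
        have h0 := ip_cj x C.tv (Sp4Odd.cj g (v i))
        rw [hεt, hδe, ip_smul_left, ip_smul_right, ← mul_assoc] at h0
        have h1 : ε * δ = 1 := mul_right_cancel₀ (hne i) (h0.trans (one_mul _).symm)
        rw [hδe]
        rcases hε with rfl | rfl <;> rcases hδ with rfl | rfl
        · rfl
        · exact absurd h1 (fun e => h2 (by linear_combination -e))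
        · exact absurd h1 (fun e => h2 (by linear_combination -e))
        · rfl
      have hall : ∀ A, W5 A → Sp4Odd.cj x A = ε • A := by
        intro A hA
        have hB : Sp4Odd.cj g⁻¹ A ∈ Submodule.span F (Set.range v) := by
          rw [hspan]; exact C.hP.W5_cj g⁻¹ hA
        have key' : ∀ B ∈ Submodule.span F (Set.range v),
            Sp4Odd.cj x (Sp4Odd.cj g B) = ε • Sp4Odd.cj g B := by
          intro B hB
          induction hB using Submodule.span_induction with
          | mem B hB => obtain ⟨i, rfl⟩ := hB; exact hsame i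
          | zero => simp [Sp4Odd.cj]
          | add B D _ _ e1 e2 => rw [cj_add, cj_add, e1, e2, smul_add]
          | smul r B _ e1 => rw [cj_smul, cj_smul, e1, smul_comm]
        have := key' _ hB
        rwa [cj_cj_inv] at this
      rcases hε with rfl | rfl
      · refine hx ?_
        have h1 : Same x.1.1 ((1 : P).1.1) :=
          same_of_cj C.hP fun A hA => by rw [hall A hA, one_smul, cj_one]
        rcases h1 with h | h
        · exact Or.inl (Units.ext h)
        · exact Or.inr (Units.ext (by rw [h]; simp))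
      · -- the product of four of the lines is a vector of the space
        have eq : ∀ u : P, Red P u.1.1 → x * u * x⁻¹ = C.hP.negOne * u := fun u hu =>
          Subtype.ext (Units.ext (by rw [← cj_coe, hall _ hu.w5, neg_one_smul]; simp [Hyp.negOne]))
        have hn2 : C.hP.negOne * C.hP.negOne = 1 := Subtype.ext (by simp [Hyp.negOne])
        have nc : ∀ y : P, y * C.hP.negOne = C.hP.negOne * y := pm_comm (Or.inr rfl)
        have h1 := eq q hq
        rw [show x * q * x⁻¹ = (x * C.t * x⁻¹) * (x * a * x⁻¹) * (x * b * x⁻¹) * (x * c * x⁻¹) by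
          rw [hqdef]; group, eq _ C.red, eq _ ha.1.red, eq _ hb.1.red, eq _ hc.1.red] at h1
        generalize hn : C.hP.negOne = n at h1 hn2 nc
        have h3 : n * C.t * (n * a) * (n * b) * (n * c) = q := by
          calc n * C.t * (n * a) * (n * b) * (n * c) = n * (C.t * n) * a * (n * b) * (n * c) := by group
            _ = C.t * a * (n * b) * (n * c) := by rw [nc, ← mul_assoc n n, hn2, one_mul]
            _ = C.t * a * n * b * (n * c) := by group
            _ = n * (C.t * a * b * n) * c := by rw [nc (C.t * a)]; group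
            _ = q := by rw [nc (C.t * a * b), ← mul_assoc n n, hn2, one_mul]
        rw [h3] at h1
        have h4 : n = 1 := mul_right_cancel (b := q) (by rw [one_mul]; exact h1.symm)
        rw [← hn] at h4
        exact one_ne_zero4 (two_ne_mat h2 (show (1 : M4) = -1 by
          simpa [Hyp.negOne] using (congrArg (fun y : P => y.1.1) h4).symm))
  have hKinv : ∀ {g : P}, Keep g → Keep g⁻¹ := by
    intro g hg A hA
    have himg : Sp4Odd.cj g '' {B : M4 | C.InPhi B} = {B : M4 | C.InPhi B} :=
      Set.eq_of_subset_of_ncard_le (by rintro _ ⟨B, hB, rfl⟩; exact hg B hB)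
        (le_of_eq (Set.ncard_image_of_injective _ fun _ _ e => cj_inj g e).symm)
    have hsurj : A ∈ Sp4Odd.cj g '' {B : M4 | C.InPhi B} := by rw [himg]; exact hA
    obtain ⟨B, hB, rfl⟩ := hsurj
    rw [cj_inv_cj]; exact hB
  let H : Subgroup P :=
    { carrier := {g | Keep g}
      one_mem' := fun A hA => by rw [cj_one]; exact hA
      mul_mem' := fun {x y} hx hy A hA => by rw [cj_mul]; exact hx _ (hy A hA)
      inv_mem' := fun {x} hx => hKinv hx }
  let H0 : Subgroup P :=
    { carrier := {g | ∀ A, C.InPhi A → Same (Sp4Odd.cj g A) A}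
      one_mem' := fun A _ => by rw [cj_one]; exact Same.refl A
      mul_mem' := fun {x y} hx hy A hA => by rw [cj_mul]; exact (Same.cj x (hy A hA)).trans (hx A hA)
      inv_mem' := fun {x} hx A hA => by
        have := Same.cj x⁻¹ (hx A hA)
        rw [cj_inv_cj] at this
        exact this.symm }
  have mem_H : ∀ {g : P}, g ∈ H ↔ Keep g := Iff.rfl
  have mem_H0 : ∀ {g : P}, g ∈ H0 ↔ ∀ A, C.InPhi A → Same (Sp4Odd.cj g A) A := Iff.rfl
  have hH0H : H0 ≤ H := fun g hg A hA => hA.same (hg A hA)
  have hcpmH : cpm P C.tv ≤ H := by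
    rintro g hg A (hA | hA)
    · exact Or.inl ((Same.cj g hA).trans hg)
    · exact Or.inr ((hA.cj g).same (Same.refl _) (Same.symm hg))
  have hnorm : ∀ g ∈ H, ∀ x ∈ H0, g * x * g⁻¹ ∈ H0 := by
    intro g hg x hx A hA
    rw [cj_mul, cj_mul]
    have := Same.cj g (hx _ (hKinv (g := g) hg A hA))
    rwa [cj_cj_inv] at this
  have hred : ∀ u : P, C.InPhi u.1.1 → u ∈ H0 := by
    intro u hu A hA
    by_cases e : Same A u.1.1
    · rcases e with rfl | rfl
      · exact Or.inl ((cj_eq_iff u _).2 rfl)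
      · exact Or.inl (by rw [cj_neg, (cj_eq_iff u u.1.1).2 rfl])
    · right
      rw [cj_red C.hP hu.inCl.red hA.inCl.red.w5, horth _ _ hu hA (fun h => e h.symm), mul_zero, zero_smul,
        zero_sub]
  have hsq : ∀ x ∈ H0, x * x ∈ pm P := by
    intro x hx
    have h1 : Same (x * x).1.1 (1 : P).1.1 := same_of_cj C.hP fun A hA => by
      rw [cj_one]
      have hB : A ∈ Submodule.span F (Set.range v) := by rw [hspan]; exact hA
      induction hB using Submodule.span_induction with
      | mem B hB =>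
        obtain ⟨i, rfl⟩ := hB
        rw [cj_mul]
        rcases hx _ (hvphi i) with h | h <;> rw [h]
        · exact h
        · rw [cj_neg, h, neg_neg]
      | zero => simp [Sp4Odd.cj]
      | add B D _ _ e1 e2 =>
        have hB : W5 B := mem_W5s.1 (hspan ▸ ‹B ∈ Submodule.span F (Set.range v)›)
        have hD : W5 D := mem_W5s.1 (hspan ▸ ‹D ∈ Submodule.span F (Set.range v)›)
        rw [cj_add, e1 hB, e2 hD]
      | smul r B _ e1 =>
        have hB : W5 B := mem_W5s.1 (hspan ▸ ‹B ∈ Submodule.span F (Set.range v)›)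
        rw [cj_smul, e1 hB]
    rcases h1 with h | h
    · exact Or.inl (Units.ext h)
    · exact Or.inr (Units.ext (by rw [h]; simp))
  have hp0 : IsPGroup 2 H0 := by
    intro y
    refine ⟨2, Subtype.ext ?_⟩
    rw [Subgroup.coe_pow, Subgroup.coe_one, show (y : P) ^ 2 ^ 2 = y.1 * y.1 * (y.1 * y.1) by
      simp [pow_succ, mul_assoc]]
    rcases hsq _ y.2 with h | h <;> exact Subtype.ext (by rw [Subgroup.coe_mul, h]; simp)
  have hH0T : H0 ≤ (C.T : Subgroup P) := by
    have hn : H0 ≤ Subgroup.normalizer ((C.T : Subgroup P) : Set P) → H0 ≤ (C.T : Subgroup P) := fun h x hx =>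
      mem_of_normalize C.T ((hp0.to_le (Subgroup.zpowers_le.2 hx))) (h hx)
    obtain ⟨k, hk, hkT⟩ := C.fix.conj_into hp0 (fun g hg => hg C.tv (Or.inl (Same.refl _)))
    intro x hx
    have := hnorm k⁻¹ (inv_mem (hcpmH hk)) x hx
    have h' := hkT _ this
    rwa [show k * (k⁻¹ * x * k⁻¹⁻¹) * k⁻¹ = x by group] at h'
  haveI := C.hP.simpleQ
  set π := QuotientGroup.mk' (pm P) with hπ
  haveI : Fact (Nat.Prime 2) := ⟨Nat.prime_two⟩
  let S : Sylow 2 (P ⧸ pm P) := C.T.mapSurjective (QuotientGroup.mk'_surjective (pm P))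
  have hS : (S : Subgroup (P ⧸ pm P)) = (C.T : Subgroup P).map π := rfl
  have hpm : ∀ x ∈ pm P, x ∈ H0 := by
    intro x hx A _
    left
    rw [cj_eq_iff]
    rcases hx with h | h <;> simp [h]
  have mem_lift : ∀ {w : P}, π w ∈ H0.map π → w ∈ H0 := by
    intro w hw
    obtain ⟨y, hy, e⟩ := Subgroup.mem_map.1 hw
    have h' : y⁻¹ * w ∈ pm P := QuotientGroup.eq.1 e
    have := mul_mem hy (hpm _ h')
    rwa [mul_inv_cancel_left] at this
  have mem_liftT : ∀ {w : P}, π w ∈ (S : Subgroup (P ⧸ pm P)) → w ∈ (C.T : Subgroup P) := by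
    intro w hw
    rw [hS] at hw
    obtain ⟨y, hy, e⟩ := Subgroup.mem_map.1 hw
    have h' : y⁻¹ * w ∈ pm P := QuotientGroup.eq.1 e
    have := mul_mem hy (hH0T (hpm _ h'))
    rwa [mul_inv_cancel_left] at this
  have hdiag : ∀ (g x : P), x ∈ H0 → ∀ A, C.InPhi A →
      Same (Sp4Odd.cj (g * x * g⁻¹) (Sp4Odd.cj g A)) (Sp4Odd.cj g A) := fun g x hx A hA => by
    rw [cj_mul, cj_inv_cj, cj_mul]
    exact Same.cj g (hx A hA)
  -- strong closure
  have hsc : Cfsg.IsStronglyClosed (H0.map π) (S : Subgroup (P ⧸ pm P)) := by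
    refine ⟨by rw [hS]; exact Subgroup.map_mono hH0T, ?_⟩
    intro y hy h hh
    obtain ⟨x, hx, rfl⟩ := Subgroup.mem_map.1 hy
    obtain ⟨g, rfl⟩ := QuotientGroup.mk'_surjective _ h
    change π g * π x * (π g)⁻¹ ∈ _ at hh ⊢
    rw [← map_inv, ← map_mul, ← map_mul] at hh ⊢
    refine Subgroup.mem_map_of_mem _ ?_
    by_cases hxp : g * x * g⁻¹ ∈ pm P
    · exact hpm _ hxp
    exact hnorm g (key _ g hxp (hdiag g x hx) (C.fix _ (mem_liftT hh))) x hx
  have hcomm : IsMulCommutative (H0.map π) := by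
    refine ⟨⟨fun y z => Subtype.ext ?_⟩⟩
    obtain ⟨x, hx, ey⟩ := Subgroup.mem_map.1 y.2
    obtain ⟨w, hw, ez⟩ := Subgroup.mem_map.1 z.2
    show (y : P ⧸ pm P) * z = z * y
    rw [← ey, ← ez]
    have hs : Same (x * w).1.1 (w * x).1.1 := same_of_cj C.hP fun A hA => by
      have hB : A ∈ Submodule.span F (Set.range v) := by rw [hspan]; exact hA
      induction hB using Submodule.span_induction with
      | mem B hB =>
        obtain ⟨i, rfl⟩ := hB
        rw [cj_mul, cj_mul]
        rcases hx _ (hvphi i) with h | h <;> rcases hw _ (hvphi i) with h' | h' <;>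
          simp only [h, h', cj_neg]
      | zero => simp [Sp4Odd.cj]
      | add B D _ _ e1 e2 =>
        have hB : W5 B := mem_W5s.1 (hspan ▸ ‹B ∈ Submodule.span F (Set.range v)›)
        have hD : W5 D := mem_W5s.1 (hspan ▸ ‹D ∈ Submodule.span F (Set.range v)›)
        rw [cj_add, cj_add, e1 hB, e2 hD]
      | smul r B _ e1 =>
        have hB : W5 B := mem_W5s.1 (hspan ▸ ‹B ∈ Submodule.span F (Set.range v)›)
        rw [cj_smul, cj_smul, e1 hB]
    rw [hπ, QuotientGroup.mk'_apply, QuotientGroup.mk'_apply, ← QuotientGroup.mk_mul, ← QuotientGroup.mk_mul,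
      mk_eq_mk_iff]
    exact hs
  have htH0 : C.t ∈ H0 := hred _ (Or.inl (Same.refl _))
  have htne : π C.t ≠ 1 := by
    rw [hπ, QuotientGroup.mk'_apply, Ne, QuotientGroup.eq_one_iff]
    exact C.red.not_mem_pm C.hP
  have hne : H0.map π ≠ ⊥ := fun e => htne (by
    have := Subgroup.mem_map_of_mem π htH0
    rwa [e, Subgroup.mem_bot] at this)
  -- a strongly embedded subgroup gives one class of involutions
  have finish : ∀ K : Subgroup (P ⧸ pm P), Cfsg.IsStronglyEmbedded K → False := by
    intro K hK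
    set z := C.t * a with hz
    have hz2 : z * z = C.hP.negOne := by
      refine Subtype.ext (Units.ext ?_)
      simp only [hz, Hyp.negOne, Subgroup.coe_mul, Units.val_mul, Units.val_neg, Units.val_one]
      rw [mul_assoc, ← mul_assoc a.1.1, (ha.1.red.w5.anticomm_iff h2 C.red.w5).2 (by rw [ip_comm]; exact hta),
        neg_mul, mul_neg, mul_assoc C.t.1.1 a.1.1, ha.1.red.sq, mul_one, C.red.sq]
    have hzn : z ∉ pm P := fun h => by
      refine ha.not_same C.red ?_
      rcases h with h | h
      · left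
        calc a.1.1 = C.t.1.1 * (C.t.1.1 * a.1.1) := by rw [← mul_assoc, C.red.sq, one_mul]
          _ = C.tv := by rw [← Units.val_mul, ← Subgroup.coe_mul, ← hz, h]; simp
      · right
        calc a.1.1 = C.t.1.1 * (C.t.1.1 * a.1.1) := by rw [← mul_assoc, C.red.sq, one_mul]
          _ = -C.tv := by rw [← Units.val_mul, ← Subgroup.coe_mul, ← hz, h]; simp
    obtain ⟨g, hg⟩ := isConj_of_stronglyEmbedded hK
      (orderOf_mk_two (C.red.not_mem_pm C.hP) (by rw [C.red.sq']; exact one_mem _))
      (orderOf_mk_two hzn (by rw [hz2]; exact Or.inr rfl))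
    obtain ⟨g, rfl⟩ := QuotientGroup.mk'_surjective _ g
    rw [QuotientGroup.mk'_apply, ← QuotientGroup.mk_inv, ← QuotientGroup.mk_mul, ← QuotientGroup.mk_mul,
      mk_eq_mk_iff] at hg
    have hr : Red P (g * C.t * g⁻¹).1.1 := by rw [← cj_coe]; exact C.red.cj C.hP g
    have hzz : z.1.1 * z.1.1 = 1 := by
      rcases hg with h | h <;> rw [← hr.sq, h] <;> simp
    have h5 := congrArg (fun y : P => y.1.1) hz2
    simp only [Subgroup.coe_mul, Units.val_mul] at h5
    rw [hzz] at h5
    exact one_ne_zero4 (two_ne_mat h2 (h5.trans (by simp [Hyp.negOne])))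
  rcases Cfsg.Agent.S1169.result S (H0.map π) hne hcomm hsc with hab' | ⟨K, hK⟩
  swap
  · exact finish K hK
  -- the abelian case: the stabiliser of the five lines is strongly embedded
  have hT0 : (C.T : Subgroup P) ≤ H0 := by
    intro s hs A hA
    obtain ⟨u, rfl⟩ := hA.inCl.red.mem
    have hu := hred u hA
    have h1 := hab'.is_comm.comm ⟨π s, by rw [hS]; exact Subgroup.mem_map_of_mem _ hs⟩
      ⟨π u, by rw [hS]; exact Subgroup.mem_map_of_mem _ (hH0T hu)⟩
    exact (comm_mk_iff s u).1 (congrArg Subtype.val h1)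
  have two_mem : ∀ x ∈ H, IsPGroup 2 (Subgroup.zpowers x) → x ∈ H0 := by
    intro x hx hp
    refine hT0 (mem_of_normalize C.T hp ?_)
    refine mem_normalizer_of_conj _ fun s hs => hH0T (hnorm x hx s (hT0 hs))
  have hKne : H.map π ≠ ⊤ := by
    intro e
    have htop : ∀ g : P, g ∈ H := by
      intro g
      obtain ⟨y, hy, ey⟩ := Subgroup.mem_map.1 (show π g ∈ H.map π by rw [e]; exact Subgroup.mem_top _)
      have h' : y⁻¹ * g ∈ pm P := QuotientGroup.eq.1 ey
      have := mul_mem hy (hH0H (hpm _ h'))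
      rwa [mul_inv_cancel_left] at this
    have hN : H0.Normal := ⟨fun x hx g => hnorm g (htop g) x hx⟩
    rcases C.hP.simple' H0 hN with h | h
    · exact C.red.not_mem_pm C.hP (h htH0)
    · obtain ⟨p, q', hpq⟩ := C.hP.nonabelianQ
      obtain ⟨p, rfl⟩ := QuotientGroup.mk'_surjective _ p
      obtain ⟨q', rfl⟩ := QuotientGroup.mk'_surjective _ q'
      exact hpq (congrArg Subtype.val (hcomm.is_comm.comm
        ⟨π p, Subgroup.mem_map_of_mem _ (h ▸ Subgroup.mem_top p)⟩
        ⟨π q', Subgroup.mem_map_of_mem _ (h ▸ Subgroup.mem_top q')⟩))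
  have heven : Even (Nat.card (H.map π)) := by
    have := orderOf_dvd_natCard (⟨π C.t, Subgroup.mem_map_of_mem _ (hH0H htH0)⟩ : H.map π)
    rw [← Subgroup.orderOf_coe, show ((⟨π C.t, _⟩ : H.map π) : P ⧸ pm P) = π C.t from rfl,
      show π C.t = (C.t : P ⧸ pm P) from rfl,
      orderOf_mk_two (C.red.not_mem_pm C.hP) (by rw [C.red.sq']; exact one_mem _)] at this
    exact even_iff_two_dvd.2 this
  have liftH : ∀ y ∈ H.map π, orderOf y = 2 → ∃ x ∈ H0, π x = y ∧ x ∉ pm P := by
    intro y hy ho
    obtain ⟨x, hx, rfl⟩ := Subgroup.mem_map.1 hy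
    have hxn : x ∉ pm P := fun h => by
      rw [show π x = 1 from (QuotientGroup.eq_one_iff x).2 h, orderOf_one] at ho
      omega
    refine ⟨x, two_mem x hx ?_, rfl, hxn⟩
    have h' : x * x ∈ pm P := by
      have h1 := pow_orderOf_eq_one (π x)
      rw [ho, pow_two] at h1
      rw [← QuotientGroup.eq_one_iff, QuotientGroup.mk_mul]
      exact h1
    intro y
    obtain ⟨i, hi⟩ := Subgroup.mem_zpowers_iff.1 y.2
    refine ⟨2, Subtype.ext ?_⟩
    have h4 : x ^ 4 = 1 := by
      rw [show x ^ 4 = x * x * (x * x) by simp [pow_succ, mul_assoc]]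
      rcases mem_pm.1 h' with h | h <;> exact Subtype.ext (by rw [Subgroup.coe_mul, h]; simp)
    rw [Subgroup.coe_pow, ← hi, ← zpow_natCast, ← _root_.zpow_mul, mul_comm, _root_.zpow_mul]
    simp [h4]
  refine finish (H.map π) ((Cfsg.Agent.S0223.result (H.map π) hKne heven).2 ⟨?_, ?_⟩)
  · intro y hy ho w hw
    obtain ⟨x, hx, rfl, hxn⟩ := liftH y hy ho
    obtain ⟨g, rfl⟩ := QuotientGroup.mk'_surjective _ w
    refine Subgroup.mem_map_of_mem _ (key (g * x * g⁻¹) g ?_ (hdiag g x hx) ?_)
    · intro h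
      refine hxn ?_
      have := (inferInstance : (pm P).Normal).conj_mem _ h g⁻¹
      rwa [show g⁻¹ * (g * x * g⁻¹) * g⁻¹⁻¹ = x by group] at this
    · have hc : (g : P ⧸ pm P) * x = x * g := Subgroup.mem_centralizer_singleton_iff.1 hw
      have he : Same (g * x * g⁻¹).1.1 x.1.1 := by
        rw [← mk_eq_mk_iff, QuotientGroup.mk_mul, QuotientGroup.mk_mul, QuotientGroup.mk_inv, hc,
          mul_inv_cancel_right]
      rw [cj_of_same he]
      exact hx _ (Or.inl (Same.refl _))
  · intro y hy w hw hoy how hconj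
    obtain ⟨x, hx, rfl, hxn⟩ := liftH y hy hoy
    obtain ⟨x', hx', rfl, -⟩ := liftH w hw how
    obtain ⟨g, hg⟩ := isConj_iff.1 hconj
    obtain ⟨g, rfl⟩ := QuotientGroup.mk'_surjective _ g
    refine ⟨_, Subgroup.mem_map_of_mem _ (key (g * x * g⁻¹) g ?_ (hdiag g x hx) ?_), hg⟩
    · intro h
      refine hxn ?_
      have := (inferInstance : (pm P).Normal).conj_mem _ h g⁻¹
      rwa [show g⁻¹ * (g * x * g⁻¹) * g⁻¹⁻¹ = x by group] at this
    · have he : Same (g * x * g⁻¹).1.1 x'.1.1 := by
        rw [← mk_eq_mk_iff, QuotientGroup.mk_mul, QuotientGroup.mk_mul, QuotientGroup.mk_inv]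
        exact hg
      rw [cj_of_same he]
      exact hx' _ (Or.inl (Same.refl _))

end Ctx

end CfsgLib.Sp4Odd
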