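import Cfsg.Agent.Lib.Sp4Odd.Small
import Cfsg.Agent.Lib.Sp4Odd.Five

/-!
The five lines of a quaternion frame and the permutations induced on them.
-/

set_option autoImplicit false
set_option maxHeartbeats 400000

namespace CfsgLib.Sp4Odd

open Matrix Equiv

variable {F : Type*} [Field F]

local notation "M2" => Matrix (Fin 2) (Fin 2) F
local notation "M4" => Matrix (Fin 2) (Fin 2) (Matrix (Fin 2) (Fin 2) F)

/-- The five vectors of a frame. -/
def fvec (i j : Matrix (Fin 2) (Fin 2) F) : Fin 5 → Matrix (Fin 2) (Fin 2) (Matrix (Fin 2) (Fin 2) F) :=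
  ![tM, uM 1, uM i, uM j, uM (i * j)]

/-- The first translation on the five lines. -/
def permA : Perm (Fin 5) := Equiv.swap 1 2 * Equiv.swap 3 4

/-- The second translation on the five lines. -/
def permB : Perm (Fin 5) := Equiv.swap 1 3 * Equiv.swap 2 4

/-- A double transposition moving the base line. -/
def permQ : Perm (Fin 5) := Equiv.swap 0 2 * Equiv.swap 3 4

/-- The three-cycle on the imaginary lines. -/
def permC : Perm (Fin 5) := permQ * permB * permQ * permA * permB * permQ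

theorem permC_apply : permC 0 = 0 ∧ permC 1 = 1 ∧ permC 2 = 3 ∧ permC 3 = 4 ∧ permC 4 = 2 := by decide

theorem flip_conj : ∀ π : Perm (Fin 5), π 0 = 1 → π 1 = 0 →
    permQ = π * permA * π⁻¹ ∨ permQ = π * permB * π⁻¹ ∨ permQ = π * (permA * permB) * π⁻¹ := by
  decide +kernel

theorem flip_word : permA * permQ * permA * Equiv.swap 0 1 = Equiv.swap 3 4 := by decide

variable [Fintype F] {P : Subgroup (Matrix (Fin 2) (Fin 2) (Matrix (Fin 2) (Fin 2) F))ˣ} {C : Ctx P}

/-- The permutations of the five lines induced by the group. -/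
def realized (P : Subgroup (Matrix (Fin 2) (Fin 2) (Matrix (Fin 2) (Fin 2) F))ˣ)
    (i j : Matrix (Fin 2) (Fin 2) F) : Subgroup (Perm (Fin 5)) where
  carrier := {π | ∃ g : P, ∀ n, Same (cj g (fvec i j n)) (fvec i j (π n))}
  one_mem' := ⟨1, fun n => by rw [cj_one]; exact Same.refl _⟩
  mul_mem' := fun {π σ} ⟨g, hg⟩ ⟨h, hh⟩ => ⟨g * h, fun n => by
    rw [cj_mul]; exact (Same.cj g (hh n)).trans (hg (σ n))⟩
  inv_mem' := fun {π} ⟨g, hg⟩ => ⟨g⁻¹, fun n => by
    have h := Same.cj g⁻¹ (hg (π⁻¹ n))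
    rw [cj_inv_cj, show π (π⁻¹ n) = n from π.apply_symm_apply n] at h
    exact h.symm⟩

namespace Quat

variable {i j : Matrix (Fin 2) (Fin 2) F} (hQ : Quat C i j)
include hQ

theorem det_i : i.det = 1 := (C.hP.in0_det hQ.ki).1

theorem det_j : j.det = 1 := (C.hP.in0_det hQ.kj).1

theorem ii : i * i = -1 := mul_self_of_trace hQ.ti hQ.det_i

theorem jj : j * j = -1 := mul_self_of_trace hQ.tj hQ.det_j

theorem kk : In0 P (i * j) 1 := by
  have := hQ.ki.mul hQ.kj
  rwa [mul_one] at this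

theorem det_k : (i * j).det = 1 := (C.hP.in0_det hQ.kk).1

theorem tk : (i * j).trace = 0 := by
  have h := congrArg Matrix.trace hQ.anti
  rw [trace_neg, trace_mul_comm j i] at h
  exact (mul_eq_zero.1 (show (2 : F) * (i * j).trace = 0 by linear_combination h)).resolve_left C.hP.two_ne

/-- The three imaginary units are lines of the class orthogonal to the base line. -/
theorem line {y : M2} (hy : In0 P y 1) (ht : y.trace = 0) : In0 P y y.adjugate := by
  have := hy.mul (hQ.norm.in0_swap (C.hP.in0_adj hy))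
  rwa [adjugate_one, mul_one, one_mul] at this

theorem inL_fvec {n : Fin 5} (hn : n ≠ 0) : C.InL C.tv (fvec i j n) := by
  refine hQ.norm.inL_iff.2 ?_
  fin_cases n
  · exact absurd rfl hn
  · exact ⟨1, by simpa using (In0.one : In0 P (1 : M2) 1), rfl⟩
  · exact ⟨i, hQ.line hQ.ki hQ.ti, rfl⟩
  · exact ⟨j, hQ.line hQ.kj hQ.tj, rfl⟩
  · exact ⟨i * j, hQ.line hQ.kk hQ.tk, rfl⟩

theorem permA_mem : permA ∈ realized P i j := by
  obtain ⟨g, hg⟩ := hQ.ki
  refine ⟨g, fun n => ?_⟩
  have e : ∀ m : M2, cj g (uM m) = uM (i * m) := fun m => by rw [C.hP.cj_uM hg, adjugate_one, mul_one]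
  fin_cases n
  · exact Or.inl (C.hP.cj_tM hg)
  · exact Or.inl (show cj g (uM 1) = uM i by rw [e, mul_one])
  · exact Or.inr (show cj g (uM i) = -uM 1 by rw [e, hQ.ii, uM_neg])
  · exact Or.inl (show cj g (uM j) = uM (i * j) from e j)
  · exact Or.inr (show cj g (uM (i * j)) = -uM j by rw [e, ← mul_assoc, hQ.ii, neg_mul, one_mul, uM_neg])

theorem permB_mem : permB ∈ realized P i j := by
  obtain ⟨g, hg⟩ := hQ.kj
  refine ⟨g, fun n => ?_⟩
  have e : ∀ m : M2, cj g (uM m) = uM (j * m) := fun m => by rw [C.hP.cj_uM hg, adjugate_one, mul_one]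
  fin_cases n
  · exact Or.inl (C.hP.cj_tM hg)
  · exact Or.inl (show cj g (uM 1) = uM j by rw [e, mul_one])
  · exact Or.inr (show cj g (uM i) = -uM (i * j) by rw [e, hQ.anti, uM_neg])
  · exact Or.inr (show cj g (uM j) = -uM 1 by rw [e, hQ.jj, uM_neg])
  · exact Or.inl (show cj g (uM (i * j)) = uM i by
      rw [e, ← mul_assoc, hQ.anti, neg_mul, mul_assoc, hQ.jj, mul_neg, mul_one, neg_neg])

/-- An element fixing the base line and the swap line is diagonal on the imaginary lines. -/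
theorem diag_of_fix {g : P} (ht : Same (cj g (tM : M4)) tM) (hu : Same (cj g (uM (1 : M2))) (uM 1)) :
    ∃ a : M2, In0 P a a ∧ ∀ y : M2, y.trace = 0 → Same (cj g (uM y)) (uM (a * y * a.adjugate)) := by
  obtain ⟨u, huv⟩ := hQ.norm.swap_red.mem
  obtain ⟨a, b, hab, e⟩ := hQ.norm.cpm_cases ht
  obtain ⟨h, hh⟩ := hab
  have huu : ∀ y : M2, cj u (uM y) = uM y.adjugate := fun y => by
    have hi : (u.1⁻¹).1 = uM (1 : M2) := Units.inv_eq_of_mul_eq_one_right (by rw [huv, uM_sq det_one])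
    rw [cj, huv, hi, uM_eq, uM_eq, adjugate_one]
    simp [Matrix.mul_fin_two, adj_adj, uM_eq]
  have key : ∀ y : M2, y.trace = 0 ∨ y = 1 → Same (cj g (uM y)) (cj h (uM y)) := by
    intro y hy
    rcases e with e | e
    · exact Or.inl (by rw [show g = h from Subtype.ext (Units.ext (e.trans hh.symm))])
    · rw [show g = h * u from Subtype.ext (Units.ext (by rw [Subgroup.coe_mul, Units.val_mul, e, hh, huv])), cj_mul,
        huu]
      rcases hy with hy | rfl
      · rw [adj_eq_of_trace hy, uM_neg, cj_neg]; exact Or.inr rfl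
      · rw [adjugate_one]; exact Same.refl _
  have h1 := (key 1 (Or.inr rfl)).symm.trans hu
  rw [C.hP.cj_uM hh, mul_one, same_uM] at h1
  obtain ⟨had, hbd⟩ := C.hP.in0_det ⟨h, hh⟩
  refine ⟨a, ?_, fun y hy => (key y (Or.inl hy)).trans ?_⟩
  · rcases h1 with h1 | h1
    · have : b = a := by
        calc b = a * b.adjugate * b := by rw [h1, one_mul]
          _ = a := by rw [mul_assoc, (adj_inv hbd).2, mul_one]
      rw [this] at hh; exact ⟨h, hh⟩
    · have : b = -a := by
        calc b = -(a * b.adjugate) * b := by rw [h1, neg_neg, one_mul]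
          _ = -a := by rw [neg_mul, mul_assoc, (adj_inv hbd).2, mul_one]
      rw [this] at hh
      have := hQ.norm.in0_neg_right ⟨h, hh⟩
      rwa [neg_neg] at this
  · rw [C.hP.cj_uM hh, same_uM]
    rcases h1 with h1 | h1
    · left
      have : b.adjugate = a.adjugate := by
        calc b.adjugate = a.adjugate * (a * b.adjugate) := by rw [← mul_assoc, (adj_inv had).2, one_mul]
          _ = a.adjugate := by rw [h1, mul_one]
      rw [this]
    · right
      have : b.adjugate = -a.adjugate := by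
        calc b.adjugate = a.adjugate * (a * b.adjugate) := by rw [← mul_assoc, (adj_inv had).2, one_mul]
          _ = -a.adjugate := by rw [h1, mul_neg, mul_one]
      rw [this, mul_neg]

/-- An element exchanging the base line and the swap line, if the centraliser is transitive on the neighbours. -/
theorem exists_flip (htrans : ∀ m, In0 P m m.adjugate → ∃ a b : M2, In0 P a b ∧ a * b.adjugate = m) :
    ∃ g : P, cj g (tM : M4) = uM 1 ∧ cj g (uM (1 : M2)) = tM := by
  obtain ⟨g, hg⟩ := hQ.norm.swap.1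
  have ht : C.InL C.tv (cj g⁻¹ C.tv) := by
    refine ⟨Ctx.inCl_t.cj g⁻¹, ?_⟩
    rw [← ip_cj g, cj_cj_inv, ← hg, ip_comm, hQ.norm.base]
    exact hQ.norm.swap.2
  obtain ⟨m, hm, e⟩ := hQ.norm.inL_eq ht
  obtain ⟨a, b, ⟨h, hh⟩, hab⟩ := htrans m hm
  refine ⟨g * h, ?_, ?_⟩
  · rw [cj_mul, C.hP.cj_tM hh, ← hQ.norm.base]; exact hg.symm
  · rw [cj_mul, C.hP.cj_uM hh, mul_one, hab, ← e, cj_cj_inv, hQ.norm.base]

/-- The imaginary neighbours go to imaginary neighbours under a flip. -/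
theorem flip_imag {g : P} (hgt : cj g (tM : M4) = uM 1) (hgu : cj g (uM (1 : M2)) = tM) {y : M2}
    (hy : In0 P y y.adjugate) (ht : y.trace = 0) :
    ∃ y' : M2, In0 P y' y'.adjugate ∧ y'.trace = 0 ∧ cj g (uM y) = uM y' := by
  have hy' : C.InL C.tv (uM y) := hQ.norm.inL_iff.2 ⟨y, hy, rfl⟩
  have h : C.InL C.tv (cj g (uM y)) := by
    refine ⟨hy'.1.cj g, ?_⟩
    rw [hQ.norm.base, ← hgu, ip_cj, C.hP.ip_one_uM, ht, zero_div]
  obtain ⟨y', hy'', e⟩ := hQ.norm.inL_eq h
  refine ⟨y', hy'', ?_, e⟩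
  have h2 := hy'.2
  rw [hQ.norm.base, ← ip_cj g, hgt, e, C.hP.ip_one_uM] at h2
  exact (div_eq_zero_iff.1 h2).resolve_right C.hP.two_ne

theorem fvec_inj {m n : Fin 5} (h : Same (fvec i j m) (fvec i j n)) : m = n := by
  by_contra hne
  have h2 := C.hP.two_ne
  have hd : ∀ y : M2, y.det = 1 → y ≠ 0 := fun y hy e => by rw [e, det_zero] at hy; exact zero_ne_one hy
  have e0 : ∀ y : M2, ¬ Same (tM : M4) (uM y) := fun y e => by
    have := (Ctx.ip_same_zero e (show ip (uM y) (tM : M4) = 0 by rw [ip_comm, uM, ip_tM_wv h2]))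
    rw [← hQ.norm.base, C.red.ip_self C.hP] at this
    exact one_ne_zero this
  have e1 : ∀ y z : M2, y.det = 1 → z.det = 1 → (y * z.adjugate).trace = 0 → ¬ Same (uM y) (uM z) := by
    intro y z hy hz ht e
    rw [same_uM] at e
    have h1 : (1 : M2).trace = 0 := by
      rcases e with rfl | rfl
      · rwa [(adj_inv hz).1] at ht
      · rwa [neg_mul, (adj_inv hz).1, trace_neg, neg_eq_zero] at ht
    rw [trace_one2] at h1
    exact h2 h1
  have di := hQ.det_i
  have dj := hQ.det_j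
  have dk := hQ.det_k
  have t1 : ∀ y : M2, y.trace = 0 → ((1 : M2) * y.adjugate).trace = 0 := fun y hy => by rw [one_mul, trace_adj, hy]
  have t2 : ((i : M2) * j.adjugate).trace = 0 := by rw [adj_eq_of_trace hQ.tj, mul_neg, trace_neg, hQ.tk, neg_zero]
  have t3 : ((i : M2) * (i * j).adjugate).trace = 0 := by
    rw [adj_eq_of_trace hQ.tk, mul_neg, ← mul_assoc, hQ.ii, neg_mul, one_mul, neg_neg, hQ.tj]
  have t4 : ((j : M2) * (i * j).adjugate).trace = 0 := by
    rw [adj_eq_of_trace hQ.tk, mul_neg, ← mul_assoc, hQ.anti, neg_mul, mul_assoc, hQ.jj, mul_neg, mul_one, neg_neg,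
      trace_neg, hQ.ti, neg_zero]
  fin_cases m <;> fin_cases n <;> first
    | exact hne rfl
    | exact e0 _ h
    | exact e0 _ h.symm
    | exact e1 _ _ det_one di (t1 _ hQ.ti) h
    | exact e1 _ _ det_one di (t1 _ hQ.ti) h.symm
    | exact e1 _ _ det_one dj (t1 _ hQ.tj) h
    | exact e1 _ _ det_one dj (t1 _ hQ.tj) h.symm
    | exact e1 _ _ det_one dk (t1 _ hQ.tk) h
    | exact e1 _ _ det_one dk (t1 _ hQ.tk) h.symm
    | exact e1 _ _ di dj t2 h
    | exact e1 _ _ di dj t2 h.symm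
    | exact e1 _ _ di dk t3 h
    | exact e1 _ _ di dk t3 h.symm
    | exact e1 _ _ dj dk t4 h
    | exact e1 _ _ dj dk t4 h.symm

/-- A flip preserving the imaginary lines realises a permutation. -/
theorem flip_perm {g : P} (hgt : cj g (tM : M4) = uM 1) (hgu : cj g (uM (1 : M2)) = tM)
    (himag : ∀ n : Fin 5, n ≠ 0 → n ≠ 1 → ∃ n' : Fin 5, Same (cj g (fvec i j n)) (fvec i j n')) :
    ∃ π : Perm (Fin 5), π 0 = 1 ∧ π 1 = 0 ∧ (∀ n, Same (cj g (fvec i j n)) (fvec i j (π n))) ∧
      π ∈ realized P i j := by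
  classical
  have hall : ∀ n : Fin 5, ∃ n', Same (cj g (fvec i j n)) (fvec i j n') := by
    intro n
    by_cases h0 : n = 0
    · subst h0; exact ⟨1, Or.inl hgt⟩
    by_cases h1 : n = 1
    · subst h1; exact ⟨0, Or.inl hgu⟩
    exact himag n h0 h1
  choose f hf using hall
  have hinj : Function.Injective f := fun m n e => by
    have h := (hf m).trans ((show Same (fvec i j (f m)) (fvec i j (f n)) by rw [e]; exact Same.refl _).trans (hf n).symm)
    have := Same.cj g⁻¹ h
    rw [cj_inv_cj, cj_inv_cj] at this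
    exact hQ.fvec_inj this
  let π : Perm (Fin 5) := Equiv.ofBijective f (Finite.injective_iff_bijective.1 hinj)
  have h0 : π 0 = 1 := hQ.fvec_inj ((hf 0).symm.trans (Or.inl hgt))
  have h1 : π 1 = 0 := hQ.fvec_inj ((hf 1).symm.trans (Or.inl hgu))
  exact ⟨π, h0, h1, hf, g, hf⟩

theorem permQ_mem {π : Perm (Fin 5)} (hπ : π ∈ realized P i j) (h0 : π 0 = 1) (h1 : π 1 = 0) :
    permQ ∈ realized P i j := by
  rcases flip_conj π h0 h1 with h | h | h <;> rw [h] <;> refine mul_mem (mul_mem hπ ?_) (inv_mem hπ)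
  exacts [hQ.permA_mem, hQ.permB_mem, mul_mem hQ.permA_mem hQ.permB_mem]

/-- A flip yields a diagonal element cycling the imaginary lines. -/
theorem exists_cycle {π : Perm (Fin 5)} (hπ : π ∈ realized P i j) (h0 : π 0 = 1) (h1 : π 1 = 0) :
    ∃ a : M2, In0 P a a ∧ Same (uM (a * i * a.adjugate)) (uM j) ∧ Same (uM (a * j * a.adjugate)) (uM (i * j)) ∧
      Same (uM (a * (i * j) * a.adjugate)) (uM i) := by
  have hq := hQ.permQ_mem hπ h0 h1
  obtain ⟨g, hg⟩ : permC ∈ realized P i j :=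
    mul_mem (mul_mem (mul_mem (mul_mem (mul_mem hq hQ.permB_mem) hq) hQ.permA_mem) hQ.permB_mem) hq
  obtain ⟨c0, c1, c2, c3, c4⟩ := permC_apply
  have g0 := hg 0
  have g1 := hg 1
  have g2 := hg 2
  have g3 := hg 3
  have g4 := hg 4
  rw [c0] at g0; rw [c1] at g1; rw [c2] at g2; rw [c3] at g3; rw [c4] at g4
  obtain ⟨a, ha, hy⟩ := hQ.diag_of_fix g0 g1
  exact ⟨a, ha, (hy i hQ.ti).symm.trans g2, (hy j hQ.tj).symm.trans g3, (hy _ hQ.tk).symm.trans g4⟩

end Quat

end CfsgLib.Sp4Odd
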