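import Cfsg.Agent.Lib.Sp4Odd.Lines
import Cfsg.Agent.Lib.Walter.Ab.Main
import Cfsg.Agent.Lib.Walter.Main

/-!
The Sylow two-subgroup is not commutative modulo signs, and the non-central involutions form one class.
-/

set_option autoImplicit false

namespace CfsgLib.Sp4Odd

open Matrix

variable {F : Type*} [Field F] [Fintype F]

local notation "M4" => Matrix (Fin 2) (Fin 2) (Matrix (Fin 2) (Fin 2) F)

variable {P : Subgroup (Matrix (Fin 2) (Fin 2) (Matrix (Fin 2) (Fin 2) F))ˣ}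

/-- An involution and an element with square minus one are not conjugate modulo signs. -/
theorem Hyp.not_conj (hP : Hyp P) {x w : P} (hx : x * x = 1) (hw : w * w = hP.negOne) (g : P) :
    (g : P ⧸ pm P) * (x : P ⧸ pm P) * (g : P ⧸ pm P)⁻¹ ≠ w := by
  intro h
  rw [← QuotientGroup.mk_inv, ← QuotientGroup.mk_mul, ← QuotientGroup.mk_mul, mk_eq_mk_iff] at h
  have hsq : g * x * g⁻¹ * (g * x * g⁻¹) = 1 := by
    rw [show g * x * g⁻¹ * (g * x * g⁻¹) = g * (x * x) * g⁻¹ by group, hx, mul_one, mul_inv_cancel]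
  have h1 : (w * w).1.1 = (g * x * g⁻¹ * (g * x * g⁻¹)).1.1 := by
    rcases h with h | h
    · rw [Subgroup.coe_mul, Units.val_mul, Subgroup.coe_mul (P) (g * x * g⁻¹), Units.val_mul, h]
    · rw [Subgroup.coe_mul, Units.val_mul, Subgroup.coe_mul (P) (g * x * g⁻¹), Units.val_mul, h, neg_mul_neg]
  rw [hsq, hw] at h1
  exact one_ne_zero4 (two_ne_mat hP.two_ne (show (1 : M4) = -1 by simpa [Hyp.negOne] using h1.symm))

/-- The Sylow two-subgroup is not commutative modulo signs. -/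
theorem Hyp.false_of_abelian (hP : Hyp P) (T : Sylow 2 P)
    (hab : ∀ a ∈ (T : Subgroup P), ∀ b ∈ (T : Subgroup P), Commute (a : P ⧸ pm P) b)
    {x w : P} (hxT : x ∈ (T : Subgroup P)) (hwT : w ∈ (T : Subgroup P)) (hx : x * x = 1) (hxn : x ∉ pm P)
    (hw : w * w = hP.negOne) (hwn : w ∉ pm P) : False := by
  haveI := hP.simpleQ
  haveI : Fact (Nat.Prime 2) := ⟨Nat.prime_two⟩
  set π := QuotientGroup.mk' (pm P) with hπ
  let S : Sylow 2 (P ⧸ pm P) := T.mapSurjective (QuotientGroup.mk'_surjective (pm P))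
  have hS : IsMulCommutative (S : Subgroup (P ⧸ pm P)) := by
    refine ⟨⟨fun y z => Subtype.ext ?_⟩⟩
    obtain ⟨a, ha, ea⟩ := Subgroup.mem_map.1 (show (y : P ⧸ pm P) ∈ (T : Subgroup P).map π from y.2)
    obtain ⟨b, hb, eb⟩ := Subgroup.mem_map.1 (show (z : P ⧸ pm P) ∈ (T : Subgroup P).map π from z.2)
    show (y : P ⧸ pm P) * z = z * y
    rw [← ea, ← eb]
    exact (hab a ha b hb).eq
  have hna : ¬ IsMulCommutative (P ⧸ pm P) := fun h => by
    obtain ⟨a, b, hne⟩ := hP.nonabelianQ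
    exact hne (h.1.comm a b)
  have hl := CfsgLib.WalterAb.listed_of_P (fun X _ _ => CfsgLib.Walter.p_all X) (P ⧸ pm P) inferInstance hna
    fun R => by
      obtain ⟨g, rfl⟩ := MulAction.exists_smul_eq (P ⧸ pm P) S R
      haveI := hS
      exact ⟨⟨fun a b => (Sylow.equiv S (g • S)).symm.injective (by rw [map_mul, map_mul]; exact hS.1.comm _ _)⟩⟩
  obtain ⟨k, -, htr⟩ := (hl.good S).trans
  obtain ⟨i, hi⟩ := htr (x : P ⧸ pm P) (Subgroup.mem_map_of_mem π hxT)
    (by rwa [Ne, QuotientGroup.eq_one_iff]) (w : P ⧸ pm P) (Subgroup.mem_map_of_mem π hwT)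
    (by rwa [Ne, QuotientGroup.eq_one_iff])
  obtain ⟨g, hg⟩ := QuotientGroup.mk'_surjective (pm P) (k ^ i)
  rw [← hg] at hi
  exact hP.not_conj hx hw g hi

namespace Ctx

variable {C : Ctx P}

/-- Every non-central involution of the Sylow subgroup lies in the class. -/
theorem inCl_of_mem {x : P} (hx : Red P x.1.1) (hxT : x ∈ (C.T : Subgroup P)) : C.InCl x.1.1 := by
  rcases hx.same_or_orth C.hP C.red (C.fix x hxT) with h | h
  · exact inCl_t.same h.symm
  have hxt : Sp4Odd.cj x C.tv = -C.tv := by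
    rw [cj_red C.hP hx C.red.w5, h, mul_zero, zero_smul, zero_sub]
  let Q : Subgroup P :=
    { carrier := {s | s ∈ (C.T : Subgroup P) ∧ Sp4Odd.cj s C.tv = C.tv}
      one_mem' := ⟨one_mem _, cj_one _⟩
      mul_mem' := fun {a b} ha hb => ⟨mul_mem ha.1 hb.1, by rw [cj_mul, hb.2, ha.2]⟩
      inv_mem' := fun {a} ha => ⟨inv_mem ha.1, by
        have := congrArg (Sp4Odd.cj a⁻¹) ha.2
        rwa [cj_inv_cj, eq_comm] at this⟩ }
  have hQ : Q ≤ (C.T : Subgroup P) := fun s hs => hs.1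
  have hne : C.tv ≠ -C.tv := fun e => one_ne_zero4 (by have := C.red.sq; rw [two_ne_mat C.hP.two_ne (show C.t.1.1 = -C.t.1.1 from e), mul_zero] at this; exact this.symm)
  have hQ2 : Q.relIndex (C.T : Subgroup P) = 2 := by
    rw [Subgroup.relIndex, Subgroup.index_eq_two_iff]
    refine ⟨⟨x, hxT⟩, fun ⟨b, hb⟩ => ?_⟩
    simp only [Subgroup.mem_subgroupOf, Subgroup.coe_mul]
    rcases C.fix b hb with hs | hs
    · refine Or.inr ⟨⟨hb, hs⟩, fun h' => hne ?_⟩
      have := h'.2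
      rw [cj_mul, hxt, cj_neg, hs] at this
      exact this.symm
    · refine Or.inl ⟨⟨mul_mem hb hxT, by rw [cj_mul, hxt, cj_neg, hs, neg_neg]⟩, fun h' => hne ?_⟩
      exact h'.2.symm.trans hs
  obtain ⟨g, hg, -⟩ := C.hP.extremal C.T hQ hQ2 hx
  have hgx : Red P (g * x * g⁻¹).1.1 := by rw [← cj_coe]; exact hx.cj C.hP g
  have hs : Same C.tv (g * x * g⁻¹).1.1 := by
    rcases hgx.same_or_orth C.hP C.red (C.fix _ hg.1) with h' | h'
    · exact h'
    · exfalso
      have := hg.2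
      rw [cj_red C.hP hgx C.red.w5, h', mul_zero, zero_smul, zero_sub] at this
      exact hne this.symm
  have h' : C.InCl (g * x * g⁻¹).1.1 := inCl_t.same hs.symm
  have := h'.cj g⁻¹
  rwa [← cj_coe, cj_inv_cj] at this

end Ctx

end CfsgLib.Sp4Odd
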