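import Cfsg.Agent.Lib.Sp4Odd.Central

/-!
The geometry of the five-dimensional space: reflections, orthogonal families, perpendicular spaces.
-/

set_option autoImplicit false

namespace CfsgLib.Sp4Odd

open Matrix Module

variable {F : Type*} [Field F]

local notation "M2" => Matrix (Fin 2) (Fin 2) F
local notation "M4" => Matrix (Fin 2) (Fin 2) (Matrix (Fin 2) (Fin 2) F)

theorem mem_W5s {A : M4} : A ∈ (W5s : Submodule F M4) ↔ W5 A := Iff.rfl

/-- Coordinates of the five-dimensional space. -/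
def wvLin : F × M2 →ₗ[F] M4 where
  toFun p := wv p.1 p.2
  map_add' p q := (wv_add p.1 q.1 p.2 q.2).symm
  map_smul' c p := (wv_smul c p.1 p.2).symm

theorem wvLin_range : LinearMap.range (wvLin : F × M2 →ₗ[F] M4) = W5s :=
  le_antisymm (by rintro _ ⟨p, rfl⟩; exact W5.wv p.1 p.2) (by rintro A ⟨l, m, rfl⟩; exact ⟨(l, m), rfl⟩)

theorem finrank_W5s : finrank F (W5s : Submodule F M4) = 5 := by
  rw [← wvLin_range, LinearMap.finrank_range_of_inj fun p q h => Prod.ext_iff.2 (wv_inj h), finrank_prod,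
    finrank_self, Module.finrank_matrix]
  simp

/-- The inner product is non-degenerate. -/
theorem eq_zero_of_ip (h2 : (2 : F) ≠ 0) {A : M4} (hA : W5 A) (h : ∀ B, W5 B → ip A B = 0) : A = 0 := by
  obtain ⟨l, m, rfl⟩ := hA
  have hl : l = 0 := by
    have := h tM W5.tM
    rwa [ip_comm, ip_tM_wv h2] at this
  have he : ∀ n : M2, (m * n.adjugate).trace = 0 := fun n => by
    have := h (wv 0 n) (W5.wv 0 n)
    rw [ip_wv h2, mul_zero, zero_add, div_eq_zero_iff] at this
    exact this.resolve_right h2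
  have hm : m = 0 := by
    ext i j
    have := he (Matrix.adjugate (Matrix.single j i 1))
    rw [adj_adj, Matrix.trace_mul_single] at this
    simpa using this
  rw [hl, hm]
  ext1 a b; fin_cases a <;> fin_cases b <;> simp [wv, adj_zero]

theorem ip_sum_left {ι : Type*} (s : Finset ι) (f : ι → M4) (B : M4) :
    ip (∑ i ∈ s, f i) B = ∑ i ∈ s, ip (f i) B := by
  classical
  induction s using Finset.induction with
  | empty => simp [ip, tr4]
  | insert a s ha ih => rw [Finset.sum_insert ha, Finset.sum_insert ha, ip_add_left, ih]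

theorem ip_eq_zero_of_span {S : Set M4} {A B : M4} (h : ∀ C ∈ S, ip A C = 0) (hB : B ∈ Submodule.span F S) :
    ip A B = 0 := by
  induction hB using Submodule.span_induction with
  | mem C hC => exact h C hC
  | zero => simp [ip, tr4]
  | add C D _ _ hC hD => rw [ip_add_right, hC, hD, add_zero]
  | smul c C _ hC => rw [ip_smul_right, hC, mul_zero]

theorem linearIndependent_of_orth {ι : Type*} {v : ι → M4} (hn : ∀ i, ip (v i) (v i) = 1)
    (ho : ∀ i j, i ≠ j → ip (v i) (v j) = 0) : LinearIndependent F v := by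
  classical
  rw [linearIndependent_iff']
  intro s g hg i hi
  have := congrArg (fun A => ip A (v i)) hg
  simp only [ip_sum_left, ip_smul_left] at this
  rw [Finset.sum_eq_single i (fun j _ hj => by rw [ho j i hj, mul_zero]) (fun h => absurd hi h), hn, mul_one] at this
  rw [this]
  simp [ip, tr4]

theorem ip_neg_left (A B : M4) : ip (-A) B = -ip A B := by
  rw [← neg_one_smul F A, ip_smul_left, neg_one_mul]

/-- A vector orthogonal to a unit vector and to four independent vectors orthogonal to it vanishes. -/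
theorem perp_four (h2 : (2 : F) ≠ 0) {x v : M4} {w : Fin 4 → M4} (hw : LinearIndependent F w)
    (hwW : ∀ i, W5 (w i)) (hx : W5 x) (hxx : ip x x = 1) (hxw : ∀ i, ip x (w i) = 0) (hv : W5 v)
    (hvw : ∀ i, ip v (w i) = 0) : v = ip x v • x := by
  have hxn : x ∉ Submodule.span F (Set.range w) := fun h => by
    have := ip_eq_zero_of_span (A := x) (by rintro _ ⟨i, rfl⟩; exact hxw i) h
    exact one_ne_zero (hxx ▸ this)
  have hli : LinearIndependent F (Fin.cons x w) := linearIndependent_finCons.2 ⟨hw, hxn⟩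
  have hsub : Submodule.span F (Set.range (Fin.cons x w)) ≤ (W5s : Submodule F M4) := by
    rw [Submodule.span_le]
    rintro _ ⟨i, rfl⟩
    refine Fin.cases ?_ ?_ i
    · simpa [mem_W5s] using hx
    · intro j; simpa [mem_W5s] using hwW j
  have htop := Submodule.eq_of_le_of_finrank_eq hsub (by
    rw [finrank_span_eq_card hli, finrank_W5s, Fintype.card_fin])
  set d := v + (-ip x v) • x with hd
  have hd0 : d = 0 := by
    refine eq_zero_of_ip h2 (hv.add (hx.smul _)) fun B hB => ?_
    refine ip_eq_zero_of_span ?_ (htop ▸ (mem_W5s.2 hB))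
    rintro _ ⟨i, rfl⟩
    refine Fin.cases ?_ ?_ i
    · rw [Fin.cons_zero, ip_add_left, ip_smul_left, hxx, ip_comm v x]; ring
    · intro j; rw [Fin.cons_succ, ip_add_left, ip_smul_left, hvw, hxw]; ring
  rw [hd, neg_smul, add_neg_eq_zero] at hd0
  exact hd0

/-- The action of a unit vector is the negative of its reflection. -/
theorem refl_eq (h2 : (2 : F) ≠ 0) {A B : M4} (hA : W5 A) (hs : A * A = 1) (hB : W5 B) :
    A * B * A = (2 * ip A B) • A - B := by
  have := hA.anti h2 hB
  rw [eq_sub_iff_add_eq]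
  calc A * B * A + B = (A * B + B * A) * A := by rw [add_mul, mul_assoc B A A, hs, mul_one]
    _ = (2 * ip A B) • A := by rw [this, smul_mul_assoc, one_mul]

variable [Fintype F] {P : Subgroup (Matrix (Fin 2) (Fin 2) (Matrix (Fin 2) (Fin 2) F))ˣ}

theorem cj_red (hP : Hyp P) {x : P} (hx : Red P x.1.1) {A : M4} (hA : W5 A) :
    cj x A = (2 * ip x.1.1 A) • x.1.1 - A := by
  have hi : (x.1⁻¹).1 = x.1.1 := Units.inv_eq_of_mul_eq_one_right hx.sq
  rw [cj, hi, refl_eq hP.two_ne hx.w5 hx.sq hA]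

/-- The action of the product of three orthogonal unit vectors. -/
theorem cj_three (hP : Hyp P) {a b c : P} (ha : Red P a.1.1) (hb : Red P b.1.1) (hc : Red P c.1.1)
    (hab : ip a.1.1 b.1.1 = 0) (hac : ip a.1.1 c.1.1 = 0) (hbc : ip b.1.1 c.1.1 = 0) {A : M4} (hA : W5 A) :
    cj (a * b * c) A =
      (2 * ip a.1.1 A) • a.1.1 + (2 * ip b.1.1 A) • b.1.1 + (2 * ip c.1.1 A) • c.1.1 - A := by
  have sub : ∀ (u : M4) (k : F) (v : M4), ip u (k • v - A) = k * ip u v - ip u A := fun u k v => by
    rw [sub_eq_add_neg, ip_add_right, ip_smul_right, ← neg_one_smul F A, ip_smul_right]; ring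
  rw [cj_mul, cj_mul, cj_red hP hc hA]
  rw [cj_red hP hb (hP.W5_cj (1 : P) ((hc.w5.smul _).add (hA.smul (-1))) |> fun h => by
    simpa [cj_one, neg_one_smul, ← sub_eq_add_neg] using h)]
  rw [sub, hbc, mul_zero, zero_sub]
  have hW : W5 ((2 * -ip b.1.1 A) • b.1.1 - ((2 * ip c.1.1 A) • c.1.1 - A)) := by
    rw [sub_eq_add_neg, neg_sub, sub_eq_add_neg, ← neg_one_smul F ((2 * ip c.1.1 A) • c.1.1)]
    exact (hb.w5.smul _).add (hA.add ((hc.w5.smul _).smul _))
  rw [cj_red hP ha hW]
  have e : ip a.1.1 ((2 * -ip b.1.1 A) • b.1.1 - ((2 * ip c.1.1 A) • c.1.1 - A)) = ip a.1.1 A := by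
    rw [sub_eq_add_neg, ip_add_right, ip_smul_right, hab, ← neg_one_smul F ((2 * ip c.1.1 A) • c.1.1 - A),
      ip_smul_right, sub, hac]
    ring
  rw [e]
  module

theorem cj_of_same {z z' : P} (h : Same z'.1.1 z.1.1) (A : M4) : cj z' A = cj z A := by
  rcases h with h | h
  · rw [show z' = z from Subtype.ext (Units.ext h)]
  · have e : z'.1 = -z.1 := Units.ext (by rw [h]; rfl)
    simp [cj, e]

/-- An element is determined up to sign by its action on the five-dimensional space. -/
theorem same_of_cj (hP : Hyp P) {g h : P} (e : ∀ A, W5 A → cj g A = cj h A) : Same g.1.1 h.1.1 := by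
  have hc : ∀ A, W5 A → cj (h⁻¹ * g) A = A := fun A hA => by rw [cj_mul, e A hA, cj_inv_cj]
  have ht := (cj_eq_iff _ _).1 (hc tM W5.tM)
  obtain ⟨a, b, ha, hb, hd⟩ := eq_dg_of_comm hP.two_ne (hP.iso _ (h⁻¹ * g).2) ht
  have hu : ∀ m : Matrix (Fin 2) (Fin 2) F, a * m = m * b := fun m => by
    have := (cj_eq_iff _ _).1 (hc (uM m) (W5.uM m))
    rw [hd, uM_eq] at this
    simpa [dg] using congr_fun₂ this 0 1
  have hab : a = b := by simpa using hu 1
  subst hab
  obtain ⟨c, rfl⟩ : ∃ c : F, a = c • 1 := by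
    refine ⟨a 0 0, ?_⟩
    have h1 := congr_fun₂ (hu !![0, 1; 0, 0]) 0 1
    have h2 := congr_fun₂ (hu !![0, 1; 0, 0]) 0 0
    have h3 := congr_fun₂ (hu !![0, 0; 1, 0]) 1 1
    simp [Matrix.mul_apply] at h1 h2 h3
    ext i j
    fin_cases i <;> fin_cases j <;> simp [h1, ← h2, ← h3]
  rw [det_smul2, det_one, mul_one, pow_two, mul_self_eq_one_iff] at ha
  have e2 : g.1.1 = h.1.1 * (h⁻¹ * g : P).1.1 := by
    rw [← Units.val_mul, ← Subgroup.coe_mul, mul_inv_cancel_left]
  rw [e2, hd]
  rcases ha with rfl | rfl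
  · left; rw [one_smul, dg_one, mul_one]
  · right
    rw [neg_one_smul, show dg (-1 : Matrix (Fin 2) (Fin 2) F) (-1) = -1 by
      rw [← dg_one]; ext1 i j; fin_cases i <;> fin_cases j <;> simp [dg], mul_neg, mul_one]

/-- The linear action on the five-dimensional space. -/
def cjEquiv (g : P) : M4 ≃ₗ[F] M4 where
  toFun := cj g
  map_add' := cj_add g
  map_smul' c A := cj_smul g c A
  invFun := cj g⁻¹
  left_inv := cj_inv_cj g
  right_inv := cj_cj_inv g

end CfsgLib.Sp4Odd
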