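import Cfsg.Agent.Lib.Sp4Odd.ThreeFalse
import Cfsg.Agent.Lib.DicksonFull.Tori

/-!
The projection of the centraliser of the base vector, its members in the class, and changes of basis.
-/

set_option autoImplicit false
set_option maxHeartbeats 400000

namespace CfsgLib.Sp4Odd

open Matrix

variable {F : Type*} [Field F]

local notation "M2" => Matrix (Fin 2) (Fin 2) F
local notation "M4" => Matrix (Fin 2) (Fin 2) (Matrix (Fin 2) (Fin 2) F)

/-- The block diagonal unit with two equal blocks. -/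
def dgU (M : GL (Fin 2) F) : (Matrix (Fin 2) (Fin 2) (Matrix (Fin 2) (Fin 2) F))ˣ where
  val := dg M.1 M.1
  inv := dg (M⁻¹).1 (M⁻¹).1
  val_inv := by rw [dg_mul, ← Units.val_mul, mul_inv_cancel, Units.val_one, dg_one]
  inv_val := by rw [dg_mul, ← Units.val_mul, inv_mul_cancel, Units.val_one, dg_one]

theorem sim_dgU (M : GL (Fin 2) F) : Sim (dgU M).1 := by
  refine ⟨M.1.det, ((Matrix.isUnit_iff_isUnit_det _).1 M.isUnit).ne_zero, ?_⟩
  show st (dg M.1 M.1) * dg M.1 M.1 = _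
  rw [st_dg, dg_mul, adjugate_mul, ← dg_one]
  ext1 i j; fin_cases i <;> fin_cases j <;> simp [dg]

theorem adj_conjGL (M : GL (Fin 2) F) (a : M2) :
    (M.1 * a * (M⁻¹).1).adjugate = M.1 * a.adjugate * (M⁻¹).1 := by
  have hd : M.1.det ≠ 0 := ((Matrix.isUnit_iff_isUnit_det _).1 M.isUnit).ne_zero
  have e1 : M.1.adjugate = M.1.det • (M⁻¹).1 := by
    calc M.1.adjugate = M.1.adjugate * M.1 * (M⁻¹).1 := by rw [mul_assoc, ← Units.val_mul, mul_inv_cancel, Units.val_one, mul_one]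
      _ = M.1.det • (M⁻¹).1 := by rw [adjugate_mul, smul_mul_assoc, one_mul]
  have e2 : (M⁻¹).1.adjugate = M.1.det⁻¹ • M.1 := by
    have h1 := congrArg Matrix.adjugate (show M.1 * (M⁻¹).1 = 1 by rw [← Units.val_mul, mul_inv_cancel, Units.val_one])
    rw [adjugate_mul_distrib, adjugate_one, e1, mul_smul_comm] at h1
    calc (M⁻¹).1.adjugate = (M⁻¹).1.adjugate * (M⁻¹).1 * M.1 := by rw [mul_assoc, ← Units.val_mul, inv_mul_cancel, Units.val_one, mul_one]
      _ = M.1.det⁻¹ • M.1 := by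
        rw [show (M⁻¹).1.adjugate * (M⁻¹).1 = M.1.det⁻¹ • (1 : M2) by
          rw [← h1, smul_smul, inv_mul_cancel₀ hd, one_smul], smul_mul_assoc, one_mul]
  rw [adjugate_mul_distrib, adjugate_mul_distrib, e1, e2, smul_mul_assoc, mul_smul_comm, mul_smul_comm, smul_smul,
    inv_mul_cancel₀ hd, one_smul, mul_assoc]

variable [Fintype F] {P : Subgroup (Matrix (Fin 2) (Fin 2) (Matrix (Fin 2) (Fin 2) F))ˣ}

/-- The first blocks of the centraliser of the base vector. -/
def InG (P : Subgroup (Matrix (Fin 2) (Fin 2) (Matrix (Fin 2) (Fin 2) F))ˣ) (a : Matrix (Fin 2) (Fin 2) F) : Prop :=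
  ∃ b, In0 P a b

theorem InG.mul {a c : M2} : InG P a → InG P c → InG P (a * c) := fun ⟨_, h⟩ ⟨_, h'⟩ => ⟨_, h.mul h'⟩

theorem InG.det (hP : Hyp P) {a : M2} : InG P a → a.det = 1 := fun ⟨_, h⟩ => (hP.in0_det h).1

theorem InG.adj (hP : Hyp P) {a : M2} : InG P a → InG P a.adjugate := fun ⟨_, h⟩ => ⟨_, hP.in0_adj h⟩

theorem InG.neg (hP : Hyp P) {a : M2} : InG P a → InG P (-a) := fun ⟨_, h⟩ => ⟨_, hP.in0_neg h⟩

/-- The first blocks as a subgroup of `SL₂`. -/
def Hyp.gproj (hP : Hyp P) : Subgroup (Matrix.SpecialLinearGroup (Fin 2) F) where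
  carrier := {a | InG P a.1}
  one_mem' := ⟨1, In0.one⟩
  mul_mem' := fun {a b} ha hb => by
    show InG P (a * b).1
    rw [Matrix.SpecialLinearGroup.coe_mul]; exact ha.mul hb
  inv_mem' := fun {a} ha => by
    show InG P (a⁻¹).1
    rw [Matrix.SpecialLinearGroup.coe_inv]; exact ha.adj hP

theorem Hyp.mem_gproj (hP : Hyp P) {a : Matrix.SpecialLinearGroup (Fin 2) F} : a ∈ hP.gproj ↔ InG P a.1 := Iff.rfl

theorem Hyp.exists_gproj (hP : Hyp P) {a : M2} (ha : InG P a) :
    ∃ g : Matrix.SpecialLinearGroup (Fin 2) F, g ∈ hP.gproj ∧ g.1 = a :=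
  ⟨⟨a, ha.det hP⟩, ha, rfl⟩

/-- The kernel of the projection is central. -/
def KCent (P : Subgroup (Matrix (Fin 2) (Fin 2) (Matrix (Fin 2) (Fin 2) F))ˣ) : Prop :=
  ∀ k, In0 P k 1 → k = 1 ∨ k = -1

namespace Normal

variable {C : Ctx P}

theorem in0_neg_left (hN : Normal C) {a b : M2} (h : In0 P a b) : In0 P (-a) b := by
  have := h.mul (C.hP.in0_neg hN.in0_t)
  rwa [mul_neg, mul_one, neg_neg, mul_one] at this

theorem in0_neg_right (hN : Normal C) {a b : M2} (h : In0 P a b) : In0 P a (-b) := by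
  have := h.mul hN.in0_t
  rwa [mul_one, mul_neg, mul_one] at this

/-- The second block is determined up to sign. -/
theorem partner (hN : Normal C) (hK : KCent P) {a b b' : M2} (h : In0 P a b) (h' : In0 P a b') :
    b' = b ∨ b' = -b := by
  obtain ⟨hda, hdb⟩ := C.hP.in0_det h
  have h1 := hN.in0_swap ((C.hP.in0_adj h).mul h')
  rw [(adj_inv hda).2] at h1
  rcases hK _ h1 with e | e
  · left
    calc b' = b * (b.adjugate * b') := by rw [← mul_assoc, (adj_inv hdb).1, one_mul]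
      _ = b := by rw [e, mul_one]
  · right
    calc b' = b * (b.adjugate * b') := by rw [← mul_assoc, (adj_inv hdb).1, one_mul]
      _ = -b := by rw [e, mul_neg, mul_one]

/-- Every non-central involution orthogonal to the base vector lies in the class. -/
theorem inCl_uM (hN : Normal C) {m : M2} (h : In0 P m m.adjugate) : C.InCl (uM m) := by
  have hr := hN.red_uM_iff.2 h
  obtain ⟨x, hx⟩ := hr.mem
  rw [← hx] at hr ⊢
  obtain ⟨c, -, hcT⟩ := C.fix.conj_into (isPGroup_zpowers_of_sq hr.sq') (by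
    rw [Subgroup.zpowers_le, mem_cpm]
    right
    show Sp4Odd.cj x C.tv = -C.tv
    rw [cj_red C.hP hr C.red.w5, hx, show C.t.1.1 = tM from hN.base, ip_comm, uM, ip_tM_wv C.hP.two_ne, mul_zero, zero_smul, zero_sub, hN.base])
  have hr' : Red P (c * x * c⁻¹).1.1 := by rw [← cj_coe]; exact hr.cj C.hP c
  have := (Ctx.inCl_of_mem hr' (hcT _ (Subgroup.mem_zpowers _))).cj c⁻¹
  rwa [← cj_coe, cj_inv_cj] at this

theorem inL_iff (hN : Normal C) {A : M4} :
    C.InL C.tv A ↔ ∃ m : M2, In0 P m m.adjugate ∧ A = uM m := by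
  refine ⟨hN.inL_eq, ?_⟩
  rintro ⟨m, hm, rfl⟩
  exact hN.inL_uM (hN.inCl_uM hm)

/-- Change of basis in both blocks. -/
theorem map_dgU (hN : Normal C) (M : GL (Fin 2) F) : Normal (C.map (sim_dgU M)) := by
  have e : ∀ A : M4, kv (dgU M) A = dg M.1 M.1 * A * dg (M⁻¹).1 (M⁻¹).1 := fun A => rfl
  have et : kv (dgU M) (tM : M4) = tM := by
    rw [e, tM_eq, dg_mul, dg_mul, mul_one, mul_neg, mul_one, neg_mul, ← Units.val_mul, mul_inv_cancel, Units.val_one]
  have eu : kv (dgU M) (uM (1 : M2)) = uM 1 := by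
    have h1 : dg M.1 M.1 * uM (1 : M2) = uM 1 * dg M.1 M.1 := by
      rw [← uM_one_dg M.1 M.1, mul_assoc _ (uM (1 : M2)) (uM 1), uM_sq det_one, mul_one, uM_one_dg]
    rw [e, h1, mul_assoc, dg_mul, ← Units.val_mul, mul_inv_cancel, Units.val_one, dg_one, mul_one]
  refine ⟨(C.map_tv _).trans (by rw [hN.base]; exact et), ?_⟩
  have := (C.inL_map (sim_dgU M)).2 hN.swap
  rwa [et, eu] at this

end Normal

theorem in0_conjP_dgU {M : GL (Fin 2) F} {a b : M2} :
    In0 (conjP (dgU M) P) a b ↔ In0 P ((M⁻¹).1 * a * M.1) ((M⁻¹).1 * b * M.1) := by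
  constructor
  · rintro ⟨g, hg⟩
    obtain ⟨g, rfl⟩ := (conjE (dgU M) P).surjective g
    refine ⟨g, ?_⟩
    rw [conjE_mat] at hg
    have := congrArg (kv (dgU M)⁻¹) hg
    rw [kv_inv] at this
    rw [this, show kv (dgU M)⁻¹ (dg a b) = dg (M⁻¹).1 (M⁻¹).1 * dg a b * dg M.1 M.1 from rfl, dg_mul, dg_mul]
  · rintro ⟨g, hg⟩
    refine ⟨conjE (dgU M) P g, ?_⟩
    rw [conjE_mat, hg, show kv (dgU M) (dg _ _) = dg M.1 M.1 * dg _ _ * dg (M⁻¹).1 (M⁻¹).1 from rfl, dg_mul, dg_mul]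
    simp only [← mul_assoc, ← Units.val_mul, mul_inv_cancel, Units.val_one, one_mul]
    simp only [mul_assoc, ← Units.val_mul, mul_inv_cancel, Units.val_one, mul_one]

theorem inG_conjP_dgU {M : GL (Fin 2) F} {a : M2} :
    InG (conjP (dgU M) P) a ↔ InG P ((M⁻¹).1 * a * M.1) := by
  constructor
  · rintro ⟨b, h⟩; exact ⟨_, in0_conjP_dgU.1 h⟩
  · rintro ⟨b, h⟩
    refine ⟨M.1 * b * (M⁻¹).1, in0_conjP_dgU.2 ?_⟩
    convert h using 1
    simp only [← mul_assoc, ← Units.val_mul, inv_mul_cancel, Units.val_one, one_mul]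
    simp only [mul_assoc, ← Units.val_mul, inv_mul_cancel, Units.val_one, mul_one]

theorem KCent.map {M : GL (Fin 2) F} (hK : KCent P) : KCent (conjP (dgU M) P) := by
  intro k hk
  have h1 := in0_conjP_dgU.1 hk
  rw [mul_one, ← Units.val_mul, inv_mul_cancel, Units.val_one] at h1
  have e : k = M.1 * ((M⁻¹).1 * k * M.1) * (M⁻¹).1 := by
    simp only [← mul_assoc, ← Units.val_mul, mul_inv_cancel, Units.val_one, one_mul]
    simp only [mul_assoc, ← Units.val_mul, mul_inv_cancel, Units.val_one, mul_one]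
  rcases hK _ h1 with h | h <;> rw [h] at e
  · exact Or.inl (by rw [e, mul_one, ← Units.val_mul, mul_inv_cancel, Units.val_one])
  · exact Or.inr (by rw [e, mul_neg, mul_one, neg_mul, ← Units.val_mul, mul_inv_cancel, Units.val_one])

end CfsgLib.Sp4Odd
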