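import Cfsg.Agent.Lib.Sp4Odd.Geom

/-!
The class of a line fixed by a Sylow two-subgroup, its members orthogonal to a given one, and the lemmas that
exclude planar, dominated and isolated configurations.
-/

set_option autoImplicit false
set_option maxHeartbeats 400000

namespace CfsgLib.Sp4Odd

open Matrix Module

variable {F : Type*} [Field F] [Fintype F]

local notation "M4" => Matrix (Fin 2) (Fin 2) (Matrix (Fin 2) (Fin 2) F)

/-- An involution whose line is fixed by a Sylow two-subgroup. -/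
structure Ctx (P : Subgroup (Matrix (Fin 2) (Fin 2) (Matrix (Fin 2) (Fin 2) F))ˣ) where
  hP : Hyp P
  T : Sylow 2 P
  t : P
  red : Red P t.1.1
  fix : Fix T t.1.1

variable {P : Subgroup (Matrix (Fin 2) (Fin 2) (Matrix (Fin 2) (Fin 2) F))ˣ}

namespace Ctx

variable (C : Ctx P)

/-- The base vector of the context. -/
abbrev tv : M4 := C.t.1.1

/-- The class of the base vector. -/
def InCl (A : M4) : Prop := ∃ g : P, A = cj g C.tv

/-- The members of the class orthogonal to a vector. -/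
def InL (d A : M4) : Prop := C.InCl A ∧ ip d A = 0

/-- The members of the class fixed by the Sylow subgroup. -/
def Om (A : M4) : Prop := C.InCl A ∧ Fix C.T A

variable {C}

theorem inCl_t : C.InCl C.tv := ⟨1, (cj_one _).symm⟩

theorem InCl.cj {A : M4} (h : C.InCl A) (g : P) : C.InCl (cj g A) := by
  obtain ⟨k, rfl⟩ := h; exact ⟨g * k, (cj_mul g k _).symm⟩

theorem InCl.red {A : M4} (h : C.InCl A) : Red P A := by
  obtain ⟨k, rfl⟩ := h; exact C.red.cj C.hP k

theorem InCl.neg {A : M4} (h : C.InCl A) : C.InCl (-A) := by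
  obtain ⟨k, rfl⟩ := h
  obtain ⟨g, hg⟩ := C.red.conj_neg C.hP
  exact ⟨k * g, by rw [cj_mul, show Sp4Odd.cj g C.tv = -C.tv from hg, cj_neg]⟩

theorem InCl.same {A B : M4} (h : C.InCl A) (e : Same B A) : C.InCl B := by
  rcases e with rfl | rfl
  exacts [h, h.neg]

theorem ip_same_zero {A A' B : M4} (e : Same A' A) (h : ip A B = 0) : ip A' B = 0 := by
  rcases e with rfl | rfl
  · exact h
  · rw [← neg_one_smul F A, ip_smul_left, h, mul_zero]

theorem InL.cj {d A : M4} (h : C.InL d A) (g : P) : C.InL (cj g d) (cj g A) :=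
  ⟨h.1.cj g, by rw [ip_cj]; exact h.2⟩

theorem InL.same {d d' A A' : M4} (h : C.InL d A) (e : Same A' A) (e' : Same d' d) : C.InL d' A' :=
  ⟨h.1.same e, ip_same_zero e' (by rw [ip_comm]; exact ip_same_zero e (by rw [ip_comm]; exact h.2))⟩

theorem InL.symm_t {d : M4} (h : C.InL C.tv d) : C.InL d C.tv := ⟨inCl_t, by rw [ip_comm]; exact h.2⟩

theorem InL.not_same {d A : M4} (hd : Red P d) (h : C.InL d A) : ¬ Same A d := fun e => by
  have h' := ip_same_zero e.symm (show ip A d = 0 by rw [ip_comm]; exact h.2)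
  rw [hd.ip_self C.hP] at h'
  exact one_ne_zero h'

theorem Om.inCl {A : M4} (h : C.Om A) : C.InCl A := h.1

theorem om_t : C.Om C.tv := ⟨inCl_t, C.fix⟩

theorem Om.same {A B : M4} (h : C.Om A) (e : Same B A) : C.Om B := ⟨h.1.same e, h.2.same e⟩

theorem Om.orth {A B : M4} (hA : C.Om A) (hB : C.Om B) (h : ¬ Same B A) : ip A B = 0 := by
  obtain ⟨a, rfl⟩ := hA.1.red.mem
  exact (hA.1.red.same_or_orth C.hP hB.1.red (hB.2 a (hA.2.mem C.hP hA.1.red))).resolve_left h

theorem exists_L : ∃ A, C.InL C.tv A := by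
  obtain ⟨g, hg⟩ := C.red.exists_orth C.hP
  exact ⟨_, ⟨g, rfl⟩, hg⟩

theorem exists_L_of {d : M4} (hd : C.InCl d) : ∃ A, C.InL d A := by
  obtain ⟨k, rfl⟩ := hd
  obtain ⟨A, hA⟩ := C.exists_L
  exact ⟨_, hA.cj k⟩

/-- The lines fixed by the Sylow subgroup, in the quotient by signs. -/
def omImage (C : Ctx P) : Set (P ⧸ pm P) :=
  (fun n : P => (n : P ⧸ pm P) * (C.t : P ⧸ pm P) * (n : P ⧸ pm P)⁻¹) ''
    (Subgroup.normalizer ((C.T : Subgroup P) : Set P) : Set P)

theorem omImage_odd (C : Ctx P) : Odd C.omImage.ncard := by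
  refine card_conj_image_odd (QuotientGroup.mk' (pm P)) C.T (C.t : P ⧸ pm P) fun s hs => ?_
  exact mul_inv_eq_iff_eq_mul.2 ((comm_mk_iff s C.t).2 (C.fix s hs)).eq

theorem mem_omImage {a : P} (h : C.Om a.1.1) : (a : P ⧸ pm P) ∈ C.omImage := by
  obtain ⟨g, hg⟩ := h.1
  obtain ⟨n, hn, hn'⟩ := C.fix.burnside h.2 (g := g) (Or.inl hg.symm)
  refine ⟨n, hn, ?_⟩
  show (n : P ⧸ pm P) * (C.t : P ⧸ pm P) * (n : P ⧸ pm P)⁻¹ = a
  rw [← QuotientGroup.mk_mul, ← QuotientGroup.mk_inv, ← QuotientGroup.mk_mul, mk_eq_mk_iff, ← cj_coe]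
  exact hn'

theorem exists_of_mem_omImage {y : P ⧸ pm P} (h : y ∈ C.omImage) :
    ∃ a : P, C.Om a.1.1 ∧ (a : P ⧸ pm P) = y := by
  obtain ⟨n, hn, rfl⟩ := h
  refine ⟨n * C.t * n⁻¹, ⟨⟨n, (cj_coe n C.t).symm⟩, fun s hs => ?_⟩, by simp⟩
  have hn2 : n⁻¹ * s * n ∈ (C.T : Subgroup P) := (Subgroup.mem_normalizer_iff''.1 hn s).1 hs
  have h' := Same.cj n (C.fix _ hn2)
  rw [← cj_mul, show n * (n⁻¹ * s * n) = s * n by group, cj_mul] at h'
  rwa [cj_coe n C.t] at h'

/-- There is no fixed point free equivariant pairing of the fixed lines. -/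
theorem no_pairing (C : Ctx P) (R : M4 → M4 → Prop) (htot : ∀ A, C.Om A → ∃ B, C.Om B ∧ R A B)
    (hirr : ∀ A B, C.Om A → R A B → ¬ Same A B) (hsymm : ∀ A B, C.Om A → C.Om B → R A B → R B A)
    (huniq : ∀ A B B', C.Om A → R A B → R A B' → Same B B')
    (hcongr : ∀ A A' B, Same A A' → R A B → R A' B) : False := by
  classical
  haveI : Fintype (P ⧸ pm P) := Fintype.ofFinite _
  have hstep : ∀ y ∈ C.omImage, ∃ z ∈ C.omImage, ∃ a b : P,
      C.Om a.1.1 ∧ C.Om b.1.1 ∧ (a : P ⧸ pm P) = y ∧ (b : P ⧸ pm P) = z ∧ R a.1.1 b.1.1 := by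
    intro y hy
    obtain ⟨a, ha, rfl⟩ := exists_of_mem_omImage hy
    obtain ⟨B, hB, hR⟩ := htot _ ha
    obtain ⟨b, rfl⟩ := hB.1.red.mem
    exact ⟨_, mem_omImage hB, a, b, ha, hB, rfl, rfl, hR⟩
  choose φ hφ ka kb hka hkb eka ekb hR using hstep
  have hinv : ∀ y hy, φ (φ y hy) (hφ y hy) = y := by
    intro y hy
    refine (ekb _ (hφ y hy)).symm.trans (Eq.trans ?_ (eka y hy))
    rw [mk_eq_mk_iff]
    refine huniq (kb y hy).1.1 _ _ (hkb y hy) ?_ (hsymm _ _ (hka y hy) (hkb y hy) (hR y hy))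
    refine hcongr _ _ _ ?_ (hR _ (hφ y hy))
    rw [← mk_eq_mk_iff, eka, ekb]
  have hne : ∀ y hy, φ y hy ≠ y := fun y hy e => by
    rw [← ekb y hy] at e
    conv_rhs at e => rw [← eka y hy]
    exact hirr _ _ (hka y hy) (hR y hy) (mk_eq_mk_iff.1 e.symm)
  have h0 : ∑ y ∈ C.omImage.toFinset, (1 : ZMod 2) = 0 :=
    Finset.sum_involution (fun y hy => φ y (Set.mem_toFinset.1 hy))
      (fun _ _ => by decide) (fun y hy _ => hne y (Set.mem_toFinset.1 hy))
      (fun y hy => Set.mem_toFinset.2 (hφ y (Set.mem_toFinset.1 hy)))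
      (fun y hy => hinv y (Set.mem_toFinset.1 hy))
  rw [Finset.sum_const, nsmul_eq_mul, mul_one, ← Set.ncard_eq_toFinset_card'] at h0
  have := C.omImage_odd
  rw [Nat.odd_iff] at this
  rw [ZMod.natCast_eq_zero_iff_even, Nat.even_iff] at h0
  omega

/-- A second fixed line gives a third. -/
theorem exists_third {A : M4} (hA : C.Om A) (hAt : ¬ Same A C.tv) :
    ∃ B, C.Om B ∧ ¬ Same B C.tv ∧ ¬ Same B A := by
  classical
  obtain ⟨a, rfl⟩ := hA.1.red.mem
  have hne : (a : P ⧸ pm P) ≠ C.t := fun e => hAt (mk_eq_mk_iff.1 e)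
  by_contra hcon
  push Not at hcon
  have hsub : C.omImage = {(C.t : P ⧸ pm P), (a : P ⧸ pm P)} := by
    refine Set.Subset.antisymm (fun y hy => ?_) ?_
    · obtain ⟨b, hb, rfl⟩ := exists_of_mem_omImage hy
      by_cases h : Same b.1.1 C.tv
      · exact Or.inl (mk_eq_mk_iff.2 h)
      · exact Or.inr (mk_eq_mk_iff.2 (hcon _ hb h))
    · rintro y (rfl | rfl)
      exacts [mem_omImage om_t, mem_omImage hA]
  have := C.omImage_odd
  rw [hsub, Set.ncard_pair hne.symm] at this
  exact absurd this (by decide)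

/-- A subgroup of index two of the Sylow subgroup avoiding the base element gives a further fixed line. -/
theorem om_of_transfer (Q : Subgroup P) (hQ : Q ≤ (C.T : Subgroup P)) (h2 : Q.relIndex (C.T : Subgroup P) = 2)
    (ht : C.t ∉ Q) (hn : C.hP.negOne ∈ Q) : ∃ A, C.Om A ∧ ¬ Same A C.tv := by
  obtain ⟨g, hgQ, hle⟩ := C.hP.extremal C.T hQ h2 C.red
  have hred : Red P (g * C.t * g⁻¹).1.1 := by rw [← cj_coe]; exact C.red.cj C.hP g
  refine ⟨_, ⟨⟨g, (cj_coe g C.t).symm⟩, C.hP.fix_of_index hred (hQ hgQ)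
    ((C.fix.relIndex_le C.hP C.red).trans (Nat.mul_le_mul_left 2 hle))⟩, fun h => ht ?_⟩
  rcases h with h | h
  · rwa [show C.t = g * C.t * g⁻¹ from Subtype.ext (Units.ext h.symm)]
  · rw [show C.t = C.hP.negOne * (g * C.t * g⁻¹) from
      Subtype.ext (Units.ext (by
        rw [Subgroup.coe_mul, Units.val_mul, h]; simp [Hyp.negOne]))]
    exact mul_mem hn hgQ

/-- A set of class members is carried by conjugation. -/
theorem ncard_L (g : P) (d : M4) : {A | C.InL (Sp4Odd.cj g d) A}.ncard = {A | C.InL d A}.ncard := by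
  rw [← Set.ncard_image_of_injective {A | C.InL d A} (fun A B h => cj_inj g h)]
  congr 1
  ext A
  refine ⟨fun h => ⟨Sp4Odd.cj g⁻¹ A, ?_, cj_cj_inv g A⟩, ?_⟩
  · have := InL.cj h g⁻¹
    rwa [cj_inv_cj] at this
  · rintro ⟨B, hB, rfl⟩; exact InL.cj hB g

/-- A unique dominating member is impossible. -/
theorem apex {c : M4} (hc : C.InL C.tv c) (hdom : ∀ A, C.InL C.tv A → Same A c ∨ ip c A = 0)
    (huniq : ∀ c', C.InL C.tv c' → (∀ A, C.InL C.tv A → Same A c' ∨ ip c' A = 0) → Same c' c) : False := by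
  classical
  set R : M4 → M4 → Prop := fun A B =>
    C.InL A B ∧ ∀ A', C.InL A A' → Same A' B ∨ ip B A' = 0 with hRdef
  have hRcj : ∀ (g : P) A B, R A B → R (Sp4Odd.cj g A) (Sp4Odd.cj g B) := by
    rintro g A B ⟨h1, h2⟩
    refine ⟨h1.cj g, fun A' h' => ?_⟩
    have h'' := InL.cj h' g⁻¹
    rw [cj_inv_cj] at h''
    rcases h2 _ h'' with h | h
    · exact Or.inl (by have := Same.cj g h; rwa [cj_cj_inv] at this)
    · exact Or.inr (by rw [← cj_cj_inv g A', ip_cj]; exact h)
  have hRc : R C.tv c := ⟨hc, hdom⟩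
  have hRu : ∀ B, R C.tv B → Same B c := fun B h => huniq B h.1 h.2
  have hcongr : ∀ A A' B, Same A A' → R A B → R A' B := fun A A' B e h =>
    ⟨h.1.same (Same.refl B) e.symm, fun X hX => h.2 X (hX.same (Same.refl X) e)⟩
  have hcongr' : ∀ A B B', Same B' B → R A B → R A B' := fun A B B' e h =>
    ⟨h.1.same e (Same.refl A), fun X hX => (h.2 X hX).imp (fun hs => hs.trans e.symm) (ip_same_zero e)⟩
  have hu : ∀ (g : P) (B B' : M4), R (Sp4Odd.cj g C.tv) B → R (Sp4Odd.cj g C.tv) B' → Same B B' := by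
    intro g B B' h h'
    have h1 := hRcj g⁻¹ _ _ h
    have h2 := hRcj g⁻¹ _ _ h'
    rw [cj_inv_cj] at h1 h2
    have := Same.cj g ((hRu _ h1).trans (hRu _ h2).symm)
    rwa [cj_cj_inv, cj_cj_inv] at this
  -- the base vector dominates the neighbours of `c`
  have hback : R c C.tv := by
    refine ⟨hc.symm_t, ?_⟩
    obtain ⟨g, hg⟩ := hc.1
    have hcard : {A | C.InL c A}.ncard = {A | C.InL C.tv A}.ncard := by rw [hg]; exact ncard_L g _
    have hct := hc.not_same C.red
    set S : Set M4 := {A | C.InL C.tv A} \ {c, -c} ∪ {C.tv, -C.tv} with hS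
    have hsub : S ⊆ {A | C.InL c A} := by
      rintro A (⟨hA, hA'⟩ | hA)
      · rcases hdom A hA with h | h
        · exact absurd h hA'
        · exact ⟨hA.1, h⟩
      · exact hc.symm_t.same hA (Same.refl c)
    have hne2 : ∀ A : M4, Red P A → A ≠ -A := fun A hA e => by
      have h0 := two_ne_mat C.hP.two_ne e
      have := hA.sq
      rw [h0, mul_zero] at this
      exact one_ne_zero4 this.symm
    have hcS : S.ncard = {A | C.InL C.tv A}.ncard := by
      have h1 : Disjoint ({A | C.InL C.tv A} \ {c, -c}) ({C.tv, -C.tv} : Set M4) := by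
        rw [Set.disjoint_left]
        rintro A ⟨hA, -⟩ hA'
        exact InL.not_same C.red hA hA'
      rw [hS, Set.ncard_union_eq h1, Set.ncard_sdiff (by
        rintro A (rfl | rfl)
        exacts [hc, hc.same (Or.inr rfl) (Same.refl _)]), Set.ncard_pair (hne2 _ hc.1.red),
        Set.ncard_pair (hne2 _ C.red)]
      have : 2 ≤ {A | C.InL C.tv A}.ncard := by
        refine (Set.ncard_pair (hne2 _ hc.1.red)).symm.le.trans (Set.ncard_le_ncard ?_)
        rintro A (rfl | rfl)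
        exacts [hc, hc.same (Or.inr rfl) (Same.refl _)]
      omega
    have heq : S = {A | C.InL c A} := Set.eq_of_subset_of_ncard_le hsub (by rw [hcard, hcS])
    intro A hA
    have hA' : A ∈ S := by rw [heq]; exact hA
    rcases hA' with ⟨hA', -⟩ | hA'
    · exact Or.inr hA'.2
    · exact Or.inl hA'
  have hsymm : ∀ A B, C.InCl A → R A B → R B A := by
    rintro A B ⟨g, rfl⟩ h
    have h' := hRcj g c C.tv hback
    exact hcongr _ _ _ (hu g _ _ (hRcj g C.tv c hRc) h) h'
  refine C.no_pairing R (fun A hA => ?_) (fun A B hA h e => InL.not_same hA.1.red h.1 e.symm)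
    (fun A B hA _ h => hsymm A B hA.1 h) (fun A B B' hA h h' => by
      obtain ⟨g, rfl⟩ := hA.1
      exact hu g B B' h h') hcongr
  obtain ⟨g, hg⟩ := hA.1
  obtain ⟨n, hn, hn'⟩ := C.fix.burnside hA.2 (g := g) (Or.inl hg.symm)
  have hR' : R A (Sp4Odd.cj n c) := hcongr _ _ _ hn' (hRcj n _ _ hRc)
  refine ⟨Sp4Odd.cj n c, ⟨hc.1.cj n, fun s hs => ?_⟩, hR'⟩
  have h1 : R A (Sp4Odd.cj s (Sp4Odd.cj n c)) := hcongr _ _ _ (hA.2 s hs) (hRcj s _ _ hR')
  rw [hg] at h1 hR'
  exact hu g _ _ h1 hR'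

/-- A red element outside the class orthogonal to all class neighbours of the base element is isolated. -/
theorem iso_perp {x : P} (hx : Red P x.1.1) (hxc : ¬ C.InCl x.1.1) (hxt : ip x.1.1 C.tv = 0)
    (hxL : ∀ A, C.InL C.tv A → ip x.1.1 A = 0)
    (hsp : ∀ c : P, C.InL C.tv c.1.1 → c ∈ (C.T : Subgroup P) → ∃ a b,
      C.InL C.tv a ∧ C.InL c.1.1 a ∧ C.InL C.tv b ∧ C.InL c.1.1 b ∧
      LinearIndependent F ![C.tv, c.1.1, a, b]) : False := by
  have h2 := C.hP.two_ne
  -- a vector orthogonal to the neighbourhood of a member in the Sylow subgroup is a multiple of `x`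
  have key : ∀ c : P, C.InL C.tv c.1.1 → c ∈ (C.T : Subgroup P) → ∀ y : P, Red P y.1.1 →
      ip y.1.1 C.tv = 0 → ip y.1.1 c.1.1 = 0 →
      (∀ a, C.InL C.tv a → C.InL c.1.1 a → ip y.1.1 a = 0) → Same y.1.1 x.1.1 := by
    intro c hc hcT y hy h1 h2' h3
    obtain ⟨a, b, hat, hac, hbt, hbc, hli⟩ := hsp c hc hcT
    have e := perp_four h2 hli (fun i => by fin_cases i <;>
      [exact C.red.w5; exact hc.1.red.w5; exact hat.1.red.w5; exact hbt.1.red.w5]) hx.w5 (hx.ip_self C.hP)
      (fun i => by fin_cases i <;> [exact hxt; exact hxL _ hc; exact hxL _ hat; exact hxL _ hbt]) hy.w5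
      (fun i => by fin_cases i <;> [exact h1; exact h2'; exact h3 a hat hac; exact h3 b hbt hbc])
    have hsq := hy.ip_self C.hP
    rw [e, ip_smul_left, ip_smul_right, hx.ip_self C.hP, mul_one] at hsq
    rcases mul_self_eq_one_iff.1 hsq with h | h
    · exact Or.inl (by rw [e, h, one_smul])
    · exact Or.inr (by rw [e, h, neg_one_smul])
  -- some member lies in the Sylow subgroup
  obtain ⟨u, hu⟩ := C.exists_L
  obtain ⟨u, rfl⟩ := hu.1.red.mem
  obtain ⟨c, hc, hcT⟩ := C.fix.conj_into (isPGroup_zpowers_of_sq hu.1.red.sq') (by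
    rw [Subgroup.zpowers_le, mem_cpm]
    right
    show Sp4Odd.cj u C.tv = -C.tv
    rw [cj_red C.hP hu.1.red C.red.w5, ip_comm]
    rw [show ip C.t.1.1 u.1.1 = 0 from hu.2, mul_zero, zero_smul, zero_sub])
  have hu' : C.InL C.tv (c * u * c⁻¹).1.1 := by
    rw [← cj_coe]; exact (hu.cj c).same (Same.refl _) hc.symm
  have huT := hcT _ (Subgroup.mem_zpowers _)
  have hfix : Fix C.T x.1.1 := by
    intro s hs
    obtain ⟨y, hy⟩ := (hx.cj C.hP s).mem
    have hperp : ∀ A, C.InL C.tv A → ip (Sp4Odd.cj s x.1.1) A = 0 := by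
      intro A hA
      have := hxL _ ((hA.cj s⁻¹).same (Same.refl _) (C.fix _ (inv_mem hs)).symm)
      rwa [← ip_cj s, cj_cj_inv] at this
    have ht : ip (Sp4Odd.cj s x.1.1) C.tv = 0 := by
      rw [ip_comm]
      refine ip_same_zero (C.fix s hs).symm ?_
      rw [ip_cj, ip_comm]; exact hxt
    rw [← hy] at hperp ht ⊢
    exact key _ hu' huT y (by rw [hy]; exact hx.cj C.hP s) ht (hperp _ hu') fun a ha _ => hperp a ha
  -- the perpendicular space of `x` is closed
  have closed : ∀ d, C.InCl d → ip x.1.1 d = 0 → ∀ A, C.InL d A → ip x.1.1 A = 0 := by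
    intro d hd hxd A hA
    obtain ⟨d, rfl⟩ := hd.red.mem
    obtain ⟨n, hn, hnT⟩ := hfix.conj_into (isPGroup_zpowers_of_sq hd.red.sq') (by
      rw [Subgroup.zpowers_le, mem_cpm]
      right
      show Sp4Odd.cj d x.1.1 = -x.1.1
      rw [cj_red C.hP hd.red hx.w5, ip_comm, hxd, mul_zero, zero_smul, zero_sub])
    have hdT := hnT _ (Subgroup.mem_zpowers _)
    have hd' : C.InCl (n * d * n⁻¹).1.1 := by rw [← cj_coe]; exact hd.cj n
    have hxd' : ip x.1.1 (n * d * n⁻¹).1.1 = 0 := by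
      rw [← cj_coe]
      refine ip_same_zero (A := Sp4Odd.cj n x.1.1) hn.symm ?_
      rw [ip_cj]; exact hxd
    have main : ∀ B, C.InL (n * d * n⁻¹).1.1 B → ip x.1.1 B = 0 := by
      rcases hd'.red.same_or_orth C.hP C.red (C.fix _ hdT) with h | h
      · intro B hB; exact hxL B (hB.same (Same.refl B) h)
      · have hdL : C.InL C.tv (n * d * n⁻¹).1.1 := ⟨hd', by rw [ip_comm]; exact h⟩
        obtain ⟨g, hg⟩ := hd'
        have hperp : ∀ B, C.InL (n * d * n⁻¹).1.1 B → ip (Sp4Odd.cj g x.1.1) B = 0 := by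
          intro B hB
          have h' := hB.cj g⁻¹
          rw [hg, cj_inv_cj] at h'
          have := hxL _ h'
          rwa [← ip_cj g, cj_cj_inv] at this
        have hd0 : ip (Sp4Odd.cj g x.1.1) (n * d * n⁻¹).1.1 = 0 := by rw [hg, ip_cj]; exact hxt
        obtain ⟨y, hy⟩ := (hx.cj C.hP g).mem
        rw [← hy] at hperp hd0
        have hs := key _ hdL hdT y (by rw [hy]; exact hx.cj C.hP g) (hperp _ hdL.symm_t) hd0
          fun a _ ha => hperp a ha
        intro B hB
        exact ip_same_zero hs.symm (hperp B hB)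
    have := main _ (by rw [← cj_coe]; exact hA.cj n)
    rw [← ip_cj n]
    exact ip_same_zero hn this
  obtain ⟨g, hgT, hne⟩ := C.hP.exists_other (hx.not_mem_pm C.hP) (by rw [hx.sq']; exact one_mem _) hfix
  have hgx : Red P (g * x * g⁻¹).1.1 := by rw [← cj_coe]; exact hx.cj C.hP g
  rcases hgx.same_or_orth C.hP C.red (C.fix _ hgT) with h | h
  · refine hxc ?_
    have := (inCl_t (C := C)).same h.symm |>.cj g⁻¹
    rwa [← cj_coe, cj_inv_cj] at this
  · have hperp : ∀ A, C.InL C.tv A → ip (Sp4Odd.cj g x.1.1) A = 0 := by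
      intro A hA
      rw [← cj_cj_inv g A, ip_cj]
      refine closed (Sp4Odd.cj g⁻¹ C.tv) (inCl_t.cj _) ?_ _ (hA.cj g⁻¹)
      rw [← ip_cj g, cj_cj_inv, cj_coe]; exact h
    rw [cj_coe] at hperp hne
    exact hne (key _ hu' huT _ hgx h (hperp _ hu') fun a ha _ => hperp a ha)

/-- The neighbours of the base element span more than a plane. -/
theorem planar {e f : M4} (he : C.InL C.tv e) (hf : C.InL C.tv f) (hef : ip e f = 0)
    (hspan : ∀ A, C.InL C.tv A → A ∈ Submodule.span F {e, f})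
    (hpair : ∀ A, C.InL C.tv A → ∃ B, C.InL C.tv B ∧ ip A B = 0) : False := by
  have h2 := C.hP.two_ne
  obtain ⟨a, rfl⟩ := he.1.red.mem
  obtain ⟨b, rfl⟩ := hf.1.red.mem
  set z := C.t * a * b with hz
  let U : Submodule F M4 := Submodule.span F {C.tv, a.1.1, b.1.1}
  have hte : ip C.t.1.1 a.1.1 = 0 := he.2
  have htf : ip C.t.1.1 b.1.1 = 0 := hf.2
  have hLU : ∀ A, C.InL C.tv A → A ∈ U := fun A hA =>
    Submodule.span_mono (Set.subset_insert _ _) (hspan A hA)
  have hUW : ∀ A ∈ U, W5 A := by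
    intro A hA
    refine (Submodule.span_le (p := (W5s : Submodule F M4))).2 ?_ hA
    rintro B (rfl | rfl | rfl)
    exacts [C.red.w5, he.1.red.w5, hf.1.red.w5]
  -- the three generators are orthonormal
  have coord : ∀ A ∈ U, A = ip C.t.1.1 A • C.t.1.1 + ip a.1.1 A • a.1.1 + ip b.1.1 A • b.1.1 := by
    intro A hA
    induction hA using Submodule.span_induction with
    | mem B hB =>
      rcases hB with rfl | rfl | rfl
      · simp [tv, C.red.ip_self C.hP, ip_comm a.1.1, ip_comm b.1.1, hte, htf]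
      · simp [he.1.red.ip_self C.hP, hte, ip_comm b.1.1, hef]
      · simp [hf.1.red.ip_self C.hP, htf, hef]
    | zero => simp [ip, tr4]
    | add B D _ _ hB hD =>
      conv_lhs => rw [hB, hD]
      rw [ip_add_right, ip_add_right, ip_add_right]
      module
    | smul c B _ hB =>
      conv_lhs => rw [hB]
      rw [ip_smul_right, ip_smul_right, ip_smul_right]
      module
  have hzf : ∀ A, W5 A → Sp4Odd.cj z A =
      (2 * ip C.t.1.1 A) • C.t.1.1 + (2 * ip a.1.1 A) • a.1.1 + (2 * ip b.1.1 A) • b.1.1 - A := fun A hA =>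
    cj_three C.hP C.red he.1.red hf.1.red hte htf hef hA
  have hzU : ∀ A ∈ U, Sp4Odd.cj z A = A := by
    intro A hA
    rw [hzf A (hUW A hA)]
    conv_rhs => rw [coord A hA]
    conv_lhs => arg 2; rw [coord A hA]
    module
  have hUz : ∀ A, W5 A → Sp4Odd.cj z A = A → A ∈ U := by
    intro A hA h
    rw [hzf A hA, sub_eq_iff_eq_add, ← two_smul F, mul_smul, mul_smul, mul_smul, ← smul_add, ← smul_add] at h
    rw [← smul_right_injective M4 h2 h]
    exact add_mem (add_mem (Submodule.smul_mem _ _ (Submodule.subset_span (Or.inl rfl)))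
      (Submodule.smul_mem _ _ (Submodule.subset_span (Or.inr (Or.inl rfl)))))
      (Submodule.smul_mem _ _ (Submodule.subset_span (Or.inr (Or.inr rfl))))
  have hz2 : z * z ∈ pm P := by
    right
    refine Units.ext ?_
    have hab : a.1.1 * b.1.1 = -(b.1.1 * a.1.1) := (he.1.red.w5.anticomm_iff h2 hf.1.red.w5).2 hef
    have hta : C.t.1.1 * a.1.1 = -(a.1.1 * C.t.1.1) := (C.red.w5.anticomm_iff h2 he.1.red.w5).2 hte
    have htb : C.t.1.1 * b.1.1 = -(b.1.1 * C.t.1.1) := (C.red.w5.anticomm_iff h2 hf.1.red.w5).2 htf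
    simp only [hz, Subgroup.coe_mul, Units.val_mul, Units.val_neg, Units.val_one]
    calc C.t.1.1 * a.1.1 * b.1.1 * (C.t.1.1 * a.1.1 * b.1.1)
        = C.t.1.1 * a.1.1 * (b.1.1 * C.t.1.1) * (a.1.1 * b.1.1) := by simp only [mul_assoc]
      _ = -(C.t.1.1 * (a.1.1 * C.t.1.1) * (b.1.1 * (a.1.1 * b.1.1))) := by
          rw [← neg_neg (b.1.1 * C.t.1.1), ← htb]; simp only [mul_assoc, mul_neg, neg_mul]
      _ = C.t.1.1 * C.t.1.1 * a.1.1 * (b.1.1 * (a.1.1 * b.1.1)) := by
          rw [← neg_neg (a.1.1 * C.t.1.1), ← hta]; simp only [mul_assoc, mul_neg, neg_mul, neg_neg]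
      _ = a.1.1 * (b.1.1 * (a.1.1 * b.1.1)) := by rw [C.red.sq, one_mul]
      _ = -(a.1.1 * (b.1.1 * (b.1.1 * a.1.1))) := by rw [hab]; simp only [mul_neg]
      _ = -1 := by rw [← mul_assoc b.1.1, hf.1.red.sq, one_mul, he.1.red.sq]
  have htU : C.tv ∈ U := Submodule.subset_span (Or.inl rfl)
  have hzn : z ∉ pm P := by
    intro h
    have hfix : ∀ A, W5 A → Sp4Odd.cj z A = A := fun A _ => by
      rw [cj_eq_iff]; rcases h with h | h <;> simp [h]
    have hall : (W5s : Submodule F M4) ≤ U := fun A hA => hUz A hA (hfix A hA)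
    have h5 := (Submodule.finrank_mono hall)
    rw [finrank_W5s] at h5
    have h3 : finrank F U ≤ 3 := by
      classical
      have := finrank_span_finset_le_card ({C.tv, a.1.1, b.1.1} : Finset M4) (R := F)
      rw [Set.finrank, Finset.coe_insert, Finset.coe_insert, Finset.coe_singleton] at this
      exact this.trans Finset.card_le_three
    omega
  -- elements stabilising the subspace fix `z` up to sign
  have sameU : ∀ g : P, (∀ A ∈ U, Sp4Odd.cj g A ∈ U) → Same (Sp4Odd.cj g z.1.1) z.1.1 := by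
    intro g hg
    have hgi : ∀ A ∈ U, Sp4Odd.cj g⁻¹ A ∈ U := by
      intro A hA
      have heq : U.map (cjEquiv g).toLinearMap = U :=
        Submodule.eq_of_le_of_finrank_eq (by rintro _ ⟨B, hB, rfl⟩; exact hg B hB) (LinearEquiv.finrank_map_eq _ U)
      obtain ⟨B, hB, rfl⟩ := Submodule.mem_map.1 (heq.symm ▸ hA : A ∈ U.map (cjEquiv g).toLinearMap)
      show Sp4Odd.cj g⁻¹ (Sp4Odd.cj g B) ∈ U
      rw [cj_inv_cj]; exact hB
    have hperp : ∀ A, W5 A → (∀ B ∈ U, ip B A = 0) → Sp4Odd.cj z A = -A := fun A hA h => by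
      rw [hzf A hA, h _ htU, h _ (Submodule.subset_span (Or.inr (Or.inl rfl))),
        h _ (Submodule.subset_span (Or.inr (Or.inr rfl)))]
      module
    have main : ∀ A, W5 A → Sp4Odd.cj (g * z * g⁻¹) A = Sp4Odd.cj z A := by
      intro A hA
      set B := ip C.t.1.1 A • C.t.1.1 + ip a.1.1 A • a.1.1 + ip b.1.1 A • b.1.1 with hBdef
      have hB : B ∈ U := add_mem (add_mem (Submodule.smul_mem _ _ htU)
        (Submodule.smul_mem _ _ (Submodule.subset_span (Or.inr (Or.inl rfl)))))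
        (Submodule.smul_mem _ _ (Submodule.subset_span (Or.inr (Or.inr rfl))))
      have hD : W5 (A + (-1 : F) • B) := hA.add ((hUW B hB).smul _)
      have hperpD : ∀ E ∈ U, ip E (A + (-1 : F) • B) = 0 := by
        intro E hE
        rw [ip_comm]
        refine ip_eq_zero_of_span ?_ hE
        rintro G (rfl | rfl | rfl) <;>
          simp [hBdef, ip_add_left, ip_smul_left, ip_neg_left, tv, C.red.ip_self C.hP, he.1.red.ip_self C.hP,
            hf.1.red.ip_self C.hP, hte, htf, hef, ip_comm a.1.1 C.t.1.1, ip_comm b.1.1 C.t.1.1,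
            ip_comm b.1.1 a.1.1, ip_comm A]
      have eU : Sp4Odd.cj (g * z * g⁻¹) B = B := by
        rw [cj_mul, cj_mul, hzU _ (hgi B hB), cj_cj_inv]
      have eD : Sp4Odd.cj (g * z * g⁻¹) (A + (-1 : F) • B) = -(A + (-1 : F) • B) := by
        rw [cj_mul, cj_mul, hperp _ (C.hP.W5_cj _ hD) fun E hE => by
          rw [← cj_inv_cj g E, ip_cj]; exact hperpD _ (hg E hE), cj_neg, cj_cj_inv]
      have e : A = B + (A + (-1 : F) • B) := by module
      conv_lhs => rw [e, cj_add, eU, eD]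
      conv_rhs => rw [e, cj_add, hzU B hB, hperp _ hD hperpD]
    rw [cj_coe]
    exact same_of_cj C.hP fun A hA => main A hA
  have hTU : ∀ s ∈ (C.T : Subgroup P), ∀ A ∈ U, Sp4Odd.cj s A ∈ U := by
    intro s hs A hA
    have hgen : ∀ B ∈ ({C.tv, a.1.1, b.1.1} : Set M4), Sp4Odd.cj s B ∈ U := by
      rintro B (rfl | rfl | rfl)
      · rcases C.fix s hs with h | h <;> rw [h]
        exacts [htU, neg_mem htU]
      · exact hLU _ ((he.cj s).same (Same.refl _) (C.fix s hs).symm)
      · exact hLU _ ((hf.cj s).same (Same.refl _) (C.fix s hs).symm)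
    exact (Submodule.map_span_le (cjEquiv s).toLinearMap _ U).2 hgen (Submodule.mem_map_of_mem hA)
  have hfix : Fix C.T z.1.1 := fun s hs => sameU s (hTU s hs)
  -- the neighbours of a member in the Sylow subgroup stay in the subspace
  have hT1 : ∀ d : P, C.InL C.tv d.1.1 → ∀ A, C.InL d.1.1 A → A ∈ U := by
    intro d hd A hA
    obtain ⟨g, hg⟩ := hd.1
    have hmap : ∀ X, C.InL d.1.1 X → X ∈ U.map (cjEquiv g).toLinearMap := by
      intro X hX
      have h' := hX.cj g⁻¹
      rw [hg, cj_inv_cj] at h'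
      exact ⟨_, hLU _ h', cj_cj_inv g X⟩
    obtain ⟨B, hB, hdB⟩ := hpair _ hd
    have hspanU : U ≤ U.map (cjEquiv g).toLinearMap := by
      have hBd : C.InL d.1.1 B := ⟨hB.1, hdB⟩
      set v : Fin 3 → M4 := ![C.tv, d.1.1, B] with hv
      have hli : LinearIndependent F v := by
        refine linearIndependent_of_orth (fun i => ?_) (fun i j hij => ?_)
        · fin_cases i <;> simp [hv, tv, C.red.ip_self C.hP, hd.1.red.ip_self C.hP, hB.1.red.ip_self C.hP]
        · fin_cases i <;> fin_cases j <;> first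
            | exact absurd rfl hij
            | simp [hv, hd.2, hB.2, hdB, ip_comm d.1.1 C.tv, ip_comm B C.tv, ip_comm B d.1.1]
      have hle : Submodule.span F (Set.range v) ≤ U.map (cjEquiv g).toLinearMap := by
        rw [Submodule.span_le]
        rintro _ ⟨i, rfl⟩
        fin_cases i
        · exact hmap _ hd.symm_t
        · exact ⟨C.tv, htU, hg.symm⟩
        · exact hmap _ hBd
      have hleU : Submodule.span F (Set.range v) ≤ U := by
        rw [Submodule.span_le]
        rintro _ ⟨i, rfl⟩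
        fin_cases i
        exacts [htU, hLU _ hd, hLU _ hB]
      have h3 : finrank F U ≤ finrank F (Submodule.span F (Set.range v)) := by
        classical
        rw [finrank_span_eq_card hli, Fintype.card_fin]
        have := finrank_span_finset_le_card ({C.tv, a.1.1, b.1.1} : Finset M4) (R := F)
        rw [Set.finrank, Finset.coe_insert, Finset.coe_insert, Finset.coe_singleton] at this
        exact this.trans Finset.card_le_three
      exact (Submodule.eq_of_le_of_finrank_le hleU h3).ge.trans hle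
    have := Submodule.eq_of_le_of_finrank_le hspanU (le_of_eq (LinearEquiv.finrank_map_eq _ U))
    exact this ▸ hmap A hA
  have closed : ∀ d, C.InCl d → d ∈ U → ∀ A, C.InL d A → A ∈ U := by
    intro d hd hdU A hA
    obtain ⟨d, rfl⟩ := hd.red.mem
    obtain ⟨n, hn, hnT⟩ := hfix.conj_into (isPGroup_zpowers_of_sq hd.red.sq') (by
      rw [Subgroup.zpowers_le, mem_cpm]
      left
      rw [cj_eq_iff]
      exact ((cj_eq_iff z _).1 (hzU _ hdU)).symm)
    have hnU : ∀ X, W5 X → Sp4Odd.cj n X ∈ U → X ∈ U := by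
      intro X hX h
      refine hUz X hX (cj_inj n ?_)
      have e : Sp4Odd.cj (n * z * n⁻¹) (Sp4Odd.cj n X) = Sp4Odd.cj z (Sp4Odd.cj n X) := by
        have hs : Same (n * z * n⁻¹).1.1 z.1.1 := by rw [← cj_coe]; exact hn
        exact cj_of_same hs _
      rw [← cj_mul, show n * z * n⁻¹ * n = n * z by group, cj_mul, hzU _ h] at e
      exact e
    have hd' : C.InCl (n * d * n⁻¹).1.1 := by rw [← cj_coe]; exact hd.cj n
    refine hnU A hA.1.red.w5 ?_
    have hA' : C.InL (n * d * n⁻¹).1.1 (Sp4Odd.cj n A) := by rw [← cj_coe]; exact hA.cj n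
    rcases hd'.red.same_or_orth C.hP C.red (C.fix _ (hnT _ (Subgroup.mem_zpowers _))) with h | h
    · exact hLU _ (hA'.same (Same.refl _) h)
    · exact hT1 _ ⟨hd', by rw [ip_comm]; exact h⟩ _ hA'
  obtain ⟨g, hgT, hne⟩ := C.hP.exists_other hzn hz2 hfix
  refine hne ?_
  have hcomm : Same (Sp4Odd.cj (g * z * g⁻¹) C.tv) C.tv := C.fix _ hgT
  set d := Sp4Odd.cj g⁻¹ C.tv with hd
  have hcd : C.InCl d := inCl_t.cj _
  have hd2 : Same (Sp4Odd.cj z d) d := by
    have := Same.cj g⁻¹ hcomm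
    rwa [← cj_mul, show g⁻¹ * (g * z * g⁻¹) = z * g⁻¹ by group, cj_mul] at this
  have hdU : d ∈ U := by
    rcases hd2 with h | h
    · exact hUz d hcd.red.w5 h
    · exfalso
      have htd : ip C.t.1.1 d = 0 := by
        have h0 := ip_cj z C.t.1.1 d
        rw [hzU _ htU, h, ← neg_one_smul F d, ip_smul_right] at h0
        exact (mul_eq_zero.1 (show (2 : F) * ip C.t.1.1 d = 0 by linear_combination -h0)).resolve_left h2
      have e := hzU _ (hLU d ⟨hcd, htd⟩)
      rw [e] at h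
      have e0 := two_ne_mat h2 h
      have := hcd.red.sq
      rw [e0, mul_zero] at this
      exact one_ne_zero4 this.symm
  refine sameU g fun A hA => ?_
  have hgen : ∀ B ∈ ({C.tv, a.1.1, b.1.1} : Set M4), Sp4Odd.cj g⁻¹ B ∈ U := by
    rintro B (rfl | rfl | rfl)
    · exact hdU
    · exact closed d hcd hdU _ (he.cj g⁻¹)
    · exact closed d hcd hdU _ (hf.cj g⁻¹)
  have heq : U.map (cjEquiv g⁻¹).toLinearMap = U :=
    Submodule.eq_of_le_of_finrank_eq ((Submodule.map_span_le _ _ U).2 hgen) (LinearEquiv.finrank_map_eq _ U)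
  obtain ⟨B, hB, rfl⟩ := Submodule.mem_map.1 (heq.symm ▸ hA : A ∈ U.map (cjEquiv g⁻¹).toLinearMap)
  show Sp4Odd.cj g (Sp4Odd.cj g⁻¹ B) ∈ U
  rw [cj_cj_inv]; exact hB

end Ctx

end CfsgLib.Sp4Odd
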