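import Cfsg.Agent.Lib.Sp4Odd.Dickson
import Cfsg.Agent.Lib.Sp4Odd.Intertwine

/-!
A projection onto the symmetric group of degree four with central kernel is impossible: the induced automorphism is
inner, so a lift of it intertwines the two blocks.
-/

set_option autoImplicit false
set_option maxHeartbeats 800000

namespace CfsgLib.Sp4Odd

open Matrix

variable {F : Type*} [Field F]

local notation "M2" => Matrix (Fin 2) (Fin 2) F

/-- The four-cycle. -/
def cyc4 : Equiv.Perm (Fin 4) := finRotate 4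

/-- The adjacent transposition. -/
def swp4 : Equiv.Perm (Fin 4) := Equiv.swap 0 1

set_option synthInstance.maxSize 1024 in
theorem gen_four_dec : ∀ a b : Equiv.Perm (Fin 4), a * a * (a * a) = 1 → a * a ≠ 1 → b * b = 1 → b ≠ 1 →
    a * b * (a * b) * (a * b) = 1 → a * b ≠ 1 → ∃ h, h * cyc4 * h⁻¹ = a ∧ h * swp4 * h⁻¹ = b := by
  decide +kernel

theorem center_four_dec : ∀ h : Equiv.Perm (Fin 4), h * cyc4 = cyc4 * h → h * swp4 = swp4 * h → h = 1 := by
  decide +kernel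

theorem rel_four : cyc4 * cyc4 * (cyc4 * cyc4) = 1 ∧ cyc4 * cyc4 ≠ 1 ∧ swp4 * swp4 = 1 ∧ swp4 ≠ 1 ∧
    cyc4 * swp4 * (cyc4 * swp4) * (cyc4 * swp4) = 1 ∧ cyc4 * swp4 ≠ 1 := by
  decide +kernel

theorem closure_four : Subgroup.closure ({cyc4, swp4} : Set (Equiv.Perm (Fin 4))) = ⊤ := by
  rw [← Equiv.Perm.closure_cycle_adjacent_swap (isCycle_finRotate (n := 2)) (support_finRotate (n := 2)) (0 : Fin 4)]
  congr 2

/-- An involutive automorphism of the symmetric group of degree four is conjugation by a square root of one. -/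
theorem exists_inner_four (θ : Equiv.Perm (Fin 4) →* Equiv.Perm (Fin 4)) (hinv : ∀ x, θ (θ x) = x) :
    ∃ h : Equiv.Perm (Fin 4), h * h = 1 ∧ ∀ x, θ x = h * x * h⁻¹ := by
  have hinj : Function.Injective θ := fun x y e => by rw [← hinv x, e, hinv]
  obtain ⟨r1, r2, r3, r4, r5, r6⟩ := rel_four
  have eq1 : ∀ {x}, θ x = 1 ↔ x = 1 := fun {x} => map_eq_one_iff θ hinj
  obtain ⟨h, hc, hs⟩ := gen_four_dec (θ cyc4) (θ swp4) (by rw [← map_mul, ← map_mul, r1, map_one])
    (by rw [← map_mul, Ne, eq1]; exact r2) (by rw [← map_mul, r3, map_one]) (by rw [Ne, eq1]; exact r4)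
    (by rw [← map_mul, ← map_mul, ← map_mul, r5, map_one]) (by rw [← map_mul, Ne, eq1]; exact r6)
  have hθ : θ = (MulAut.conj h).toMonoidHom := MonoidHom.eq_of_eqOn_dense closure_four (by
    rintro x (rfl | rfl)
    exacts [hc.symm, hs.symm])
  have hx : ∀ x, θ x = h * x * h⁻¹ := fun x => by rw [hθ]; rfl
  refine ⟨h, ?_, hx⟩
  have key : ∀ x, h * h * x = x * (h * h) := fun x => by
    have := hinv x
    rw [hx, hx] at this
    calc h * h * x = h * (h * x * h⁻¹) * h⁻¹ * (h * h) := by group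
      _ = x * (h * h) := by rw [this]
  exact center_four_dec _ (key _) (key _)

variable [Fintype F] {P : Subgroup (Matrix (Fin 2) (Fin 2) (Matrix (Fin 2) (Fin 2) F))ˣ}

/-- The symmetric group of degree four with central kernel is impossible. -/
theorem Normal.false_of_sym_four {C : Ctx P} (hN : Normal C)
    (himg : Img C.hP (⊤ : Subgroup (Equiv.Perm (Fin 4)))) (hK : KCent P) : False := by
  classical
  have hP := C.hP
  obtain ⟨φ, hφ, hker⟩ := himg
  have cm : ∀ u v : C.hP.gproj, (u * v).1.1 = u.1.1 * v.1.1 := fun _ _ => rfl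
  have hφe : ∀ {x y : C.hP.gproj}, φ x = φ y ↔ y.1.1 = x.1.1 ∨ y.1.1 = -x.1.1 := by
    intro x y
    rw [← inv_mul_eq_one, ← map_inv, ← map_mul, hker]
    show x.1.1.adjugate * y.1.1 = 1 ∨ x.1.1.adjugate * y.1.1 = -1 ↔ _
    constructor
    · rintro (e | e) <;> have e' := congrArg (fun X => x.1.1 * X) e <;>
        simp only [← mul_assoc, (adj_inv x.1.2).1, one_mul, mul_one, mul_neg] at e'
      exacts [Or.inl e', Or.inr e']
    · rintro (e | e) <;> rw [e]
      exacts [Or.inl (adj_inv x.1.2).2, Or.inr (by rw [mul_neg, (adj_inv x.1.2).2])]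
  have hsurj : Function.Surjective φ := MonoidHom.range_eq_top.1 hφ
  have hpart : ∀ a : C.hP.gproj, ∃ b : C.hP.gproj, In0 P a.1.1 b.1.1 := fun a => by
    obtain ⟨b, hb⟩ := a.2
    obtain ⟨g, hg, e⟩ := hP.exists_gproj ⟨a.1.1, hN.in0_swap hb⟩
    exact ⟨⟨g, hg⟩, by rw [show (⟨g, hg⟩ : C.hP.gproj).1.1 = b from e]; exact hb⟩
  have hwd : ∀ {a b a' b' : C.hP.gproj}, In0 P a.1.1 b.1.1 → In0 P a'.1.1 b'.1.1 → φ a = φ a' → φ b = φ b' :=
    fun {a b a' b'} h h' e => hφe.2 (hK.elim_pair hN h h' (hφe.1 e))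
  choose pt hpt using hpart
  choose pre hpre using hsurj
  have hval : ∀ {a b : C.hP.gproj}, In0 P a.1.1 b.1.1 → φ b = φ (pt (pre (φ a))) := fun {a b} h =>
    hwd h (hpt _) (hpre _).symm
  let θ : Equiv.Perm (Fin 4) →* Equiv.Perm (Fin 4) := MonoidHom.mk' (fun σ => φ (pt (pre σ))) fun σ τ => by
    have h := (hpt (pre σ)).mul (hpt (pre τ))
    have := hval (a := pre σ * pre τ) (b := pt (pre σ) * pt (pre τ)) (by
      rw [cm, cm]; exact h)
    rw [map_mul, map_mul, hpre, hpre] at this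
    exact this.symm
  have hθ : ∀ {a b : C.hP.gproj}, In0 P a.1.1 b.1.1 → φ b = θ (φ a) := fun h => hval h
  have hinv : ∀ σ, θ (θ σ) = σ := fun σ => by
    have h2 := hθ (hN.in0_swap (hpt (pre σ)))
    rw [hpre] at h2
    exact h2.symm
  obtain ⟨h, hh, hconj⟩ := exists_inner_four θ hinv
  obtain ⟨C', -, hN', hu⟩ := hN.exists_swap_mem
  obtain ⟨κ, hκ, hX⟩ : ∃ κ : F, κ ≠ 0 ∧ (pre h).1.1 * (pre h).1.1 = κ • 1 := by
    have hl : φ (pre h * pre h) = 1 := by rw [map_mul, hpre, hh]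
    rcases (hker _).1 hl with e | e <;> rw [cm] at e
    · exact ⟨1, one_ne_zero, by rw [one_smul]; exact e⟩
    · exact ⟨-1, neg_ne_zero.2 one_ne_zero, by rw [neg_one_smul]; exact e⟩
  refine hN'.false_of_intertwiner hu hX hκ fun a b hab => ?_
  obtain ⟨a', ha', ea⟩ := hP.exists_gproj ⟨b, hab.in0⟩
  obtain ⟨b', hb', eb⟩ := hP.exists_gproj ⟨a, hN.in0_swap hab.in0⟩
  have e1 : φ (⟨b', hb'⟩ * pre h) = φ (pre h * ⟨a', ha'⟩) := by
    rw [map_mul, map_mul, hpre, hθ (a := ⟨a', ha'⟩) (b := ⟨b', hb'⟩) (by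
      show In0 P a'.1 b'.1
      rw [ea, eb]; exact hab.in0), hconj, inv_mul_cancel_right]
  have e2 := hφe.1 e1
  rw [cm, cm] at e2
  simp only [ea, eb] at e2
  exact e2

end CfsgLib.Sp4Odd
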