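import Cfsg.Agent.Lib.Sp4Odd.SymFull
import Cfsg.Agent.Lib.Sp4Odd.SymFour
import Cfsg.Agent.Lib.Sp4Odd.Shift

/-!
The octahedral projection is impossible.
-/

set_option autoImplicit false
set_option maxHeartbeats 400000

namespace CfsgLib.Sp4Odd

open Matrix Equiv

theorem exists_three : ∀ x : Perm (Fin 4), ¬ InV x →
    (x ^ 3 = 1 ∧ x ≠ 1) ∨ ∃ v : Perm (Fin 4), (x * v * x⁻¹ * v⁻¹) ^ 3 = 1 ∧ x * v * x⁻¹ * v⁻¹ ≠ 1 := by
  decide +kernel

theorem even_coset : ∀ x : Perm (Fin 4), x ^ 3 = 1 → x ≠ 1 → ∀ y : Perm (Fin 4), Perm.sign y = 1 →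
    InV y ∨ InV (y * x) ∨ InV (y * x * x) := by
  decide +kernel

theorem exists_outer : ∀ x : Perm (Fin 4), InV (x * x) → ¬ InV x → ∀ y : Perm (Fin 4), InV (y * y) → ¬ InV y →
    InV (x * y * (x * y) * (x * y)) → ¬ InV (x * y) →
    ∃ r : Perm (Fin 4), InV (x⁻¹ * (r * cyc4 * r⁻¹)) ∧ InV (y⁻¹ * (r * swp4 * r⁻¹)) := by
  decide +kernel

theorem inV_sq : ∀ r : Perm (Fin 4), InV (cyc4⁻¹ * (r * r * cyc4 * (r * r)⁻¹)) →
    InV (swp4⁻¹ * (r * r * swp4 * (r * r)⁻¹)) → InV (r * r) := by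
  decide +kernel

theorem lift_facts : InV (cyc4 * cyc4) ∧ ¬ InV cyc4 ∧ InV (swp4 * swp4) ∧ ¬ InV swp4 ∧
    InV (cyc4 * swp4 * (cyc4 * swp4) * (cyc4 * swp4)) ∧ ¬ InV (cyc4 * swp4) := by
  decide +kernel

variable {F : Type*} [Field F]

local notation "M2" => Matrix (Fin 2) (Fin 2) F

variable [Fintype F] {P : Subgroup (Matrix (Fin 2) (Fin 2) (Matrix (Fin 2) (Fin 2) F))ˣ} {C : Ctx P}

/-- A member with central partner gives a neighbour. -/
theorem Normal.line_of_ker (hN : Normal C) {a : M2} (h : In0 P a 1) : In0 P a a.adjugate := by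
  have := h.mul (C.hP.in0_adj (hN.in0_swap h))
  rwa [adjugate_one, mul_one, one_mul] at this

namespace Octa

variable {φ : PMap C (⊤ : Subgroup (Perm (Fin 4)))} {i j : Matrix (Fin 2) (Fin 2) F}

/-- A large kernel: every member gives a neighbour. -/
theorem false_of_large (hO : Octa C φ i j) {k : M2} (hk : In0 P k 1)
    (hV : ¬ InV (φ.ev (a := k) ⟨1, hk⟩)) : False := by
  have hP := C.hP
  have hN := hO.quat.norm
  obtain ⟨c, hc, h3, hne⟩ : ∃ (c : M2) (hc : In0 P c 1),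
      φ.ev (a := c) ⟨1, hc⟩ ^ 3 = 1 ∧ φ.ev (a := c) ⟨1, hc⟩ ≠ 1 := by
    rcases exists_three _ hV with h | ⟨v, hv⟩
    · exact ⟨k, hk, h⟩
    obtain ⟨b, hb, rfl⟩ := φ.exists_ev (Subgroup.mem_top v)
    have hga : InG P k := ⟨1, hk⟩
    have hc : In0 P (k * b * k.adjugate * b.adjugate) 1 := by
      obtain ⟨b', hb'⟩ := hb
      have := ((hk.mul hb').mul (hP.in0_adj hk)).mul (hP.in0_adj hb')
      rwa [one_mul, adjugate_one, mul_one, (adj_inv (hP.in0_det hb').2).1] at this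
    refine ⟨_, hc, ?_⟩
    have e := φ.ev_congr rfl ⟨1, hc⟩ (((hga.mul hb).mul (hga.adj hP)).mul (hb.adj hP))
    rw [e, φ.ev_mul ((hga.mul hb).mul (hga.adj hP)) (hb.adj hP), φ.ev_mul (hga.mul hb) (hga.adj hP),
      φ.ev_mul hga hb, φ.ev_adj hga, φ.ev_adj hb]
    exact hv
  have hgc : InG P c := ⟨1, hc⟩
  have hcd := hgc.det hP
  have cancel : ∀ {a : M2}, In0 P (a * c) 1 → In0 P a 1 := fun {a} h => by
    have := h.mul (hP.in0_adj hc)
    rwa [mul_assoc, (adj_inv hcd).1, mul_one, adjugate_one, one_mul] at this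
  have heven : ∀ {a : M2} (ha : InG P a), Perm.sign (φ.ev ha) = 1 → In0 P a 1 := by
    intro a ha hs
    rcases even_coset _ h3 hne _ hs with h | h | h
    · exact hO.in0_of_inQ (hO.inQ_of_inV ha h)
    · rw [← φ.ev_mul ha hgc] at h
      exact cancel (hO.in0_of_inQ (hO.inQ_of_inV (ha.mul hgc) h))
    · rw [← φ.ev_mul ha hgc, ← φ.ev_mul (ha.mul hgc) hgc] at h
      exact cancel (cancel (hO.in0_of_inQ (hO.inQ_of_inV ((ha.mul hgc).mul hgc) h)))
  refine hO.false_of_all (fun a ha => ?_) hc h3 hne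
  obtain ⟨b, hab⟩ := ha
  have hga : InG P a := ⟨b, hab⟩
  have hgb : InG P b := ⟨a, hN.in0_swap hab⟩
  rcases Int.units_eq_one_or (Perm.sign (φ.ev hga)) with hs | hs
  · exact hN.line_of_ker (heven hga hs)
  rcases Int.units_eq_one_or (Perm.sign (φ.ev hgb)) with ht | ht
  · have h1 := hab.mul (hP.in0_adj (hN.in0_swap (heven hgb ht)))
    rw [adjugate_one, mul_one, (adj_inv (hP.in0_det hab).2).1] at h1
    exact hN.line_of_ker h1
  have h1 : In0 P (a * b) 1 := heven (hga.mul hgb) (by rw [φ.ev_mul hga hgb, map_mul, hs, ht]; rfl)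
  have h2 := hab.mul (hP.in0_adj (hN.in0_swap h1))
  rwa [adjugate_one, mul_one, adjugate_mul_distrib, ← mul_assoc, (adj_inv (hP.in0_det hab).2).1, one_mul] at h2

/-- The quaternion kernel: a change of the swap makes the position diagonal. -/
theorem false_of_small (hO : Octa C φ i j)
    (hK8 : ∀ (k : M2) (hk : InG P k), In0 P k 1 → InV (φ.ev hk)) : False := by
  have hP := C.hP
  have hN := hO.quat.norm
  have mV : ∀ {x y : Perm (Fin 4)}, InV x → InV y → InV (x * y) := fun hx hy => (inV_mul _ hx _ hy).1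
  have iV : ∀ {x : Perm (Fin 4)}, InV x → InV x⁻¹ := fun hx => (inV_mul _ hx _ hx).2.2
  have ker : ∀ {a : M2} (ha : InG P a), InV (φ.ev ha) ↔ In0 P a 1 :=
    fun ha => ⟨fun h => hO.in0_of_inQ (hO.inQ_of_inV ha h), hK8 _ ha⟩
  have ker2 : ∀ {a b : M2} (ha : InG P a) (hb : InG P b), In0 P a b → (InV (φ.ev ha) ↔ InV (φ.ev hb)) := by
    intro a b ha hb h
    have hd := hP.in0_det h
    rw [ker, ker]
    constructor
    · intro h'
      have := (hP.in0_adj h').mul h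
      rw [(adj_inv hd.1).2, adjugate_one, one_mul] at this
      exact hN.in0_swap this
    · intro h'
      have := h.mul (hP.in0_adj (hN.in0_swap h'))
      rwa [adjugate_one, mul_one, (adj_inv hd.2).1] at this
  obtain ⟨A, hA, eA⟩ := φ.exists_ev (Subgroup.mem_top cyc4)
  obtain ⟨B, hB, eB⟩ := φ.exists_ev (Subgroup.mem_top swp4)
  obtain ⟨A', hAA⟩ := id hA
  obtain ⟨B', hBB⟩ := id hB
  have hA' : InG P A' := ⟨A, hN.in0_swap hAA⟩
  have hB' : InG P B' := ⟨B, hN.in0_swap hBB⟩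
  obtain ⟨f1, f2, f3, f4, f5, f6⟩ := lift_facts
  obtain ⟨r, hrA, hrB⟩ := exists_outer (φ.ev hA')
    (by rw [← φ.ev_mul hA' hA', ← ker2 (hA.mul hA) _ (hAA.mul hAA), φ.ev_mul hA hA, eA]; exact f1)
    (by rw [← ker2 hA _ hAA, eA]; exact f2) (φ.ev hB')
    (by rw [← φ.ev_mul hB' hB', ← ker2 (hB.mul hB) _ (hBB.mul hBB), φ.ev_mul hB hB, eB]; exact f3)
    (by rw [← ker2 hB _ hBB, eB]; exact f4)
    (by
      rw [← φ.ev_mul hA' hB', ← φ.ev_mul (hA'.mul hB') (hA'.mul hB'),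
        ← φ.ev_mul ((hA'.mul hB').mul (hA'.mul hB')) (hA'.mul hB'),
        ← ker2 (((hA.mul hB).mul (hA.mul hB)).mul (hA.mul hB)) _ (((hAA.mul hBB).mul (hAA.mul hBB)).mul (hAA.mul hBB)),
        φ.ev_mul ((hA.mul hB).mul (hA.mul hB)) (hA.mul hB), φ.ev_mul (hA.mul hB) (hA.mul hB), φ.ev_mul hA hB, eA, eB]
      exact f5)
    (by rw [← φ.ev_mul hA' hB', ← ker2 (hA.mul hB) _ (hAA.mul hBB), φ.ev_mul hA hB, eA, eB]; exact f6)
  have hQ : ∀ σ : Perm (Fin 4), ∃ (a b : M2) (ha : InG P a) (hb : InG P b),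
      In0 P a b ∧ φ.ev ha = σ ∧ InV ((φ.ev hb)⁻¹ * (r * σ * r⁻¹)) := by
    intro σ
    have hσ : σ ∈ Subgroup.closure ({cyc4, swp4} : Set (Perm (Fin 4))) := by rw [closure_four]; trivial
    induction hσ using Subgroup.closure_induction with
    | mem x hx =>
      rcases hx with rfl | rfl
      exacts [⟨A, A', hA, hA', hAA, eA, hrA⟩, ⟨B, B', hB, hB', hBB, eB, hrB⟩]
    | one =>
      have h1 : InG P (1 : M2) := ⟨1, In0.one⟩
      refine ⟨1, 1, h1, h1, In0.one, (φ.ev_eq_one _).2 (Or.inl rfl), ?_⟩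
      rw [(φ.ev_eq_one h1).2 (Or.inl rfl), mul_one, mul_inv_cancel, inv_one, mul_one]
      exact inV_one
    | mul x y _ _ hx hy =>
      obtain ⟨a, b, ha, hb, h, ea, eb⟩ := hx
      obtain ⟨a', b', ha', hb', h', ea', eb'⟩ := hy
      refine ⟨a * a', b * b', ha.mul ha', hb.mul hb', h.mul h', by rw [φ.ev_mul ha ha', ea, ea'], ?_⟩
      have := mV (inV_conj _ eb (φ.ev hb')⁻¹) eb'
      rw [φ.ev_mul hb hb']
      convert this using 1
      group
    | inv x _ hx =>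
      obtain ⟨a, b, ha, hb, h, ea, eb⟩ := hx
      refine ⟨_, _, ha.adj hP, hb.adj hP, hP.in0_adj h, by rw [φ.ev_adj ha, ea], ?_⟩
      rw [φ.ev_adj hb]
      convert inV_conj _ (iV eb) (φ.ev hb) using 1
      group
  have rel : ∀ {a b : M2} (ha : InG P a) (hb : InG P b), In0 P a b →
      InV ((φ.ev hb)⁻¹ * (r * φ.ev ha * r⁻¹)) := by
    intro a b ha hb h
    obtain ⟨a', b', ha', hb', h', ea, eb⟩ := hQ (φ.ev ha)
    have h1 : InV (φ.ev ((hb.adj hP).mul hb')) := by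
      rw [← ker2 ((ha.adj hP).mul ha') _ ((hP.in0_adj h).mul h'), φ.ev_mul (ha.adj hP) ha', φ.ev_adj ha, ea,
        inv_mul_cancel]
      exact inV_one
    rw [φ.ev_mul (hb.adj hP) hb', φ.ev_adj hb] at h1
    convert mV h1 eb using 1
    group
  have hr2 : InV (r * r) := by
    have e1 := mV (rel hA' hA (hN.in0_swap hAA)) (inV_conj _ hrA r)
    have e2 := mV (rel hB' hB (hN.in0_swap hBB)) (inV_conj _ hrB r)
    rw [eA] at e1
    rw [eB] at e2
    refine inV_sq r ?_ ?_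
    · convert e1 using 1; group
    · convert e2 using 1; group
  obtain ⟨m, hm, rfl⟩ := φ.exists_ev (Subgroup.mem_top r)
  have hmd := hm.det hP
  have hmm : In0 P m m.adjugate := by
    obtain ⟨b, hmb⟩ := id hm
    have hb : InG P b := ⟨m, hN.in0_swap hmb⟩
    have h1 := mV (rel hm hb hmb) (iV hr2)
    have h2 : InV (φ.ev ((hb.adj hP).mul (hm.adj hP))) := by
      rw [φ.ev_mul (hb.adj hP) (hm.adj hP), φ.ev_adj hb, φ.ev_adj hm]
      convert h1 using 1; group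
    have := hmb.mul (hN.in0_swap ((ker _).1 h2))
    rwa [mul_one, ← mul_assoc, (adj_inv (hP.in0_det hmb).2).1, one_mul] at this
  obtain ⟨P', C', hN', hiff⟩ := hN.exists_shift hmm
  have hG : ∀ {a : M2}, InG P' a ↔ InG P a := fun {a} => by
    constructor
    · rintro ⟨b, hb⟩
      have := ((hm.adj hP).mul ⟨b, (hiff a b).1 hb⟩).mul hm
      rwa [← mul_assoc, ← mul_assoc, (adj_inv hmd).2, one_mul, mul_assoc, (adj_inv hmd).2, mul_one] at this
    · intro ha
      obtain ⟨b, hb⟩ := (hm.mul ha).mul (hm.adj hP)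
      exact ⟨b, (hiff a b).2 hb⟩
  have hg : C'.hP.gproj = C.hP.gproj := SetLike.ext fun g => hG
  let φ' : PMap C' (⊤ : Subgroup (Perm (Fin 4))) :=
    { hom := φ.hom.comp (MulEquiv.subgroupCongr hg).toMonoidHom
      range := by
        rw [MonoidHom.range_comp, MonoidHom.range_eq_top.2 (MulEquiv.subgroupCongr hg).surjective,
          ← MonoidHom.range_eq_map, φ.range]
      ker := fun g => φ.ker (MulEquiv.subgroupCongr hg g) }
  have ev' : ∀ {a : M2} (ha : InG P' a), φ'.ev ha = φ.ev (hG.1 ha) := fun _ => rfl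
  have conj0 : ∀ {a : M2} (ha : InG P a), InV (φ.ev ha) → In0 P (m * a * m.adjugate) 1 := fun {a} ha h => by
    refine (ker ((hm.mul ha).mul (hm.adj hP))).1 ?_
    rw [φ.ev_mul (hm.mul ha) (hm.adj hP), φ.ev_mul hm ha, φ.ev_adj hm]
    exact inV_conj _ h _
  have hgi : InG P i := hO.inG_of_inQ (InQ.left i j)
  have hgj : InG P j := hO.inG_of_inQ (InQ.right i j)
  have hO' : Octa C' φ' i j :=
    ⟨⟨hN', (hiff i 1).2 (conj0 hgi (hO.inV_of_inQ (InQ.left i j) hgi)),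
      (hiff j 1).2 (conj0 hgj (hO.inV_of_inQ (InQ.right i j) hgj)), hO.quat.ti, hO.quat.tj, hO.quat.anti⟩,
      fun hi hj => by rw [ev', ev']; exact hO.even _ _⟩
  refine hO'.false_of_diag (fun k hk h => ?_) (fun a ha => ?_)
  · rw [ev']
    have h1 := hK8 _ ((hm.mul (hG.1 hk)).mul (hm.adj hP)) ((hiff k 1).1 h)
    rw [φ.ev_mul (hm.mul (hG.1 hk)) (hm.adj hP), φ.ev_mul hm (hG.1 hk), φ.ev_adj hm] at h1
    convert inV_conj _ h1 (φ.ev hm)⁻¹ using 1
    group
  · have hga := hG.1 ha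
    obtain ⟨b, hb⟩ := ha
    refine (hiff a a).2 ?_
    have hb0 := (hiff a b).1 hb
    have hgb : InG P b := ⟨_, hN.in0_swap hb0⟩
    have h1 := rel ((hm.mul hga).mul (hm.adj hP)) hgb hb0
    rw [φ.ev_mul (hm.mul hga) (hm.adj hP), φ.ev_mul hm hga, φ.ev_adj hm] at h1
    have h2 : InV (φ.ev ((hgb.adj hP).mul hga)) := by
      rw [φ.ev_mul (hgb.adj hP) hga, φ.ev_adj hgb]
      convert mV h1 (mV hr2 (inV_conj _ (iV hr2) (φ.ev hga)⁻¹)) using 1
      group
    have := hb0.mul (hN.in0_swap ((ker _).1 h2))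
    rwa [mul_one, ← mul_assoc, (adj_inv (hP.in0_det hb0).2).1, one_mul] at this

end Octa

/-- The octahedral projection is impossible. -/
theorem Normal.false_of_perm_four (hN : Normal C) (himg : Img C.hP (⊤ : Subgroup (Perm (Fin 4)))) : False := by
  by_cases hK : KCent P
  · exact hN.false_of_sym_four himg hK
  obtain ⟨φ⟩ := Img.exists_pmap (C := C) himg
  obtain ⟨i, j, hQ, he⟩ := hN.exists_quat hK poly_perm_four φ
  have hO : Octa C φ i j := ⟨hQ, he⟩
  by_cases h : ∀ (k : M2) (hk : InG P k), In0 P k 1 → InV (φ.ev hk)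
  · exact hO.false_of_small h
  push Not at h
  obtain ⟨k, hk, h1, h2⟩ := h
  exact hO.false_of_large h1 (by rwa [φ.ev_congr rfl ⟨1, h1⟩ hk])

end CfsgLib.Sp4Odd
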