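import Cfsg.Agent.Lib.Sp4Odd.FieldMoved
import Cfsg.Agent.Lib.Sp4Odd.FourCase
import Cfsg.Agent.Lib.Sp4Odd.SymCase

/-!
No residual core contains a non-central involution of this kind.
-/

set_option autoImplicit false
set_option maxHeartbeats 400000

namespace CfsgLib.Sp4Odd

variable {F : Type*} [Field F] [Fintype F]
variable {P : Subgroup (Matrix (Fin 2) (Fin 2) (Matrix (Fin 2) (Fin 2) F))ˣ}

/-- The configuration of a group with a non-central involution is impossible. -/
theorem Hyp.false (hP : Hyp P) : False := by
  obtain ⟨P', C, hN⟩ := hP.exists_normal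
  obtain ⟨p, hp⟩ := CharP.exists F
  haveI : Fact p.Prime := ⟨CharP.char_is_prime F p⟩
  rcases hN.dickson p with h | h | h | ⟨M, K, h⟩
  · exact hN.false_of_alt_four h
  · exact hN.false_of_perm_four h
  · exact hN.false_of_alt_five h
  · exact (hN.map_dgU M).false_of_nf h

end CfsgLib.Sp4Odd
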