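import Mathlib

/-!
The symplectic group of dimension four as two-by-two matrices over the two-by-two matrices, the five-dimensional
space of self-adjoint trace zero matrices and the normal forms of its vectors.
-/

set_option autoImplicit false

namespace CfsgLib.Sp4Odd

open Matrix

variable {F : Type*} [Field F]

local notation "M2" => Matrix (Fin 2) (Fin 2) F
local notation "M4" => Matrix (Fin 2) (Fin 2) (Matrix (Fin 2) (Fin 2) F)

theorem adj_add (A B : M2) : (A + B).adjugate = A.adjugate + B.adjugate := by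
  ext i j; fin_cases i <;> fin_cases j <;> simp [adjugate_fin_two, add_comm]

theorem adj_smul (c : F) (A : M2) : (c • A).adjugate = c • A.adjugate := by
  ext i j; fin_cases i <;> fin_cases j <;> simp [adjugate_fin_two]

theorem adj_adj (A : M2) : A.adjugate.adjugate = A := by
  ext i j; fin_cases i <;> fin_cases j <;> simp [adjugate_fin_two]

theorem adj_zero : (0 : M2).adjugate = 0 := by simpa using adj_smul 0 (0 : M2)

theorem adj_neg (A : M2) : (-A).adjugate = -A.adjugate := by simpa using adj_smul (-1) A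

theorem add_adj (A : M2) : A + A.adjugate = A.trace • 1 := by
  ext i j; fin_cases i <;> fin_cases j <;> simp [adjugate_fin_two, trace_fin_two, add_comm]

theorem trace_adj (A : M2) : A.adjugate.trace = A.trace := by
  simp [adjugate_fin_two, trace_fin_two, add_comm]

theorem adj_eq_of_trace {A : M2} (h : A.trace = 0) : A.adjugate = -A := by
  have := add_adj A
  rw [h, zero_smul] at this
  exact (neg_eq_of_add_eq_zero_right this).symm

theorem det_neg2 (A : M2) : (-A).det = A.det := by simp [det_neg]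

theorem det_smul2 (c : F) (A : M2) : (c • A).det = c ^ 2 * A.det := by simp [det_smul]

/-- Cayley–Hamilton. -/
theorem sq_eq (A : M2) : A * A = A.trace • A - A.det • 1 := by
  ext i j; fin_cases i <;> fin_cases j <;> simp [mul_apply, trace_fin_two, det_fin_two] <;> ring

/-- The adjoint for the alternating form. -/
def st (A : M4) : M4 := of fun i j => (A j i).adjugate

theorem st_apply (A : M4) (i j : Fin 2) : st A i j = (A j i).adjugate := rfl

theorem st_mul (A B : M4) : st (A * B) = st B * st A := by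
  ext1 i j
  simp only [st_apply, mul_apply, Fin.sum_univ_two, adj_add, adjugate_mul_distrib]

theorem st_add (A B : M4) : st (A + B) = st A + st B := by
  ext1 i j; simp only [st_apply, Matrix.add_apply, adj_add]

theorem st_smul (c : F) (A : M4) : st (c • A) = c • st A := by
  ext1 i j; simp only [st_apply, Matrix.smul_apply, adj_smul]

theorem st_neg (A : M4) : st (-A) = -st A := by
  ext1 i j; simp only [st_apply, Matrix.neg_apply, adj_neg]

theorem st_one : st (1 : M4) = 1 := by
  ext1 i j; fin_cases i <;> fin_cases j <;> simp [st_apply, adj_zero, adjugate_one]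

theorem st_st (A : M4) : st (st A) = A := by
  ext1 i j; simp [st_apply, adj_adj]

/-- The full trace. -/
def tr4 (A : M4) : F := A.trace.trace

theorem tr4_comm (A B : M4) : tr4 (A * B) = tr4 (B * A) := by
  simp only [tr4, trace_fin_two A, Matrix.trace, diag, mul_apply, Fin.sum_univ_two, Matrix.add_apply]
  ring

theorem tr4_add (A B : M4) : tr4 (A + B) = tr4 A + tr4 B := by simp [tr4, trace_add]

theorem tr4_smul (c : F) (A : M4) : tr4 (c • A) = c * tr4 A := by simp [tr4, trace_smul]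

/-- The inner product of the five-dimensional space. -/
def ip (A B : M4) : F := tr4 (A * B) / 4

theorem ip_comm (A B : M4) : ip A B = ip B A := by rw [ip, ip, tr4_comm]

theorem ip_add_left (A B C : M4) : ip (A + B) C = ip A C + ip B C := by
  rw [ip, ip, ip, add_mul, tr4_add, add_div]

theorem ip_smul_left (c : F) (A B : M4) : ip (c • A) B = c * ip A B := by
  rw [ip, ip, smul_mul_assoc, tr4_smul, mul_div_assoc]

theorem ip_add_right (A B C : M4) : ip A (B + C) = ip A B + ip A C := by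
  rw [ip_comm, ip_add_left, ip_comm B, ip_comm C]

theorem ip_smul_right (c : F) (A B : M4) : ip A (c • B) = c * ip A B := by
  rw [ip_comm, ip_smul_left, ip_comm]

/-- Block diagonal matrices. -/
def dg (a b : M2) : M4 := !![a, 0; 0, b]

theorem dg_mul (a b c d : M2) : dg a b * dg c d = dg (a * c) (b * d) := by
  simp [dg, Matrix.mul_fin_two]

theorem dg_one : dg (1 : M2) 1 = 1 := by
  ext1 i j; fin_cases i <;> fin_cases j <;> simp [dg]

theorem st_dg (a b : M2) : st (dg a b) = dg a.adjugate b.adjugate := by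
  ext1 i j; fin_cases i <;> fin_cases j <;> simp [dg, st_apply, adj_zero]

theorem dg_inj {a b c d : M2} (h : dg a b = dg c d) : a = c ∧ b = d :=
  ⟨congr_fun₂ h 0 0, congr_fun₂ h 1 1⟩

/-- The vectors of the five-dimensional space. -/
def wv (l : F) (m : M2) : M4 := !![l • 1, m; m.adjugate, (-l) • 1]

/-- The base vector. -/
def tM : M4 := wv 1 0

/-- The vectors orthogonal to the base vector. -/
def uM (m : M2) : M4 := wv 0 m

theorem tM_eq : (tM : M4) = dg 1 (-1) := by simp [tM, wv, dg, adj_zero]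

theorem uM_eq (m : M2) : uM m = !![0, m; m.adjugate, 0] := by simp [uM, wv]

theorem wv_inj {l l' : F} {m m' : M2} (h : wv l m = wv l' m') : l = l' ∧ m = m' := by
  refine ⟨?_, congr_fun₂ h 0 1⟩
  have := congrArg (fun A : M2 => A 0 0) (congr_fun₂ h 0 0)
  simpa [wv] using this

theorem wv_add (l l' : F) (m m' : M2) : wv l m + wv l' m' = wv (l + l') (m + m') := by
  ext1 i j; fin_cases i <;> fin_cases j <;> simp [wv, adj_add, add_smul, add_comm]

theorem wv_smul (c l : F) (m : M2) : c • wv l m = wv (c * l) (c • m) := by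
  ext1 i j; fin_cases i <;> fin_cases j <;> simp [wv, adj_smul, smul_smul]

theorem wv_neg (l : F) (m : M2) : -wv l m = wv (-l) (-m) := by
  simpa using wv_smul (-1) l m

theorem wv_decomp (l : F) (m : M2) : wv l m = l • tM + uM m := by
  rw [tM, uM, wv_smul, wv_add]; simp

theorem st_wv (l : F) (m : M2) : st (wv l m) = wv l m := by
  ext1 i j; fin_cases i <;> fin_cases j <;>
    simp [wv, st_apply, adj_smul, adj_adj, adjugate_one, adj_neg]

theorem tr4_wv (l : F) (m : M2) : tr4 (wv l m) = 0 := by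
  simp [tr4, wv, trace_fin_two]

theorem wv_anti (l l' : F) (m m' : M2) :
    wv l m * wv l' m' + wv l' m' * wv l m = (2 * (l * l') + (m * m'.adjugate).trace) • (1 : M4) := by
  ext i j a b
  fin_cases i <;> fin_cases j <;> fin_cases a <;> fin_cases b <;>
    simp [wv, adjugate_fin_two, mul_apply, trace_fin_two, vecMul, dotProduct, Fin.sum_univ_two] <;> ring

theorem wv_sq (l : F) (m : M2) : wv l m * wv l m = (l ^ 2 + m.det) • (1 : M4) := by
  ext i j a b
  fin_cases i <;> fin_cases j <;> fin_cases a <;> fin_cases b <;>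
    simp [wv, adjugate_fin_two, mul_apply, det_fin_two, vecMul, dotProduct, Fin.sum_univ_two] <;> ring

theorem tr4_one : tr4 (1 : M4) = 4 := by
  simp only [tr4, Matrix.trace, diag, Fin.sum_univ_two, Matrix.add_apply, one_apply_eq]
  norm_num

theorem ip_wv (h2 : (2 : F) ≠ 0) (l l' : F) (m m' : M2) :
    ip (wv l m) (wv l' m') = l * l' + (m * m'.adjugate).trace / 2 := by
  have h := congrArg tr4 (wv_anti l l' m m')
  rw [tr4_add, tr4_smul, tr4_one, tr4_comm (wv l' m')] at h
  have e : tr4 (wv l m * wv l' m') = 4 * (l * l') + 2 * (m * m'.adjugate).trace := by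
    refine mul_left_cancel₀ h2 ?_
    linear_combination h
  have h4 : (4 : F) ≠ 0 := by
    rw [show (4 : F) = 2 * 2 by norm_num]; exact mul_ne_zero h2 h2
  rw [ip, e]
  field_simp
  ring

/-- Membership in the five-dimensional space. -/
def W5 (A : M4) : Prop := ∃ (l : F) (m : M2), A = wv l m

theorem W5.wv (l : F) (m : M2) : W5 (Sp4Odd.wv l m) := ⟨l, m, rfl⟩

theorem W5.tM : W5 (tM : M4) := ⟨1, 0, rfl⟩

theorem W5.uM (m : M2) : W5 (uM m) := ⟨0, m, rfl⟩

theorem W5.add {A B : M4} : W5 A → W5 B → W5 (A + B) := by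
  rintro ⟨l, m, rfl⟩ ⟨l', m', rfl⟩; exact ⟨_, _, wv_add l l' m m'⟩

theorem W5.smul {A : M4} (c : F) : W5 A → W5 (c • A) := by
  rintro ⟨l, m, rfl⟩; exact ⟨_, _, wv_smul c l m⟩

/-- The five-dimensional space. -/
def W5s : Submodule F M4 where
  carrier := {A | W5 A}
  add_mem' := W5.add
  zero_mem' := ⟨0, 0, by ext1 i j; fin_cases i <;> fin_cases j <;> simp [Sp4Odd.wv, adj_zero]⟩
  smul_mem' := fun c _ h => W5.smul c h

theorem scalar_of_adj_eq (h2 : (2 : F) ≠ 0) {A : M2} (h : A.adjugate = A) : ∃ l : F, A = l • 1 := by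
  refine ⟨A.trace / 2, ?_⟩
  have := add_adj A
  rw [h, ← two_smul F] at this
  rw [div_eq_inv_mul, ← smul_smul, ← this, smul_smul, inv_mul_cancel₀ h2, one_smul]

theorem W5_of_adjoint (h2 : (2 : F) ≠ 0) {A : M4} (hs : st A = A) (ht : tr4 A = 0) : W5 A := by
  obtain ⟨a, ha⟩ := scalar_of_adj_eq h2 (show (A 0 0).adjugate = A 0 0 from congr_fun₂ hs 0 0)
  obtain ⟨b, hb⟩ := scalar_of_adj_eq h2 (show (A 1 1).adjugate = A 1 1 from congr_fun₂ hs 1 1)
  have hba : b = -a := by
    have h : 2 * (a + b) = 0 := by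
      rw [← ht]
      simp only [tr4, Matrix.trace, diag, Fin.sum_univ_two, Matrix.add_apply, ha, hb, Matrix.smul_apply,
        one_apply_eq, smul_eq_mul]
      ring
    rcases mul_eq_zero.1 h with h | h
    · exact absurd h h2
    · linear_combination h
  refine ⟨a, A 0 1, ?_⟩
  ext1 i j
  fin_cases i <;> fin_cases j
  · simpa [Sp4Odd.wv] using ha
  · simp [Sp4Odd.wv]
  · simpa [Sp4Odd.wv] using (show (A 0 1).adjugate = A 1 0 from congr_fun₂ hs 1 0).symm
  · simpa [Sp4Odd.wv, hba] using hb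

theorem W5.adjoint {A : M4} : W5 A → st A = A := by rintro ⟨l, m, rfl⟩; exact st_wv l m

theorem W5.trace {A : M4} : W5 A → tr4 A = 0 := by rintro ⟨l, m, rfl⟩; exact tr4_wv l m

theorem W5.anti (h2 : (2 : F) ≠ 0) {A B : M4} :
    W5 A → W5 B → A * B + B * A = (2 * ip A B) • (1 : M4) := by
  rintro ⟨l, m, rfl⟩ ⟨l', m', rfl⟩
  rw [wv_anti, ip_wv h2]
  congr 1
  field_simp

/-- Similitudes. -/
def Sim (h : M4) : Prop := ∃ c : F, c ≠ 0 ∧ st h * h = c • (1 : M4)

/-- Isometries. -/
def Iso (h : M4) : Prop := st h * h = 1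

theorem Iso.sim {h : M4} (e : Iso h) : Sim h := ⟨1, one_ne_zero, by rw [one_smul]; exact e⟩

theorem Sim.st_inv {h : M4ˣ} (e : Sim h.1) :
    ∃ c : F, c ≠ 0 ∧ st h.1 = c • (h⁻¹).1 ∧ st (h⁻¹).1 = c⁻¹ • h.1 := by
  obtain ⟨c, hc, e⟩ := e
  have e1 : st h.1 = c • (h⁻¹).1 := by
    calc st h.1 = st h.1 * h.1 * (h⁻¹).1 := by rw [mul_assoc, Units.mul_inv, mul_one]
      _ = c • (h⁻¹).1 := by rw [e, smul_mul_assoc, one_mul]
  refine ⟨c, hc, e1, ?_⟩
  have e2 : st (h⁻¹).1 * st h.1 = 1 := by rw [← st_mul, Units.mul_inv, st_one]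
  rw [e1, mul_smul_comm] at e2
  have e3 := congrArg (fun A : M4 => c⁻¹ • (A * h.1)) e2
  simp only [smul_mul_assoc, mul_assoc, Units.inv_mul, mul_one, one_mul, smul_smul,
    inv_mul_cancel₀ hc, one_smul] at e3
  exact e3

theorem st_conj {h : M4ˣ} (e : Sim h.1) (A : M4) :
    st (h.1 * A * (h⁻¹).1) = h.1 * st A * (h⁻¹).1 := by
  obtain ⟨c, hc, e1, e2⟩ := e.st_inv
  simp only [st_mul, e1, e2, mul_smul_comm, smul_mul_assoc, smul_smul, mul_assoc]
  rw [mul_inv_cancel₀ hc, one_smul]

theorem W5.conj (h2 : (2 : F) ≠ 0) {h : M4ˣ} (e : Sim h.1) {A : M4} (hA : W5 A) :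
    W5 (h.1 * A * (h⁻¹).1) :=
  W5_of_adjoint h2 (by rw [st_conj e, hA.adjoint])
    (by rw [tr4_comm, ← mul_assoc, Units.inv_mul, one_mul, hA.trace])

theorem ip_conj (h : M4ˣ) (A B : M4) :
    ip (h.1 * A * (h⁻¹).1) (h.1 * B * (h⁻¹).1) = ip A B := by
  rw [ip, ip, show h.1 * A * (h⁻¹).1 * (h.1 * B * (h⁻¹).1) = h.1 * (A * B) * (h⁻¹).1 by
    simp [mul_assoc], tr4_comm, ← mul_assoc, Units.inv_mul, one_mul]

theorem Iso.conj {h g : M4ˣ} (e : Sim h.1) (hg : Iso g.1) : Iso (h * g * h⁻¹).1 := by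
  unfold Iso at hg ⊢
  rw [Units.val_mul, Units.val_mul, st_conj e, show h.1 * st g.1 * (h⁻¹).1 * (h.1 * g.1 * (h⁻¹).1) =
    h.1 * (st g.1 * g.1) * (h⁻¹).1 by simp [mul_assoc], hg, mul_one, Units.mul_inv]

theorem Sim.mul {g h : M4} : Sim g → Sim h → Sim (g * h) := by
  rintro ⟨c, hc, e⟩ ⟨d, hd, e'⟩
  refine ⟨c * d, mul_ne_zero hc hd, ?_⟩
  rw [st_mul, show st h * st g * (g * h) = st h * (st g * g) * h by simp [mul_assoc], e, mul_smul_comm,
    mul_one, smul_mul_assoc, e', smul_smul]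

theorem one_ne_zero4 : (1 : M4) ≠ 0 := fun h => by
  have := congrArg (fun A : M2 => A 0 0) (congr_fun₂ h 0 0)
  simp at this

theorem smul_one_inj {a b : F} (h : a • (1 : M4) = b • 1) : a = b := smul_left_injective F one_ne_zero4 h

/-- An isometric involution is central or a unit vector. -/
theorem invol_cases (h2 : (2 : F) ≠ 0) {A : M4} (hA : Iso A) (hsq : A * A = 1) :
    A = 1 ∨ A = -1 ∨ W5 A := by
  have hs : st A = A := by
    calc st A = st A * (A * A) := by rw [hsq, mul_one]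
      _ = A := by rw [← mul_assoc, show st A * A = 1 from hA, one_mul]
  obtain ⟨a, ha⟩ := scalar_of_adj_eq h2 (show (A 0 0).adjugate = A 0 0 from congr_fun₂ hs 0 0)
  obtain ⟨b, hb⟩ := scalar_of_adj_eq h2 (show (A 1 1).adjugate = A 1 1 from congr_fun₂ hs 1 1)
  have hc : A 1 0 = (A 0 1).adjugate := (show (A 0 1).adjugate = A 1 0 from congr_fun₂ hs 1 0).symm
  set m := A 0 1 with hm
  have e01 : (a + b) • m = 0 := by
    have := congr_fun₂ hsq 0 1
    simp only [mul_apply, Fin.sum_univ_two, one_apply_ne (by decide : (0 : Fin 2) ≠ 1)] at this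
    rw [ha, hb, ← hm] at this
    simpa [add_smul] using this
  by_cases hab : a + b = 0
  · refine Or.inr (Or.inr ⟨a, m, ?_⟩)
    ext1 i j
    fin_cases i <;> fin_cases j
    · simpa [Sp4Odd.wv] using ha
    · simp [Sp4Odd.wv, hm]
    · simpa [Sp4Odd.wv] using hc
    · simpa [Sp4Odd.wv, show b = -a by linear_combination hab] using hb
  · have hm0 : m = 0 := (smul_eq_zero.1 e01).resolve_left hab
    have ha2 : a * a = 1 := by
      have := congrArg (fun B : M2 => B 0 0) (congr_fun₂ hsq 0 0)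
      simpa [mul_apply, ha, hc, hm0, adj_zero, ← hm] using this
    have hb2 : b * b = 1 := by
      have := congrArg (fun B : M2 => B 0 0) (congr_fun₂ hsq 1 1)
      simpa [mul_apply, hb, hc, hm0, adj_zero, ← hm] using this
    have hba : b = a := by
      rcases mul_self_eq_mul_self_iff.1 (hb2.trans ha2.symm) with h | h
      · exact h
      · exact absurd (by rw [h]; ring) hab
    have hA : A = a • 1 := by
      ext1 i j
      fin_cases i <;> fin_cases j
      · simpa using ha
      · simp [← hm, hm0]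
      · simp [hc, hm0, adj_zero]
      · simpa [hba] using hb
    rcases mul_self_eq_one_iff.1 ha2 with h | h
    · exact Or.inl (by rw [hA, h, one_smul])
    · exact Or.inr (Or.inl (by rw [hA, h, neg_one_smul]))

theorem W5.anticomm_iff (h2 : (2 : F) ≠ 0) {A B : M4} (hA : W5 A) (hB : W5 B) :
    A * B = -(B * A) ↔ ip A B = 0 := by
  rw [← add_eq_zero_iff_eq_neg, hA.anti h2 hB]
  constructor
  · intro h
    rw [← zero_smul F (1 : M4)] at h
    exact (mul_eq_zero.1 (smul_one_inj h)).resolve_left h2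
  · intro h; rw [h, mul_zero, zero_smul]

theorem W5.comm_eq (h2 : (2 : F) ≠ 0) {A B : M4} (hA : W5 A) (hB : W5 B) (ha : A * A = 1) (hb : B * B = 1)
    (h : A * B = B * A) : B = A ∨ B = -A := by
  have e := hA.anti h2 hB
  rw [← h, ← two_smul F, ← smul_smul] at e
  have e1 : A * B = ip A B • (1 : M4) := smul_right_injective M4 h2 e
  have e2 : B = ip A B • A := by
    calc B = A * (A * B) := by rw [← mul_assoc, ha, one_mul]
      _ = ip A B • A := by rw [e1, mul_smul_comm, mul_one]
  have e3 : (ip A B * ip A B) • (1 : M4) = (1 : F) • (1 : M4) := by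
    rw [one_smul]
    conv_rhs => rw [← hb, e2, smul_mul_smul_comm, ha]
  rcases mul_self_eq_one_iff.1 (smul_one_inj e3) with h' | h'
  · exact Or.inl (by rw [e2, h', one_smul])
  · exact Or.inr (by rw [e2, h', neg_one_smul])

theorem ip_self (h2 : (2 : F) ≠ 0) {A : M4} (h : A * A = 1) : ip A A = 1 := by
  rw [ip, h, tr4_one, div_self]
  rw [show (4 : F) = 2 * 2 by norm_num]; exact mul_ne_zero h2 h2

theorem wv_one_iff (l : F) (m : M2) : wv l m * wv l m = 1 ↔ l ^ 2 + m.det = 1 := by
  rw [wv_sq]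
  exact ⟨fun h => smul_one_inj (h.trans (one_smul F (1 : M4)).symm), fun h => by rw [h, one_smul]⟩

theorem ip_tM_wv (h2 : (2 : F) ≠ 0) (l : F) (m : M2) : ip tM (wv l m) = l := by
  rw [tM, ip_wv h2]; simp

theorem ip_uM (h2 : (2 : F) ≠ 0) (m n : M2) : ip (uM m) (uM n) = (m * n.adjugate).trace / 2 := by
  rw [uM, uM, ip_wv h2]; simp

/-- The unit vectors orthogonal to the base vector. -/
theorem eq_uM (h2 : (2 : F) ≠ 0) {A : M4} (hA : W5 A) (hsq : A * A = 1) (h : ip tM A = 0) :
    ∃ m : M2, m.det = 1 ∧ A = uM m := by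
  obtain ⟨l, m, rfl⟩ := hA
  rw [ip_tM_wv h2] at h
  subst h
  exact ⟨m, by simpa using (wv_one_iff 0 m).1 hsq, rfl⟩

/-- The centraliser of the base vector. -/
theorem eq_dg_of_comm (h2 : (2 : F) ≠ 0) {g : M4} (hg : Iso g) (h : g * tM = tM * g) :
    ∃ a b : M2, a.det = 1 ∧ b.det = 1 ∧ g = dg a b := by
  have k : ∀ i j : Fin 2, (g * (tM : M4)) i j = ((tM : M4) * g) i j := fun i j => congr_fun₂ h i j
  have e01 : g 0 1 = 0 := by
    have := k 0 1
    simp [tM_eq, dg, mul_apply] at this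
    have : (2 : F) • g 0 1 = 0 := by rw [two_smul]; nth_rewrite 1 [← this]; simp
    exact (smul_eq_zero.1 this).resolve_left h2
  have e10 : g 1 0 = 0 := by
    have := k 1 0
    simp [tM_eq, dg, mul_apply] at this
    have : (2 : F) • g 1 0 = 0 := by rw [two_smul]; nth_rewrite 1 [this]; simp
    exact (smul_eq_zero.1 this).resolve_left h2
  have eg : g = dg (g 0 0) (g 1 1) := by
    ext1 i j; fin_cases i <;> fin_cases j <;> simp [dg, e01, e10]
  have := hg
  rw [Iso, eg, st_dg, dg_mul, ← dg_one] at this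
  obtain ⟨ha, hb⟩ := dg_inj this
  rw [adjugate_mul] at ha hb
  have hdet : ∀ d : F, d • (1 : M2) = 1 → d = 1 := fun d e => by
    simpa using congrArg (fun B : M2 => B 0 0) e
  exact ⟨_, _, hdet _ ha, hdet _ hb, eg⟩

theorem dg_uM (g h m : M2) :
    dg g h * uM m * dg g.adjugate h.adjugate = uM (g * m * h.adjugate) := by
  simp only [dg, uM_eq, Matrix.mul_fin_two, adjugate_mul_distrib, adj_adj, zero_mul, mul_zero, add_zero,
    zero_add, mul_assoc]

theorem uM_sq {m : M2} (hm : m.det = 1) : uM m * uM m = 1 := by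
  rw [uM, wv_one_iff]; simp [hm]

theorem uM_one_dg (a b : M2) : uM 1 * dg a b * uM 1 = dg b a := by
  simp [uM_eq, dg, Matrix.mul_fin_two, adjugate_one]

theorem tM_sq : (tM : M4) * tM = 1 := by
  rw [tM, wv_one_iff]; simp

/-- A unit vector can be moved to the base vector by a similitude. -/
theorem exists_sim_tM (h2 : (2 : F) ≠ 0) {A : M4} (hA : W5 A) (hsq : A * A = 1) :
    ∃ h : M4ˣ, Sim h.1 ∧ h.1 * A * (h⁻¹).1 = tM := by
  have main : ∀ l m, l + 1 ≠ 0 → l ^ 2 + m.det = 1 →
      ∃ h : M4ˣ, Sim h.1 ∧ h.1 * wv l m * (h⁻¹).1 = tM := by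
    intro l m hl hq
    have hw := (wv_one_iff l m).2 hq
    have hc : (2 * (l + 1) : F) ≠ 0 := mul_ne_zero h2 hl
    have e : (tM + wv l m) * (tM + wv l m) = (2 * (l + 1)) • (1 : M4) := by
      rw [add_mul, mul_add, mul_add, tM_sq, hw, show (1 : M4) + tM * wv l m + (wv l m * tM + 1) =
        (2 : F) • (1 : M4) + (tM * wv l m + wv l m * tM) by rw [two_smul]; abel,
        W5.anti h2 W5.tM (W5.wv l m), ip_tM_wv h2, ← add_smul]
      congr 1; ring
    refine ⟨⟨tM + wv l m, (2 * (l + 1))⁻¹ • (tM + wv l m), by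
      rw [mul_smul_comm, e, smul_smul, inv_mul_cancel₀ hc, one_smul], by
      rw [smul_mul_assoc, e, smul_smul, inv_mul_cancel₀ hc, one_smul]⟩, ?_, ?_⟩
    · exact ⟨2 * (l + 1), hc, by show st (tM + wv l m) * _ = _; rw [st_add, W5.tM.adjoint, st_wv, e]⟩
    · show (tM + wv l m) * wv l m * ((2 * (l + 1))⁻¹ • (tM + wv l m)) = tM
      rw [mul_smul_comm, show (tM + wv l m) * wv l m = tM * (tM + wv l m) by
        rw [add_mul, mul_add, hw, tM_sq, add_comm], mul_assoc, e, mul_smul_comm, mul_one, smul_smul,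
        inv_mul_cancel₀ hc, one_smul]
  obtain ⟨l, m, rfl⟩ := hA
  have hq := (wv_one_iff l m).1 hsq
  by_cases hl : l + 1 = 0
  · let w : M4ˣ := ⟨uM 1, uM 1, uM_sq (det_one), uM_sq det_one⟩
    have hl' : -l + 1 ≠ 0 := fun e => h2 (by linear_combination e + hl)
    obtain ⟨h, hh, e⟩ := main (-l) m.adjugate hl' (by
      rw [det_fin_two] at hq ⊢; simp [adjugate_fin_two]; linear_combination hq)
    refine ⟨h * w, Sim.mul hh (Iso.sim ?_), ?_⟩
    · show st (uM 1) * uM 1 = 1
      rw [(W5.uM 1).adjoint]; exact uM_sq det_one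
    · rw [_root_.mul_inv_rev, Units.val_mul, Units.val_mul]
      show h.1 * uM 1 * wv l m * (uM 1 * (h⁻¹).1) = tM
      rw [show h.1 * uM 1 * wv l m * (uM 1 * (h⁻¹).1) = h.1 * (uM 1 * wv l m * uM 1) * (h⁻¹).1 by
        simp [mul_assoc], show uM 1 * wv l m * uM 1 = wv (-l) m.adjugate by
        simp [uM_eq, wv, Matrix.mul_fin_two, adjugate_one, adj_adj]]
      exact e
  · exact main l m hl hq

/-- A similitude fixing the base vector moves any orthogonal unit vector to the swap. -/
theorem exists_sim_uM {m : M2} (hm : m.det = 1) :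
    ∃ h : M4ˣ, Sim h.1 ∧ h.1 * tM * (h⁻¹).1 = tM ∧ h.1 * uM m * (h⁻¹).1 = uM 1 := by
  refine ⟨⟨dg m.adjugate 1, dg m 1, by rw [dg_mul, adjugate_mul, hm, one_smul, one_mul, dg_one],
    by rw [dg_mul, mul_adjugate, hm, one_smul, one_mul, dg_one]⟩, ?_, ?_, ?_⟩
  · refine Iso.sim ?_
    show st (dg m.adjugate 1) * dg m.adjugate 1 = 1
    rw [st_dg, adj_adj, adjugate_one, dg_mul, mul_adjugate, hm, one_smul, one_mul, dg_one]
  · show dg m.adjugate 1 * tM * dg m 1 = tM
    rw [tM_eq, dg_mul, dg_mul, mul_one, adjugate_mul, hm, one_smul, one_mul, mul_one]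
  · show dg m.adjugate 1 * uM m * dg m 1 = uM 1
    have := dg_uM m.adjugate (1 : M2) m
    rw [adj_adj, adjugate_one, mul_one, adjugate_mul, hm, one_smul] at this
    exact this

end CfsgLib.Sp4Odd
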