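import Cfsg.Agent.Lib.Sp4Odd.Transport

/-!
The centraliser of the base vector in block coordinates, and the existence of orthogonal pairs of neighbours.
-/

set_option autoImplicit false
set_option maxHeartbeats 400000

namespace CfsgLib.Sp4Odd

open Matrix

variable {F : Type*} [Field F]

local notation "M2" => Matrix (Fin 2) (Fin 2) F
local notation "M4" => Matrix (Fin 2) (Fin 2) (Matrix (Fin 2) (Fin 2) F)

theorem smul_one_inj2 {a b : F} (h : a • (1 : M2) = b • 1) : a = b := by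
  simpa using congrArg (fun A : M2 => A 0 0) h

theorem adj_inv {A : M2} (h : A.det = 1) : A * A.adjugate = 1 ∧ A.adjugate * A = 1 :=
  ⟨by rw [mul_adjugate, h, one_smul], by rw [adjugate_mul, h, one_smul]⟩

theorem trace_one2 : (1 : M2).trace = 2 := by simp [trace_one]

/-- A square root of one of determinant one is central. -/
theorem eq_pm_of_sq (h2 : (2 : F) ≠ 0) {A : M2} (hd : A.det = 1) (hs : A * A = 1) : A = 1 ∨ A = -1 := by
  have h := sq_eq A
  rw [hs, hd, one_smul, eq_sub_iff_add_eq] at h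
  -- the trace is non-zero
  have ht : A.trace ≠ 0 := fun e => by
    rw [e, zero_smul] at h
    have := congrArg (fun B : M2 => B 0 0) h
    simp at this
    exact h2 (by linear_combination this)
  have hA : A = (2 / A.trace) • 1 := by
    rw [div_eq_inv_mul, ← smul_smul, two_smul, h, smul_smul, inv_mul_cancel₀ ht, one_smul]
  rw [hA, det_smul2, det_one, mul_one, pow_two, mul_self_eq_one_iff] at hd
  rw [hA]
  rcases hd with e | e <;> rw [e]
  · exact Or.inl (one_smul _ _)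
  · exact Or.inr (neg_one_smul _ _)

/-- A square root of minus one of determinant one has trace zero. -/
theorem trace_of_sq_neg {A : M2} (hd : A.det = 1) (hs : A * A = -1) : A.trace = 0 := by
  have h := sq_eq A
  rw [hs, hd, one_smul, eq_sub_iff_add_eq, neg_add_cancel, eq_comm] at h
  rcases smul_eq_zero.1 h with e | e
  · exact e
  · rw [e] at hd; simp at hd

variable [Fintype F] {P : Subgroup (Matrix (Fin 2) (Fin 2) (Matrix (Fin 2) (Fin 2) F))ˣ}

/-- The pairs of blocks occurring in the group. -/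
def In0 (P : Subgroup (Matrix (Fin 2) (Fin 2) (Matrix (Fin 2) (Fin 2) F))ˣ) (a b : M2) : Prop :=
  ∃ g : P, g.1.1 = dg a b

theorem In0.one : In0 P (1 : M2) 1 := ⟨1, by simp [dg_one]⟩

theorem In0.mul {a b c d : M2} : In0 P a b → In0 P c d → In0 P (a * c) (b * d) := by
  rintro ⟨g, hg⟩ ⟨h, hh⟩; exact ⟨g * h, by rw [Subgroup.coe_mul, Units.val_mul, hg, hh, dg_mul]⟩

theorem In0.pow {a b : M2} (h : In0 P a b) (n : ℕ) : In0 P (a ^ n) (b ^ n) := by
  induction n with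
  | zero => simpa using In0.one
  | succ n ih => rw [pow_succ, pow_succ]; exact ih.mul h

theorem Hyp.in0_det (hP : Hyp P) {a b : M2} (h : In0 P a b) : a.det = 1 ∧ b.det = 1 := by
  obtain ⟨g, hg⟩ := h
  have := hP.iso g.1 g.2
  rw [Iso, hg, st_dg, dg_mul, ← dg_one] at this
  obtain ⟨ha, hb⟩ := dg_inj this
  rw [adjugate_mul] at ha hb
  exact ⟨smul_one_inj2 (ha.trans (one_smul F (1 : M2)).symm), smul_one_inj2 (hb.trans (one_smul F (1 : M2)).symm)⟩

theorem Hyp.in0_adj (hP : Hyp P) {a b : M2} (h : In0 P a b) : In0 P a.adjugate b.adjugate := by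
  obtain ⟨g, hg⟩ := h
  refine ⟨g⁻¹, ?_⟩
  rw [Subgroup.coe_inv, ← st_dg, ← hg]
  calc (g.1⁻¹).1 = st g.1.1 * g.1.1 * (g.1⁻¹).1 := by rw [show st g.1.1 * g.1.1 = 1 from hP.iso g.1 g.2, one_mul]
    _ = st g.1.1 := by rw [mul_assoc, Units.mul_inv, mul_one]

theorem Hyp.in0_neg (hP : Hyp P) {a b : M2} (h : In0 P a b) : In0 P (-a) (-b) := by
  obtain ⟨g, hg⟩ := h
  refine ⟨hP.negOne * g, ?_⟩
  have e : (-1 : M4) = dg (-1 : M2) (-1) := by
    rw [← dg_one]; ext1 i j; fin_cases i <;> fin_cases j <;> simp [dg]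
  simp only [Hyp.negOne, Subgroup.coe_mul, Units.val_mul, Units.val_neg, Units.val_one, hg]
  rw [e, dg_mul, neg_one_mul, neg_one_mul]

theorem cj_of_dg {g : P} {a b : M2} (hg : g.1.1 = dg a b) (ha : a.det = 1) (hb : b.det = 1) (A : M4) :
    cj g A = dg a b * A * dg a.adjugate b.adjugate := by
  have hi : (g.1⁻¹).1 = dg a.adjugate b.adjugate := Units.inv_eq_of_mul_eq_one_right (by
    rw [hg, dg_mul, (adj_inv ha).1, (adj_inv hb).1, dg_one])
  rw [cj, hg, hi]

theorem Hyp.cj_uM (hP : Hyp P) {g : P} {a b : M2} (hg : g.1.1 = dg a b) (m : M2) :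
    cj g (uM m) = uM (a * m * b.adjugate) := by
  obtain ⟨ha, hb⟩ := hP.in0_det ⟨g, hg⟩
  rw [cj_of_dg hg ha hb, dg_uM]

theorem Hyp.cj_tM (hP : Hyp P) {g : P} {a b : M2} (hg : g.1.1 = dg a b) : cj g (tM : M4) = tM := by
  obtain ⟨ha, hb⟩ := hP.in0_det ⟨g, hg⟩
  rw [cj_of_dg hg ha hb, tM_eq, dg_mul, dg_mul, mul_one, (adj_inv ha).1, mul_neg, mul_one, neg_mul, (adj_inv hb).1]

theorem uM_inj {m n : M2} (h : uM m = uM n) : m = n := (wv_inj h).2

theorem uM_neg (m : M2) : uM (-m) = -uM m := by rw [uM, uM, wv_neg, neg_zero]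

theorem same_uM {m n : M2} : Same (uM m) (uM n) ↔ m = n ∨ m = -n := by
  constructor
  · rintro (h | h)
    · exact Or.inl (uM_inj h)
    · rw [← uM_neg] at h; exact Or.inr (uM_inj h)
  · rintro (rfl | rfl)
    · exact Same.refl _
    · exact Or.inr (uM_neg n)

theorem Hyp.ip_one_uM (hP : Hyp P) (m : M2) : ip (uM (1 : M2)) (uM m) = m.trace / 2 := by
  rw [ip_uM hP.two_ne, one_mul, trace_adj]

theorem dg_mul_uM (a b m : M2) : dg a b * uM m = !![0, a * m; b * m.adjugate, 0] := by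
  simp [dg, uM_eq, Matrix.mul_fin_two]

namespace Normal

variable {C : Ctx P}

theorem in0_t (hN : Normal C) : In0 P (1 : M2) (-1) :=
  ⟨C.t, by rw [show C.t.1.1 = tM from hN.base, tM_eq]⟩

theorem swap_red (hN : Normal C) : Red P (uM (1 : M2)) := hN.swap.1.red

theorem in0_swap (hN : Normal C) {a b : M2} (h : In0 P a b) : In0 P b a := by
  obtain ⟨u, hu⟩ := hN.swap_red.mem
  obtain ⟨g, hg⟩ := h
  exact ⟨u * g * u, by simp only [Subgroup.coe_mul, Units.val_mul, hu, hg, uM_one_dg]⟩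

theorem in0_of_comm {g : P} (h : cj g (tM : M4) = tM) (hP : Hyp P) :
    ∃ a b : M2, g.1.1 = dg a b := by
  obtain ⟨a, b, -, -, e⟩ := eq_dg_of_comm hP.two_ne (hP.iso g.1 g.2) ((cj_eq_iff g _).1 h)
  exact ⟨a, b, e⟩

/-- An element fixing the base line is diagonal or diagonal times the swap. -/
theorem cpm_cases (hN : Normal C) {g : P} (h : Same (cj g (tM : M4)) tM) :
    ∃ a b : M2, In0 P a b ∧ (g.1.1 = dg a b ∨ g.1.1 = dg a b * uM 1) := by
  obtain ⟨u, hu⟩ := hN.swap_red.mem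
  rcases h with h | h
  · obtain ⟨a, b, e⟩ := in0_of_comm h C.hP
    exact ⟨a, b, ⟨g, e⟩, Or.inl e⟩
  · have hu' : cj u (tM : M4) = -tM := by
      rw [cj_red C.hP (by rw [hu]; exact hN.swap_red) W5.tM, hu, ip_comm, hN.swap.2, mul_zero, zero_smul, zero_sub]
    have hgu : cj (g * u) (tM : M4) = tM := by rw [cj_mul, hu', cj_neg, h, neg_neg]
    obtain ⟨a, b, e⟩ := in0_of_comm hgu C.hP
    refine ⟨a, b, ⟨_, e⟩, Or.inr ?_⟩
    rw [← e, Subgroup.coe_mul, Units.val_mul, mul_assoc, hu, uM_sq det_one, mul_one]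

theorem red_uM_iff (hN : Normal C) {m : M2} : Red P (uM m) ↔ In0 P m m.adjugate := by
  obtain ⟨u, hu⟩ := hN.swap_red.mem
  have key : ∀ n : M2, dg n n.adjugate * uM (1 : M2) = uM n := fun n => by
    rw [dg_mul_uM, mul_one, adjugate_one, mul_one, uM_eq]
  constructor
  · intro h
    obtain ⟨g, hg⟩ := h.mem
    refine ⟨g * u, ?_⟩
    rw [Subgroup.coe_mul, Units.val_mul, hg, hu, ← key m, mul_assoc, uM_sq det_one, mul_one]
  · intro h
    have hd := (C.hP.in0_det h).1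
    obtain ⟨g, hg⟩ := h
    exact ⟨W5.uM m, uM_sq hd, g * u, by rw [Subgroup.coe_mul, Units.val_mul, hg, hu, key]⟩

theorem inL_eq (hN : Normal C) {A : M4} (h : C.InL C.tv A) :
    ∃ m : M2, In0 P m m.adjugate ∧ A = uM m := by
  obtain ⟨m, -, rfl⟩ := eq_uM C.hP.two_ne h.1.red.w5 h.1.red.sq (by
    have := h.2
    rwa [hN.base] at this)
  exact ⟨m, hN.red_uM_iff.1 h.1.red, rfl⟩

theorem inL_uM (hN : Normal C) {m : M2} (h : C.InCl (uM m)) : C.InL C.tv (uM m) :=
  ⟨h, by rw [hN.base, uM, ip_tM_wv C.hP.two_ne]⟩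

end Normal

/-- Moving the Sylow subgroup of the context so that it contains a given neighbour. -/
theorem Ctx.exists_resylow (C : Ctx P) {u : P} (hu : C.InL C.tv u.1.1) :
    ∃ C' : Ctx P, C'.t = C.t ∧ u ∈ (C'.T : Subgroup P) := by
  obtain ⟨c, hc, hcT⟩ := C.fix.conj_into (isPGroup_zpowers_of_sq hu.1.red.sq') (by
    rw [Subgroup.zpowers_le, mem_cpm]
    right
    show Sp4Odd.cj u C.tv = -C.tv
    rw [cj_red C.hP hu.1.red C.red.w5, ip_comm]
    rw [show ip C.t.1.1 u.1.1 = 0 from hu.2, mul_zero, zero_smul, zero_sub])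
  refine ⟨⟨C.hP, c⁻¹ • C.T, C.t, C.red, ?_⟩, rfl, ?_⟩
  · intro s hs
    rw [Sylow.coe_subgroup_smul] at hs
    obtain ⟨r, hr, rfl⟩ := hs
    show Same (Sp4Odd.cj (c⁻¹ * r * c⁻¹⁻¹) C.tv) C.tv
    rw [inv_inv, cj_mul, cj_mul]
    refine (Same.cj c⁻¹ ((Same.cj r hc).trans (C.fix r hr))).trans ?_
    have := Same.cj c⁻¹ hc
    rw [cj_inv_cj] at this
    exact this.symm
  · show u ∈ ((c⁻¹ • C.T : Sylow 2 P) : Subgroup P)
    rw [Sylow.coe_subgroup_smul]
    exact ⟨c * u * c⁻¹, hcT _ (Subgroup.mem_zpowers _),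
      show c⁻¹ * (c * u * c⁻¹) * c⁻¹⁻¹ = u by group⟩

theorem Ctx.inCl_congr {C C' : Ctx P} (h : C'.t = C.t) {A : M4} : C'.InCl A ↔ C.InCl A := by
  simp [Ctx.InCl, Ctx.tv, h]

theorem Ctx.inL_congr {C C' : Ctx P} (h : C'.t = C.t) {A B : M4} : C'.InL A B ↔ C.InL A B := by
  simp [Ctx.InL, Ctx.inCl_congr h]

theorem Normal.congr {C C' : Ctx P} (hN : Normal C) (h : C'.t = C.t) : Normal C' :=
  ⟨by rw [← hN.base]; simp [Ctx.tv, h], (Ctx.inL_congr h).2 hN.swap⟩

/-- Powers of a translation stay in the class. -/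
theorem Normal.pow_inCl {C : Ctx P} (hN : Normal C) {m : M2} (h : In0 P m m.adjugate)
    (hm : C.InCl (uM m)) : ∀ n : ℕ, C.InCl (uM (m ^ n))
  | 0 => by simpa using hN.swap.1
  | 1 => by simpa using hm
  | n + 2 => by
    obtain ⟨g, hg⟩ := h
    have := (Normal.pow_inCl hN ⟨g, hg⟩ hm n).cj g
    rw [C.hP.cj_uM hg, adj_adj] at this
    rwa [show m ^ (n + 2) = m * m ^ n * m by rw [← pow_succ', ← pow_succ]]

/-- The swap has an orthogonal partner among the neighbours. -/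
theorem Normal.pair_one {C : Ctx P} (hN : Normal C) :
    ∃ B, C.InL C.tv B ∧ ip (uM (1 : M2)) B = 0 := by
  obtain ⟨u, hu⟩ := hN.swap_red.mem
  have hu' : C.InL C.tv u.1.1 := by rw [hu, hN.base]; exact hN.swap
  obtain ⟨C', ht, huT⟩ := C.exists_resylow hu'
  have hN' := hN.congr ht
  suffices ∃ B, C'.InL C'.tv B ∧ ip (uM (1 : M2)) B = 0 by
    obtain ⟨B, hB, h0⟩ := this
    exact ⟨B, by
      rw [Ctx.inL_congr ht, show C'.tv = C.tv by simp [Ctx.tv, ht]] at hB
      exact hB, h0⟩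
  clear hu' ht hN
  have hcl : C'.InCl u.1.1 := hu ▸ hN'.swap.1
  have hne : ¬ Same u.1.1 C'.tv := by
    rw [hu, hN'.base]; exact hN'.swap.not_same (hN'.base ▸ C'.red)
  by_cases hfix : Fix C'.T u.1.1
  · obtain ⟨B, hB, hBt, hBu⟩ := C'.exists_third ⟨hcl, hfix⟩ hne
    refine ⟨B, ⟨hB.1, Ctx.om_t.orth hB hBt⟩, ?_⟩
    rw [← hu]
    exact Ctx.Om.orth ⟨hcl, hfix⟩ hB hBu
  · simp only [Fix, not_forall] at hfix
    obtain ⟨s, hs, hsu⟩ := hfix
    have hst : Same (cj s (tM : M4)) tM := hN'.base ▸ C'.fix s hs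
    -- a diagonal element moving the swap
    obtain ⟨r, hr, a, b, hrd, hru⟩ : ∃ r ∈ (C'.T : Subgroup P), ∃ a b : M2,
        r.1.1 = dg a b ∧ ¬ Same (cj r (uM 1)) (uM 1) := by
      obtain ⟨a, b, -, e | e⟩ := hN'.cpm_cases hst
      · exact ⟨s, hs, a, b, e, hu ▸ hsu⟩
      · refine ⟨s * u, mul_mem hs huT, a, b, ?_, ?_⟩
        · rw [Subgroup.coe_mul, Units.val_mul, e, hu, mul_assoc, uM_sq det_one, mul_one]
        · rw [cj_mul, ← hu]
          rw [show cj u u.1.1 = u.1.1 from (cj_eq_iff u _).2 rfl]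
          exact hsu
    obtain ⟨hda, hdb⟩ := C'.hP.in0_det ⟨r, hrd⟩
    set m := a * b.adjugate with hm
    have hcjr : cj r (uM 1) = uM m := by rw [C'.hP.cj_uM hrd, mul_one]
    have hmcl : C'.InCl (uM m) := hcjr ▸ hN'.swap.1.cj r
    have hmd : m.det = 1 := by rw [hm, det_mul, det_adjugate, hda, hdb]; simp
    set w := r * u * r⁻¹ * u with hw
    have hwT : w ∈ (C'.T : Subgroup P) := mul_mem (mul_mem (mul_mem hr huT) (inv_mem hr)) huT
    have hwd : w.1.1 = dg m m.adjugate := by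
      have hi : (r.1⁻¹).1 = dg a.adjugate b.adjugate := Units.inv_eq_of_mul_eq_one_right (by
        rw [hrd, dg_mul, (adj_inv hda).1, (adj_inv hdb).1, dg_one])
      simp only [hw, Subgroup.coe_mul, Subgroup.coe_inv, Units.val_mul, hrd, hu, hi]
      rw [mul_assoc, mul_assoc, ← mul_assoc (uM 1), uM_one_dg, dg_mul, hm, adjugate_mul_distrib, adj_adj]
    obtain ⟨k, hk⟩ := C'.T.2.exists_card_eq
    haveI : Fintype (C'.T : Subgroup P) := Fintype.ofFinite _
    have hwk : w ^ 2 ^ k = 1 := by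
      rw [← hk]
      exact congrArg Subtype.val (pow_card_eq_one' (x := (⟨w, hwT⟩ : (C'.T : Subgroup P))))
    have hmk : m ^ 2 ^ k = 1 := by
      have e : ∀ n : ℕ, (w ^ n).1.1 = dg (m ^ n) (m.adjugate ^ n) := fun n => by
        induction n with
        | zero => simp [dg_one]
        | succ n ih => rw [pow_succ, Subgroup.coe_mul, Units.val_mul, ih, hwd, dg_mul, pow_succ, pow_succ]
      have := e (2 ^ k)
      rw [hwk, show ((1 : P).1.1 : M4) = 1 from rfl, ← dg_one] at this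
      exact (dg_inj this).1.symm
    classical
    have hex : ∃ n : ℕ, m ^ 2 ^ n = 1 ∨ m ^ 2 ^ n = -1 := ⟨k, Or.inl hmk⟩
    obtain ⟨n, hn, hmin⟩ : ∃ n : ℕ, (m ^ 2 ^ n = 1 ∨ m ^ 2 ^ n = -1) ∧
        ∀ j < n, ¬ (m ^ 2 ^ j = 1 ∨ m ^ 2 ^ j = -1) :=
      ⟨Nat.find hex, Nat.find_spec hex, fun j hj => Nat.find_min hex hj⟩
    rcases n with _ | n
    · exfalso
      rw [pow_zero, pow_one] at hn
      exact hru (by rw [hcjr]; exact same_uM.2 hn)
    set i := m ^ 2 ^ n with hi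
    have hid : i.det = 1 := by rw [hi, det_pow, hmd, one_pow]
    have hi2 : i * i = -1 := by
      have hii : i * i = m ^ 2 ^ (n + 1) := by rw [hi, ← pow_add, pow_succ, mul_two]
      rw [← hii] at hn
      rcases hn with h | h
      · exact absurd (eq_pm_of_sq C'.hP.two_ne hid h) (hmin n (Nat.lt_succ_self n))
      · exact h
    refine ⟨uM i, hN'.inL_uM (hN'.pow_inCl ⟨w, hwd⟩ hmcl _), ?_⟩
    rw [C'.hP.ip_one_uM, trace_of_sq_neg hid hi2, zero_div]

/-- Every neighbour has an orthogonal partner among the neighbours. -/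
theorem Normal.pair {C : Ctx P} (hN : Normal C) {A : M4} (hA : C.InL C.tv A) :
    ∃ B, C.InL C.tv B ∧ ip A B = 0 := by
  obtain ⟨m, hm, rfl⟩ := hN.inL_eq hA
  obtain ⟨h, hs, ht, hu⟩ := exists_sim_uM (C.hP.in0_det hm).1
  have hN' : Normal (C.map hs) := ⟨(C.map_tv hs).trans (by rw [hN.base]; exact ht), by
    have := (C.inL_map hs).2 hA
    rwa [show kv h (uM m) = uM 1 from hu, hN.base, show kv h tM = tM from ht] at this⟩
  obtain ⟨B, hB, h0⟩ := hN'.pair_one
  have e : B = kv h (kv h⁻¹ B) := by rw [kv_kv, mul_inv_cancel]; simp [kv]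
  refine ⟨kv h⁻¹ B, ?_, ?_⟩
  · rw [← C.inL_map hs, ← e]
    rwa [C.map_tv hs] at hB
  · rw [show uM (1 : M2) = kv h (uM m) from hu.symm, e, kv, kv, ip_conj] at h0
    exact h0

end CfsgLib.Sp4Odd
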