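import Cfsg.Agent.Lib.Sp4Odd.Model
import Cfsg.Agent.Lib.ZStar.Main

/-!
The setting: a perfect subgroup of the four-dimensional symplectic group over a finite field of odd order, simple
modulo signs, without transvections and with a non-central involution.
-/

set_option autoImplicit false
set_option maxHeartbeats 1000000

namespace CfsgLib.Sp4Odd

open Matrix

variable {F : Type*} [Field F] [Fintype F]

local notation "M2" => Matrix (Fin 2) (Fin 2) F
local notation "M4" => Matrix (Fin 2) (Fin 2) (Matrix (Fin 2) (Fin 2) F)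

/-- The hypotheses on the group. -/
structure Hyp (P : Subgroup M4ˣ) : Prop where
  two_ne : (2 : F) ≠ 0
  iso : ∀ g ∈ P, Iso g.1
  perfect : ⁅P, P⁆ = P
  simple : ∀ N : Subgroup M4ˣ, N ≤ P → (∀ g ∈ P, ∀ n ∈ N, g * n * g⁻¹ ∈ N) →
    (∀ n ∈ N, n = 1 ∨ n = -1) ∨ N = P
  noTv : ∀ g ∈ P, ∀ h : M4ˣ, Sim h.1 → ∀ c : F, c ≠ 0 → (h * g * h⁻¹).1 ≠ dg !![1, c; 0, 1] 1
  exists_inv : ∃ g ∈ P, g * g = 1 ∧ g ≠ 1 ∧ g ≠ -1

variable {P : Subgroup (Matrix (Fin 2) (Fin 2) (Matrix (Fin 2) (Fin 2) F))ˣ}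

/-- The action by conjugation on matrices. -/
def cj (g : P) (A : M4) : M4 := g.1.1 * A * (g.1⁻¹).1

theorem cj_mul (g h : P) (A : M4) : cj (g * h) A = cj g (cj h A) := by
  simp [cj, mul_assoc]

theorem cj_one (A : M4) : cj (1 : P) A = A := by simp [cj]

theorem cj_inv_cj (g : P) (A : M4) : cj g⁻¹ (cj g A) = A := by rw [← cj_mul, inv_mul_cancel, cj_one]

theorem cj_cj_inv (g : P) (A : M4) : cj g (cj g⁻¹ A) = A := by rw [← cj_mul, mul_inv_cancel, cj_one]

theorem cj_neg (g : P) (A : M4) : cj g (-A) = -cj g A := by simp [cj]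

theorem cj_add (g : P) (A B : M4) : cj g (A + B) = cj g A + cj g B := by simp [cj, mul_add, add_mul]

theorem cj_smul (g : P) (c : F) (A : M4) : cj g (c • A) = c • cj g A := by simp [cj]

theorem cj_mul_mat (g : P) (A B : M4) : cj g (A * B) = cj g A * cj g B := by
  simp [cj, mul_assoc]

theorem cj_inj (g : P) {A B : M4} (h : cj g A = cj g B) : A = B := by
  rw [← cj_inv_cj g A, h, cj_inv_cj]

theorem cj_coe (g x : P) : cj g x.1.1 = (g * x * g⁻¹).1.1 := by simp [cj]

theorem cj_eq_iff (g : P) (A : M4) : cj g A = A ↔ g.1.1 * A = A * g.1.1 := by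
  constructor <;> intro h
  · calc g.1.1 * A = cj g A * g.1.1 := by simp [cj, mul_assoc]
      _ = A * g.1.1 := by rw [h]
  · simp [cj, h, mul_assoc]

theorem cj_eq_neg_iff (g : P) (A : M4) : cj g A = -A ↔ g.1.1 * A = -(A * g.1.1) := by
  constructor <;> intro h
  · calc g.1.1 * A = cj g A * g.1.1 := by simp [cj, mul_assoc]
      _ = -(A * g.1.1) := by rw [h, neg_mul]
  · simp [cj, h, mul_assoc]

theorem ip_cj (g : P) (A B : M4) : ip (cj g A) (cj g B) = ip A B := ip_conj g.1 A B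

theorem Hyp.W5_cj (hP : Hyp P) (g : P) {A : M4} (hA : W5 A) : W5 (cj g A) :=
  hA.conj hP.two_ne (hP.iso g.1 g.2).sim

/-- Equality of lines. -/
def Same (A B : M4) : Prop := A = B ∨ A = -B

theorem Same.refl (A : M4) : Same A A := Or.inl rfl

theorem Same.symm {A B : M4} : Same A B → Same B A := by
  rintro (rfl | rfl)
  · exact Or.inl rfl
  · exact Or.inr (by rw [neg_neg])

theorem Same.trans {A B C : M4} : Same A B → Same B C → Same A C := by
  rintro (rfl | rfl) (rfl | rfl)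
  · exact Or.inl rfl
  · exact Or.inr rfl
  · exact Or.inr rfl
  · exact Or.inl (neg_neg C)

theorem Same.cj {A B : M4} (g : P) : Same A B → Same (cj g A) (cj g B) := by
  rintro (rfl | rfl)
  · exact Or.inl rfl
  · exact Or.inr (cj_neg g B)

theorem two_ne_mat (h2 : (2 : F) ≠ 0) {A : M4} (h : A = -A) : A = 0 := by
  have : (2 : F) • A = 0 := by rw [two_smul]; nth_rewrite 2 [h]; exact add_neg_cancel A
  exact (smul_eq_zero.1 this).resolve_left h2

/-- The elements `1`, `-1`. -/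
def pm (P : Subgroup M4ˣ) : Subgroup P where
  carrier := {x | x.1 = 1 ∨ x.1 = -1}
  one_mem' := Or.inl rfl
  mul_mem' := by
    rintro a b (ha | ha) (hb | hb) <;>
      simp only [Set.mem_setOf_eq, Subgroup.coe_mul, ha, hb] <;> simp
  inv_mem' := by
    rintro a (ha | ha)
    · exact Or.inl (by simp [ha])
    · exact Or.inr (by rw [Subgroup.coe_inv, ha]; exact inv_eq_of_mul_eq_one_right (by simp))

theorem mem_pm {x : P} : x ∈ pm P ↔ x.1 = 1 ∨ x.1 = -1 := Iff.rfl

theorem pm_comm {x : P} (hx : x ∈ pm P) (g : P) : g * x = x * g := by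
  rcases hx with h | h <;> exact Subtype.ext (by simp [h])

instance : (pm P).Normal :=
  ⟨fun x hx g => by rw [pm_comm hx g, mul_inv_cancel_right]; exact hx⟩

/-- Commutation up to sign. -/
theorem comm_mk_iff (g x : P) :
    Commute (g : P ⧸ pm P) x ↔ Same (cj g x.1.1) x.1.1 := by
  rw [Commute, SemiconjBy, ← QuotientGroup.mk_mul, ← QuotientGroup.mk_mul, QuotientGroup.eq, mem_pm]
  have e : ((g * x)⁻¹ * (x * g)).1 = (g.1 * x.1)⁻¹ * (x.1 * g.1) := rfl
  rw [e, inv_mul_eq_iff_eq_mul, inv_mul_eq_iff_eq_mul, mul_one, mul_neg, mul_one]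
  refine or_congr ?_ ?_
  · rw [cj_eq_iff, Units.ext_iff, Units.val_mul, Units.val_mul]
    exact ⟨Eq.symm, Eq.symm⟩
  · rw [cj_eq_neg_iff, Units.ext_iff, Units.val_neg, Units.val_mul, Units.val_mul]
    constructor <;> intro h <;> rw [h, neg_neg]

/-- A non-central involution. -/
structure Red (P : Subgroup M4ˣ) (A : M4) : Prop where
  w5 : W5 A
  sq : A * A = 1
  mem : ∃ g : P, g.1.1 = A

theorem W5.ne_one (h2 : (2 : F) ≠ 0) {A : M4} (hA : W5 A) : A ≠ 1 := fun e => by
  have := hA.trace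
  rw [e, tr4_one] at this
  exact mul_ne_zero h2 h2 (by rw [← this]; norm_num)

theorem W5.ne_neg_one (h2 : (2 : F) ≠ 0) {A : M4} (hA : W5 A) : A ≠ -1 := fun e => by
  refine W5.ne_one h2 (hA.smul (-1)) ?_
  rw [e, neg_one_smul, neg_neg]

theorem Red.cj (hP : Hyp P) {A : M4} (hA : Red P A) (g : P) : Red P (cj g A) := by
  refine ⟨hP.W5_cj g hA.w5, by rw [← cj_mul_mat, hA.sq]; simp [Sp4Odd.cj], ?_⟩
  obtain ⟨x, rfl⟩ := hA.mem
  exact ⟨g * x * g⁻¹, (cj_coe g x).symm⟩

theorem Red.not_mem_pm (hP : Hyp P) {x : P} (hx : Red P x.1.1) : x ∉ pm P := by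
  rintro (h | h)
  · exact hx.w5.ne_one hP.two_ne (by rw [h]; rfl)
  · exact hx.w5.ne_neg_one hP.two_ne (by rw [h]; rfl)

theorem Hyp.invol (hP : Hyp P) {x : P} (hx : x.1 * x.1 = 1) : x ∈ pm P ∨ Red P x.1.1 := by
  have hsq : x.1.1 * x.1.1 = 1 := by rw [← Units.val_mul, hx]; rfl
  rcases invol_cases hP.two_ne (hP.iso x.1 x.2) hsq with h | h | h
  · exact Or.inl (Or.inl (Units.ext h))
  · exact Or.inl (Or.inr (Units.ext h))
  · exact Or.inr ⟨h, hsq, x, rfl⟩

theorem Red.ip_self (hP : Hyp P) {A : M4} (hA : Red P A) : ip A A = 1 := Sp4Odd.ip_self hP.two_ne hA.sq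

theorem Red.same_or_orth (hP : Hyp P) {x : P} {B : M4} (hx : Red P x.1.1) (hB : Red P B)
    (h : Same (Sp4Odd.cj x B) B) : Same B x.1.1 ∨ ip x.1.1 B = 0 := by
  rcases h with h | h
  · exact Or.inl (W5.comm_eq hP.two_ne hx.w5 hB.w5 hx.sq hB.sq ((cj_eq_iff x B).1 h))
  · exact Or.inr ((hx.w5.anticomm_iff hP.two_ne hB.w5).1 ((cj_eq_neg_iff x B).1 h))

theorem Hyp.nonscalar (hP : Hyp P) : ∃ x : P, x ∉ pm P := by
  obtain ⟨g, hg, -, h1, h2⟩ := hP.exists_inv
  exact ⟨⟨g, hg⟩, fun h => h.elim h1 h2⟩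

theorem Hyp.perfect' (hP : Hyp P) : commutator P = ⊤ := by
  refine Subgroup.map_injective P.subtype_injective ?_
  rw [commutator_def, Subgroup.map_commutator, ← MonoidHom.range_eq_map, Subgroup.range_subtype, hP.perfect]

theorem Hyp.simple' (hP : Hyp P) (N : Subgroup P) (hn : N.Normal) : N ≤ pm P ∨ N = ⊤ := by
  have h1 : ∀ g ∈ P, ∀ n ∈ N.map P.subtype, g * n * g⁻¹ ∈ N.map P.subtype := by
    intro g hg m hm
    obtain ⟨n, hn', rfl⟩ := Subgroup.mem_map.1 hm
    refine Subgroup.mem_map.2 ⟨(⟨g, hg⟩ : P) * n * (⟨g, hg⟩ : P)⁻¹, hn.conj_mem n hn' _, ?_⟩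
    simp only [map_mul, map_inv, Subgroup.subtype_apply]
  rcases hP.simple (N.map P.subtype) (Subgroup.map_subtype_le _) h1 with h | h
  · exact Or.inl fun n hn => mem_pm.2 (h n.1 (Subgroup.mem_map_of_mem _ hn))
  · refine Or.inr (Subgroup.map_injective P.subtype_injective ?_)
    rw [h, ← MonoidHom.range_eq_map, Subgroup.range_subtype]

theorem Hyp.simpleQ (hP : Hyp P) : IsSimpleGroup (P ⧸ pm P) := by
  obtain ⟨x, hx⟩ := hP.nonscalar
  haveI : Nontrivial (P ⧸ pm P) := ⟨⟨(x : P ⧸ pm P), 1, by rwa [Ne, QuotientGroup.eq_one_iff]⟩⟩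
  refine { eq_bot_or_eq_top_of_normal := fun N hN => ?_ }
  rcases hP.simple' _ (hN.comap (QuotientGroup.mk' (pm P))) with h | h
  · left
    rw [← Subgroup.map_comap_eq_self_of_surjective (QuotientGroup.mk'_surjective (pm P)) N, Subgroup.map_eq_bot_iff,
      QuotientGroup.ker_mk']
    exact h
  · right
    rw [← Subgroup.map_comap_eq_self_of_surjective (QuotientGroup.mk'_surjective (pm P)) N, h,
      Subgroup.map_top_of_surjective _ (QuotientGroup.mk'_surjective (pm P))]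

theorem Hyp.nonabelianQ (hP : Hyp P) : ∃ a b : P ⧸ pm P, a * b ≠ b * a := by
  by_contra hc
  push Not at hc
  obtain ⟨x, hx⟩ := hP.nonscalar
  have hle : commutator P ≤ pm P := by
    rw [commutator_def, Subgroup.commutator_le]
    intro a _ b _
    rw [← QuotientGroup.eq_one_iff, commutatorElement_def]
    simp [hc (a : P ⧸ pm P) b]
  exact hx (hle (hP.perfect' ▸ Subgroup.mem_top x))

theorem Hyp.noIndexTwo (hP : Hyp P) (M : Subgroup (P ⧸ pm P)) (hM : M.Normal) : M.index ≠ 2 := by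
  haveI := hP.simpleQ
  intro h2
  obtain ⟨a, b, hab⟩ := hP.nonabelianQ
  rcases hM.eq_bot_or_eq_top with rfl | rfl
  · rw [Subgroup.index_bot] at h2
    haveI : Fact (Nat.Prime 2) := ⟨Nat.prime_two⟩
    haveI := isCyclic_of_prime_card h2
    exact hab (IsCyclic.commGroup.mul_comm a b)
  · simp at h2

/-- No involution is isolated in a non-abelian simple group. -/
theorem not_isolated {X : Type*} [Group X] [Finite X] [IsSimpleGroup X] (hX : ∃ a b : X, a * b ≠ b * a)
    {u : X} (hu : orderOf u = 2) : ¬ Cfsg.IsIsolated u := by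
  intro hiso
  have hz := CfsgLib.ZStar.inZStar hu hiso
  have hnc : Subgroup.center X = ⊥ := by
    rcases (inferInstance : (Subgroup.center X).Normal).eq_bot_or_eq_top with h | h
    · exact h
    · obtain ⟨a, b, hab⟩ := hX
      exact absurd (Subgroup.mem_center_iff.1 (h ▸ Subgroup.mem_top b) a) hab
  have hu1 : u ≠ 1 := fun e => by rw [e, orderOf_one] at hu; omega
  rcases (inferInstance : (Cfsg.pPrimeCore 2 X).Normal).eq_bot_or_eq_top with h | h
  · have : u ∈ Subgroup.center X := Subgroup.mem_center_iff.2 fun g => by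
      have := hz g
      rw [h, Subgroup.mem_bot, mul_inv_eq_one, mul_inv_eq_iff_eq_mul] at this
      exact this
    rw [hnc, Subgroup.mem_bot] at this
    exact hu1 this
  · have h1 := CfsgLib.not_dvd_card_pPrimeCore (G := X) Nat.prime_two
    rw [h, Subgroup.card_top] at h1
    exact h1 ((dvd_of_eq hu.symm).trans (orderOf_dvd_natCard u))

theorem orderOf_mk_two {x : P} (hx : x ∉ pm P) (hx2 : x * x ∈ pm P) : orderOf (x : P ⧸ pm P) = 2 := by
  refine orderOf_eq_prime ?_ (by rwa [Ne, QuotientGroup.eq_one_iff])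
  rw [pow_two, ← QuotientGroup.mk_mul, QuotientGroup.eq_one_iff]; exact hx2

theorem mk_eq_mk_iff {x y : P} : (x : P ⧸ pm P) = y ↔ Same x.1.1 y.1.1 := by
  rw [QuotientGroup.eq, mem_pm, Subgroup.coe_mul, Subgroup.coe_inv, inv_mul_eq_iff_eq_mul,
    inv_mul_eq_iff_eq_mul, mul_one, mul_neg, mul_one]
  refine or_congr ⟨fun h => by rw [h], fun h => Units.ext h.symm⟩ ⟨fun h => by rw [h]; simp, fun h => ?_⟩
  exact Units.ext (by rw [Units.val_neg, h, neg_neg])

/-- An element of order two modulo signs has another conjugate commuting with it modulo signs. -/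
theorem Hyp.exists_move (hP : Hyp P) {x : P} (hx : x ∉ pm P) (hx2 : x * x ∈ pm P) :
    ∃ g : P, Same (cj x (cj g x.1.1)) (cj g x.1.1) ∧ ¬ Same (cj g x.1.1) x.1.1 := by
  haveI := hP.simpleQ
  have hni := not_isolated hP.nonabelianQ (orderOf_mk_two hx hx2)
  simp only [Cfsg.IsIsolated, not_forall] at hni
  obtain ⟨g, hc, hne⟩ := hni
  obtain ⟨g, rfl⟩ := QuotientGroup.mk'_surjective _ g
  have e : (QuotientGroup.mk' (pm P) g) * (x : P ⧸ pm P) * (QuotientGroup.mk' (pm P) g)⁻¹ =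
      ((g * x * g⁻¹ : P) : P ⧸ pm P) := by simp
  rw [e] at hc hne
  refine ⟨g, ?_, fun h => hne ?_⟩
  · rw [cj_coe g x]; exact (comm_mk_iff x _).1 hc
  · rw [mk_eq_mk_iff, ← cj_coe]; exact h

theorem Hyp.neg_one_mem (hP : Hyp P) : (-1 : M4ˣ) ∈ P := by
  by_contra hn
  have hpm : pm P = ⊥ := by
    rw [eq_bot_iff]
    rintro x (h | h)
    · exact Subtype.ext h
    · exact absurd (h ▸ x.2) hn
  obtain ⟨g, hg, hg2, hg1, hgn⟩ := hP.exists_inv
  set x : P := ⟨g, hg⟩
  have hxn : x ∉ pm P := fun h => h.elim hg1 hgn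
  obtain ⟨k, hc, hne⟩ := hP.exists_move hxn (by
    rw [show x * x = 1 from Subtype.ext hg2]; exact one_mem _)
  have hxr : Red P x.1.1 := (hP.invol hg2).resolve_left hxn
  have hk := hxr.cj hP k
  rcases hxr.same_or_orth hP hk hc with h | h
  · exact hne h
  obtain ⟨y, hy⟩ := hk.mem
  have hanti := (hxr.w5.anticomm_iff hP.two_ne hk.w5).2 h
  have hmem : (x * y * x⁻¹ * y⁻¹ : P).1 = -1 := by
    have e1 : x.1 * y.1 = -(y.1 * x.1) := Units.ext (by simp only [Units.val_mul, Units.val_neg, hy]; exact hanti)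
    simp only [Subgroup.coe_mul, Subgroup.coe_inv]
    rw [e1]; simp
  exact hn (hmem ▸ (x * y * x⁻¹ * y⁻¹).2)

/-- The element `-1`. -/
def Hyp.negOne (hP : Hyp P) : P := ⟨-1, hP.neg_one_mem⟩

/-- An involution is conjugate to its negative. -/
theorem Red.conj_neg (hP : Hyp P) {A : M4} (hA : Red P A) : ∃ g : P, Sp4Odd.cj g A = -A := by
  obtain ⟨x, rfl⟩ := hA.mem
  by_contra hc
  push Not at hc
  have hx2 : x.1 * x.1 = 1 := Units.ext hA.sq
  have hord : orderOf x = 2 := orderOf_eq_prime (by rw [pow_two]; exact Subtype.ext hx2)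
    fun e => hA.not_mem_pm hP (e ▸ one_mem _)
  have hiso : Cfsg.IsIsolated x := by
    intro g hg
    have hr : Red P (g * x * g⁻¹).1.1 := by rw [← cj_coe]; exact hA.cj hP g
    have hcomm : x.1.1 * (g * x * g⁻¹).1.1 = (g * x * g⁻¹).1.1 * x.1.1 :=
      congrArg (fun y : P => y.1.1) hg.eq
    rcases W5.comm_eq hP.two_ne hA.w5 hr.w5 hA.sq hr.sq hcomm with h | h
    · exact Subtype.ext (Units.ext h)
    · exact absurd (by rw [cj_coe]; exact h) (hc g)
  have hz := CfsgLib.ZStar.inZStar hord hiso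
  have hcore : Cfsg.pPrimeCore 2 P ≤ pm P := by
    refine (hP.simple' _ inferInstance).resolve_right fun htop => ?_
    have h1 := CfsgLib.not_dvd_card_pPrimeCore (G := P) Nat.prime_two
    rw [htop, Subgroup.card_top] at h1
    exact h1 ((dvd_of_eq hord.symm).trans (orderOf_dvd_natCard x))
  have hcen : ∀ g : P, Commute (x : P ⧸ pm P) g := fun g => by
    have := hcore (hz g)
    rw [← QuotientGroup.eq_one_iff] at this
    simp only [QuotientGroup.mk_mul, QuotientGroup.mk_inv] at this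
    rw [mul_inv_eq_one, mul_inv_eq_iff_eq_mul] at this
    exact this.symm
  haveI := hP.simpleQ
  obtain ⟨a, b, hab⟩ := hP.nonabelianQ
  have hxc : (x : P ⧸ pm P) ∈ Subgroup.center (P ⧸ pm P) := Subgroup.mem_center_iff.2 fun g => by
    obtain ⟨g, rfl⟩ := QuotientGroup.mk'_surjective _ g
    exact (hcen g).eq.symm
  rcases (inferInstance : (Subgroup.center (P ⧸ pm P)).Normal).eq_bot_or_eq_top with h | h
  · rw [h, Subgroup.mem_bot, QuotientGroup.eq_one_iff] at hxc
    exact hA.not_mem_pm hP hxc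
  · exact hab (Subgroup.mem_center_iff.1 (h ▸ Subgroup.mem_top b) a)

theorem Red.neg (hP : Hyp P) {A : M4} (hA : Red P A) : Red P (-A) := by
  obtain ⟨g, hg⟩ := hA.conj_neg hP
  rw [← hg]; exact hA.cj hP g

/-- An involution has a conjugate anticommuting with it. -/
theorem Red.exists_orth (hP : Hyp P) {A : M4} (hA : Red P A) : ∃ g : P, ip A (Sp4Odd.cj g A) = 0 := by
  obtain ⟨x, rfl⟩ := hA.mem
  obtain ⟨g, hc, hne⟩ := hP.exists_move (hA.not_mem_pm hP)
    (by rw [show x * x = 1 from Subtype.ext (Units.ext hA.sq)]; exact one_mem _)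
  exact ⟨g, (hA.same_or_orth hP (hA.cj hP g) hc).resolve_left hne⟩

end CfsgLib.Sp4Odd
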