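import Cfsg.Agent.Lib.Sp4Odd.Dickson
import Cfsg.Agent.Lib.Sp4Odd.Intertwine

/-!
Polyhedral projections: the quaternion frame in the kernel, and coordinates in it.
-/

set_option autoImplicit false
set_option maxHeartbeats 400000

namespace CfsgLib.Sp4Odd

open Matrix Equiv

/-- An even involution. -/
def EvenInv {n : ℕ} (x : Perm (Fin n)) : Prop := x ≠ 1 ∧ x * x = 1 ∧ Perm.sign x = 1

instance {n : ℕ} : DecidablePred (EvenInv (n := n)) := fun x => by unfold EvenInv; infer_instance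

/-- An even involution or an element of order three. -/
def InvOrThree {n : ℕ} (x : Perm (Fin n)) : Prop := EvenInv x ∨ (x ^ 3 = 1 ∧ x ≠ 1)

instance {n : ℕ} : DecidablePred (InvOrThree (n := n)) := fun x => by unfold InvOrThree; infer_instance

/-- The facts needed about a polyhedral group of permutations. -/
structure Poly {n : ℕ} (R : Subgroup (Perm (Fin n))) : Prop where
  inv_comm : ∀ x ∈ R, x ≠ 1 → EvenInv x ∨ ∃ v ∈ R, InvOrThree (x * v * x⁻¹ * v⁻¹)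
  three_comm : ∀ x ∈ R, x ^ 3 = 1 → x ≠ 1 → ∃ v ∈ R, EvenInv (x * v * x⁻¹ * v⁻¹)
  partner : ∀ y ∈ R, EvenInv y → ∃ g ∈ R, g * y * g⁻¹ ≠ y ∧ g * y * g⁻¹ * y = y * (g * y * g⁻¹)
  klein : ∀ y ∈ R, EvenInv y → ∀ z ∈ R, EvenInv z → y ≠ z → y * z = z * y → ∀ w ∈ R, EvenInv w → y * w = w * y →
    w = y ∨ w = z ∨ w = y * z
  two : ∀ x ∈ R, x ^ 4 = 1 ∨ x ^ 3 = 1 ∨ x ^ 5 = 1

theorem poly_alt_four : Poly (alternatingGroup (Fin 4)) := by
  constructor <;> simp only [Equiv.Perm.mem_alternatingGroup] <;> decide +kernel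

theorem poly_perm_four : Poly (⊤ : Subgroup (Perm (Fin 4))) := by
  constructor <;> simp only [Subgroup.mem_top, true_and, forall_true_left] <;> decide +kernel

set_option maxHeartbeats 2000000 in
theorem poly_alt_five : Poly (alternatingGroup (Fin 5)) := by
  constructor <;> simp only [Equiv.Perm.mem_alternatingGroup] <;> decide +kernel

variable {F : Type*} [Field F]

local notation "M2" => Matrix (Fin 2) (Fin 2) F

/-- Powers and traces. -/
theorem trace_of_pow_three {a : M2} (hd : a.det = 1) (h : a ^ 3 = 1 ∨ a ^ 3 = -1) :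
    a = 1 ∨ a = -1 ∨ a.trace ^ 2 = 1 := by
  have e : a ^ 3 = (a.trace ^ 2 - 1) • a - a.trace • 1 := by
    rw [pow_succ, pow_two, sq_eq, hd, one_smul, sub_mul, smul_mul_assoc, sq_eq, hd, one_smul, one_mul]
    module
  by_cases ht : a.trace ^ 2 = 1
  · exact Or.inr (Or.inr ht)
  have key : ∀ ε : F, a ^ 3 = ε • 1 → ∃ α : F, a = α • 1 := fun ε he => by
    rw [e, sub_eq_iff_eq_add] at he
    exact ⟨(a.trace ^ 2 - 1)⁻¹ * (ε + a.trace), by
      rw [← smul_smul, add_smul, ← he, smul_smul, inv_mul_cancel₀ (sub_ne_zero.2 ht), one_smul]⟩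
  obtain ⟨α, hα⟩ : ∃ α : F, a = α • 1 := by
    rcases h with h | h
    exacts [key 1 (by rw [h, one_smul]), key (-1) (by rw [h, neg_one_smul])]
  rw [hα, det_smul, det_one, mul_one, Fintype.card_fin] at hd
  rcases sq_eq_one_iff.1 hd with h | h
  · exact Or.inl (by rw [hα, h, one_smul])
  · exact Or.inr (Or.inl (by rw [hα, h, neg_one_smul]))

theorem trace_of_pow_five {a : M2} (hd : a.det = 1) (h : a ^ 5 = 1 ∨ a ^ 5 = -1) :
    a = 1 ∨ a = -1 ∨ a.trace ^ 4 - 3 * a.trace ^ 2 + 1 = 0 := by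
  have e : a ^ 5 = (a.trace ^ 4 - 3 * a.trace ^ 2 + 1) • a - (a.trace ^ 3 - 2 * a.trace) • 1 := by
    have hh : a * a = a.trace • a - 1 := by rw [sq_eq, hd, one_smul]
    simp only [pow_succ, pow_zero, one_mul, hh, sub_mul, smul_mul_assoc, smul_sub, smul_smul]
    module
  by_cases ht : a.trace ^ 4 - 3 * a.trace ^ 2 + 1 = 0
  · exact Or.inr (Or.inr ht)
  have key : ∀ ε : F, a ^ 5 = ε • 1 → ∃ α : F, a = α • 1 := fun ε he => by
    rw [e, sub_eq_iff_eq_add] at he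
    exact ⟨(a.trace ^ 4 - 3 * a.trace ^ 2 + 1)⁻¹ * (ε + (a.trace ^ 3 - 2 * a.trace)), by
      rw [← smul_smul, add_smul, ← he, smul_smul, inv_mul_cancel₀ ht, one_smul]⟩
  obtain ⟨α, hα⟩ : ∃ α : F, a = α • 1 := by
    rcases h with h | h
    exacts [key 1 (by rw [h, one_smul]), key (-1) (by rw [h, neg_one_smul])]
  rw [hα, det_smul, det_one, mul_one, Fintype.card_fin] at hd
  rcases sq_eq_one_iff.1 hd with h | h
  · exact Or.inl (by rw [hα, h, one_smul])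
  · exact Or.inr (Or.inl (by rw [hα, h, neg_one_smul]))

theorem trace_of_pow_two (h2 : (2 : F) ≠ 0) {a : M2} (hd : a.det = 1) (h : a ^ 2 = 1 ∨ a ^ 2 = -1) :
    a = 1 ∨ a = -1 ∨ a.trace = 0 := by
  rw [pow_two] at h
  rcases h with h | h
  · rcases eq_pm_of_sq h2 hd h with e | e
    exacts [Or.inl e, Or.inr (Or.inl e)]
  · exact Or.inr (Or.inr (trace_of_sq_neg hd h))

theorem trace_of_pow_four (h2 : (2 : F) ≠ 0) {a : M2} (hd : a.det = 1) (h : a ^ 4 = 1 ∨ a ^ 4 = -1) :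
    a = 1 ∨ a = -1 ∨ a.trace = 0 ∨ a.trace ^ 2 = 2 := by
  have h' : (a * a) ^ 2 = 1 ∨ (a * a) ^ 2 = -1 := by rwa [← pow_two a, ← pow_mul]
  rcases trace_of_pow_two h2 (by rw [det_mul, hd, one_mul]) h' with e | e | e
  · rcases trace_of_pow_two h2 hd (by rw [pow_two]; exact Or.inl e) with e' | e' | e'
    exacts [Or.inl e', Or.inr (Or.inl e'), Or.inr (Or.inr (Or.inl e'))]
  · exact Or.inr (Or.inr (Or.inl (trace_of_sq_neg hd e)))
  · right; right; right
    rw [sq_eq, hd, one_smul, trace_sub, trace_smul, trace_one2, smul_eq_mul] at e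
    linear_combination e

variable [Fintype F] {P : Subgroup (Matrix (Fin 2) (Fin 2) (Matrix (Fin 2) (Fin 2) F))ˣ} {C : Ctx P}

/-- An element of the kernel of the projection up to sign: a quaternion frame. -/
structure Quat (C : Ctx P) (i j : Matrix (Fin 2) (Fin 2) F) : Prop where
  norm : Normal C
  ki : In0 P i 1
  kj : In0 P j 1
  ti : i.trace = 0
  tj : j.trace = 0
  anti : j * i = -(i * j)

/-- A projection with its map to permutations. -/
structure PMap (C : Ctx P) {n : ℕ} (R : Subgroup (Perm (Fin n))) where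
  hom : C.hP.gproj →* Perm (Fin n)
  range : hom.range = R
  ker : ∀ g, hom g = 1 ↔ g.1.1 = 1 ∨ g.1.1 = -1

theorem Img.exists_pmap {n : ℕ} {R : Subgroup (Perm (Fin n))} (h : Img C.hP R) : Nonempty (PMap C R) := by
  obtain ⟨φ, h1, h2⟩ := h
  exact ⟨⟨φ, h1, h2⟩⟩

namespace PMap

variable {n : ℕ} {R : Subgroup (Perm (Fin n))} (φ : PMap C R)

/-- The image of a member of the projection. -/
def ev {a : M2} (ha : InG P a) : Perm (Fin n) := φ.hom ⟨⟨a, ha.det C.hP⟩, ha⟩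

theorem ev_mem {a : M2} (ha : InG P a) : φ.ev ha ∈ R := φ.range.le ⟨_, rfl⟩

theorem exists_ev {x : Perm (Fin n)} (hx : x ∈ R) : ∃ (a : M2) (ha : InG P a), φ.ev ha = x := by
  rw [← φ.range] at hx
  obtain ⟨g, rfl⟩ := hx
  exact ⟨g.1.1, g.2, rfl⟩

theorem ev_mul {a b : M2} (ha : InG P a) (hb : InG P b) : φ.ev (ha.mul hb) = φ.ev ha * φ.ev hb := by
  rw [ev, ev, ev, ← map_mul]
  exact congrArg φ.hom (Subtype.ext (Subtype.ext rfl))

theorem ev_adj {a : M2} (ha : InG P a) : φ.ev (ha.adj C.hP) = (φ.ev ha)⁻¹ := by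
  rw [ev, ev, ← map_inv]
  exact congrArg φ.hom (Subtype.ext (Subtype.ext rfl))

theorem ev_eq_one {a : M2} (ha : InG P a) : φ.ev ha = 1 ↔ a = 1 ∨ a = -1 := φ.ker _

theorem ev_congr {a b : M2} (e : a = b) (ha : InG P a) (hb : InG P b) : φ.ev ha = φ.ev hb := by subst e; rfl

theorem eq_pm {a b : M2} (ha : InG P a) (hb : InG P b) (e : φ.ev ha = φ.ev hb) : a = b ∨ a = -b := by
  have h : φ.ev (ha.mul (hb.adj C.hP)) = 1 := by rw [φ.ev_mul ha (hb.adj C.hP), φ.ev_adj hb, e, mul_inv_cancel]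
  have hd := hb.det C.hP
  rcases (φ.ev_eq_one _).1 h with h' | h'
  · left
    calc a = a * b.adjugate * b := by rw [mul_assoc, (adj_inv hd).2, mul_one]
      _ = b := by rw [h', one_mul]
  · right
    calc a = a * b.adjugate * b := by rw [mul_assoc, (adj_inv hd).2, mul_one]
      _ = -b := by rw [h', neg_mul, one_mul]

theorem ev_pow {a : M2} (ha : InG P a) : ∀ (m : ℕ) (h : InG P (a ^ m)), φ.ev h = φ.ev ha ^ m
  | 0, h => (φ.ev_eq_one h).2 (Or.inl (pow_zero a))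
  | m + 1, h => by
    have hm : InG P (a ^ m) := by obtain ⟨b, hb⟩ := ha; exact ⟨_, hb.pow m⟩
    rw [φ.ev_congr (pow_succ a m) h (hm.mul ha), φ.ev_mul hm ha, ev_pow ha m hm, pow_succ]

theorem pow_pm {a : M2} (ha : InG P a) {m : ℕ} (h : φ.ev ha ^ m = 1) : a ^ m = 1 ∨ a ^ m = -1 := by
  obtain ⟨b, hb⟩ := ha
  exact (φ.ev_eq_one ⟨_, hb.pow m⟩).1 (by rw [φ.ev_pow ⟨b, hb⟩ m ⟨_, hb.pow m⟩, h])

/-- A member over an involution has trace zero. -/
theorem trace_zero {a : M2} (ha : InG P a) (hne : φ.ev ha ≠ 1) (h : φ.ev ha * φ.ev ha = 1) : a.trace = 0 := by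
  rcases trace_of_pow_two C.hP.two_ne (ha.det C.hP) (φ.pow_pm ha (m := 2) (by rw [pow_two]; exact h)) with e | e | e
  · exact absurd ((φ.ev_eq_one ha).2 (Or.inl e)) hne
  · exact absurd ((φ.ev_eq_one ha).2 (Or.inr e)) hne
  · exact e

theorem sq_one_of_trace {a : M2} (ha : InG P a) (ht : a.trace = 0) : φ.ev ha ≠ 1 ∧ φ.ev ha * φ.ev ha = 1 := by
  have hd := ha.det C.hP
  refine ⟨fun e => ?_, ?_⟩
  · rcases (φ.ev_eq_one ha).1 e with e | e <;> rw [e] at ht <;>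
      simp [trace_fin_two, one_add_one_eq_two, C.hP.two_ne] at ht
  · rw [← φ.ev_mul ha ha, ev_eq_one]
    exact Or.inr (mul_self_of_trace ht hd)

theorem anti_of_comm {a b : M2} (ha : InG P a) (hb : InG P b) (hta : a.trace = 0) (htb : b.trace = 0)
    (hne : φ.ev ha ≠ φ.ev hb) (hc : φ.ev ha * φ.ev hb = φ.ev hb * φ.ev ha) : b * a = -(a * b) := by
  have hd := ha.det C.hP
  rcases φ.eq_pm (hb.mul ha) (ha.mul hb) (by rw [φ.ev_mul hb ha, φ.ev_mul ha hb, hc]) with e | e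
  · exfalso
    obtain ⟨α, β, h⟩ := exists_lin_of_comm C.hP.two_ne hta hd e
    have hα : α = 0 := by
      have h' := congrArg Matrix.trace h
      rw [trace_add, trace_smul, trace_smul, htb, hta, trace_one2, smul_zero, add_zero, smul_eq_mul] at h'
      exact (mul_eq_zero.1 h'.symm).resolve_right C.hP.two_ne
    rw [hα, zero_smul, zero_add] at h
    have hb1 := hb.det C.hP
    rw [h, det_smul, hd, mul_one, Fintype.card_fin] at hb1
    refine hne ?_
    have hh : b = a ∨ b = -a := by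
      rcases sq_eq_one_iff.1 hb1 with e' | e'
      · exact Or.inl (by rw [h, e', one_smul])
      · exact Or.inr (by rw [h, e', neg_one_smul])
    have : φ.ev (ha.mul (hb.adj C.hP)) = 1 := (φ.ev_eq_one _).2 (by
      rcases hh with rfl | rfl
      · exact Or.inl (adj_inv hd).1
      · rw [adj_neg]; exact Or.inr (by rw [mul_neg, (adj_inv hd).1]))
    rwa [φ.ev_mul ha (hb.adj C.hP), φ.ev_adj hb, mul_inv_eq_one] at this
  · exact e

end PMap

/-- A non-central kernel contains a quaternion frame. -/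
theorem Normal.exists_quat (hN : Normal C) (hK : ¬ KCent P) {n : ℕ} {R : Subgroup (Perm (Fin n))} (hR : Poly R)
    (φ : PMap C R) : ∃ i j, Quat C i j ∧ ∀ (hi : InG P i) (hj : InG P j),
      EvenInv (φ.ev hi) ∧ EvenInv (φ.ev hj) ∧ φ.ev hi ≠ φ.ev hj ∧ φ.ev hi * φ.ev hj = φ.ev hj * φ.ev hi := by
  have hP := C.hP
  simp only [KCent, not_forall, not_or] at hK
  obtain ⟨k, hk, hk1, hk2⟩ := hK
  have step : ∀ {x : M2} (hx : In0 P x 1) {v : Perm (Fin n)}, v ∈ R → ∃ (c : M2) (hc : In0 P c 1),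
      φ.ev (a := c) ⟨1, hc⟩ = φ.ev (a := x) ⟨1, hx⟩ * v * (φ.ev (a := x) ⟨1, hx⟩)⁻¹ * v⁻¹ := by
    intro x hx v hv
    obtain ⟨b, hb, rfl⟩ := φ.exists_ev hv
    have hga : InG P x := ⟨1, hx⟩
    have hc : In0 P (x * b * x.adjugate * b.adjugate) 1 := by
      obtain ⟨b', hb'⟩ := hb
      have := ((hx.mul hb').mul (hP.in0_adj hx)).mul (hP.in0_adj hb')
      rwa [one_mul, adjugate_one, mul_one, (adj_inv (hP.in0_det hb').2).1] at this
    refine ⟨_, hc, ?_⟩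
    have e := φ.ev_congr rfl ⟨1, hc⟩ (((hga.mul hb).mul (hga.adj hP)).mul (hb.adj hP))
    rw [e, φ.ev_mul ((hga.mul hb).mul (hga.adj hP)) (hb.adj hP), φ.ev_mul (hga.mul hb) (hga.adj hP),
      φ.ev_mul hga hb, φ.ev_adj hga, φ.ev_adj hb]
  obtain ⟨i, hi, hei⟩ : ∃ (i : M2) (hi : In0 P i 1), EvenInv (φ.ev (a := i) ⟨1, hi⟩) := by
    set x := φ.ev (a := k) ⟨1, hk⟩ with hx
    have hx1 : x ≠ 1 := fun e => by
      rcases (φ.ev_eq_one _).1 e with h | h
      exacts [hk1 h, hk2 h]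
    rcases hR.inv_comm x (φ.ev_mem _) hx1 with h | ⟨v, hv, h⟩
    · exact ⟨k, hk, h⟩
    · obtain ⟨c, hc, ec⟩ := step hk hv
      rcases h with h | ⟨h3, hne⟩
      · exact ⟨c, hc, by rw [ec]; exact h⟩
      · obtain ⟨w, hw, hw'⟩ := hR.three_comm _ (ec ▸ φ.ev_mem ⟨1, hc⟩) h3 hne
        obtain ⟨d, hd, ed⟩ := step hc hw
        exact ⟨d, hd, by rw [ed, ec]; exact hw'⟩
  obtain ⟨g, hg, hne, hcomm⟩ := hR.partner _ (φ.ev_mem _) hei
  obtain ⟨b, hb, rfl⟩ := φ.exists_ev hg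
  obtain ⟨b', hb'⟩ := hb
  have hj : In0 P (b * i * b.adjugate) 1 := by
    have := (hb'.mul hi).mul (hP.in0_adj hb')
    rwa [mul_one, (adj_inv (hP.in0_det hb').2).1] at this
  have hej : φ.ev (a := b * i * b.adjugate) ⟨1, hj⟩ =
      φ.ev (a := b) ⟨b', hb'⟩ * φ.ev (a := i) ⟨1, hi⟩ * (φ.ev (a := b) ⟨b', hb'⟩)⁻¹ := by
    have hgb : InG P b := ⟨b', hb'⟩
    have hgi : InG P i := ⟨1, hi⟩
    rw [φ.ev_congr rfl ⟨1, hj⟩ ((hgb.mul hgi).mul (hgb.adj hP)), φ.ev_mul (hgb.mul hgi) (hgb.adj hP),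
      φ.ev_mul hgb hgi, φ.ev_adj hgb]
  have hej' : EvenInv (φ.ev (a := b * i * b.adjugate) ⟨1, hj⟩) := by
    rw [hej]
    obtain ⟨h1, h2, h3⟩ := hei
    refine ⟨fun e => h1 (by simpa using e), ?_, by simp [h3]⟩
    simp only [mul_assoc, inv_mul_cancel_left]
    rw [← mul_assoc (φ.ev (a := i) ⟨1, hi⟩) (φ.ev (a := i) ⟨1, hi⟩), h2, one_mul, mul_inv_cancel]
  have hti := φ.trace_zero ⟨1, hi⟩ hei.1 hei.2.1
  have htj := φ.trace_zero ⟨1, hj⟩ hej'.1 hej'.2.1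
  refine ⟨i, b * i * b.adjugate, ⟨hN, hi, hj, hti, htj,
    φ.anti_of_comm ⟨1, hi⟩ ⟨1, hj⟩ hti htj (by rw [hej]; exact Ne.symm hne) (by rw [hej]; exact hcomm.symm)⟩, ?_⟩
  intro _ _
  exact ⟨hei, hej', by rw [hej]; exact Ne.symm hne, by rw [hej]; exact hcomm.symm⟩

end CfsgLib.Sp4Odd
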