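import Cfsg.Agent.Lib.Sp4Odd.SymFrame

/-!
The octahedral projection with quaternion kernel in diagonal position is impossible.
-/

set_option autoImplicit false
set_option maxHeartbeats 400000

namespace CfsgLib.Sp4Odd

open Matrix Equiv

theorem inV_of_sq_inv : ∀ x : Perm (Fin 4), Perm.sign x = 1 → InV (x⁻¹ * x⁻¹) → InV x := by decide +kernel

theorem inV_sq_of_odd : ∀ x : Perm (Fin 4), Perm.sign x = -1 → InV (x * x) := by decide +kernel

theorem inV_left_cancel : ∀ x : Perm (Fin 4), Perm.sign x = -1 → ∀ y : Perm (Fin 4), InV (x * y) →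
    ∀ y' : Perm (Fin 4), InV (x * y') → InV (y⁻¹ * y') := by
  decide +kernel

variable {F : Type*} [Field F]

local notation "M2" => Matrix (Fin 2) (Fin 2) F
local notation "M4" => Matrix (Fin 2) (Fin 2) (Matrix (Fin 2) (Fin 2) F)

theorem uM_add (a b : M2) : uM (a + b) = uM a + uM b := by rw [uM, uM, uM, wv_add, add_zero]

theorem uM_smul (r : F) (a : M2) : uM (r • a) = r • uM a := by rw [uM, uM, wv_smul, mul_zero]

theorem trace_mul_adj_comm (a b : M2) : (b.adjugate * a).trace = (a * b.adjugate).trace :=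
  trace_mul_comm _ _

theorem trace_adj_mul (a b : M2) : (a.adjugate * b).trace = (a * b.adjugate).trace := by
  rw [← trace_adj (a.adjugate * b), adjugate_mul_distrib, adj_adj, trace_mul_adj_comm]

variable [Fintype F] {P : Subgroup (Matrix (Fin 2) (Fin 2) (Matrix (Fin 2) (Fin 2) F))ˣ} {C : Ctx P}

theorem Normal.pull (hN : Normal C) {g : P} {E : M4} (hE : C.InCl E) (h : ip (cj g (tM : M4)) E = 0) :
    ∃ m : M2, In0 P m m.adjugate ∧ cj g (uM m) = E := by
  have hA : C.InL C.tv (cj g⁻¹ E) := ⟨hE.cj g⁻¹, by rw [hN.base, ← ip_cj g, cj_cj_inv]; exact h⟩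
  obtain ⟨m, hm, e⟩ := hN.inL_eq hA
  exact ⟨m, hm, by rw [← e, cj_cj_inv]⟩

theorem ip_pulled (h2 : (2 : F) ≠ 0) (g : P) (a b : M2) :
    ip (cj g (uM a)) (cj g (uM b)) = (a * b.adjugate).trace / 2 := by rw [ip_cj, ip_uM h2]

/-- The sum of the base vector and the swap, scaled, lies in the class. -/
theorem Normal.exists_sum (hN : Normal C) {g : P} {m n z : M2} (hm : m.det = 1) (hn : n.det = 1)
    (hgt : cj g (uM m) = tM) (hgu : cj g (uM n) = uM 1) (hz : z.det = 1)
    (hc : z * (m.adjugate * n) = m.adjugate * n * z) (ht : z.trace ^ 2 = 2)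
    (hl : In0 P (m * z) (m * z).adjugate) (hl' : In0 P (m * z.adjugate) (m * z.adjugate).adjugate) :
    ∃ α : F, 2 * α ^ 2 = 1 ∧ C.InCl (α • (tM + uM (1 : M2))) := by
  have h2 := C.hP.two_ne
  have hq : (m.adjugate * n).trace = 0 := by
    have h0 : ip (tM : M4) (uM (1 : M2)) = 0 := by rw [uM, ip_tM_wv h2]
    rw [← hgt, ← hgu, ip_pulled h2] at h0
    rw [trace_adj_mul]
    exact (div_eq_zero_iff.1 h0).resolve_right h2
  have hqd : (m.adjugate * n).det = 1 := by rw [det_mul, det_adjugate, hm, hn]; simp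
  obtain ⟨α, β, e, hα, hβ⟩ := exists_root_coord h2 hz hq hqd hc ht
  have key : ∀ y : M2, In0 P (m * y) (m * y).adjugate → y = α • 1 + α • (m.adjugate * n) →
      C.InCl (α • (tM + uM (1 : M2))) := by
    intro y hy ey
    have h1 : C.InCl (uM (m * y)) := hN.inCl_uM hy
    have h2' := h1.cj g
    have e' : m * y = α • m + α • n := by
      rw [ey, mul_add, mul_smul_comm, mul_smul_comm, mul_one, ← mul_assoc, (adj_inv hm).1, one_mul]
    rwa [e', uM_add, uM_smul, uM_smul, cj_add, cj_smul, cj_smul, hgt, hgu, ← smul_add] at h2'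
  refine ⟨α, hα, ?_⟩
  rcases hβ with rfl | rfl
  · exact key z hl e
  · refine key z.adjugate hl' ?_
    rw [e, adj_add, adj_smul, adj_smul, adjugate_one, adj_eq_of_trace hq, smul_neg, neg_smul, neg_neg]

namespace Octa

variable {φ : PMap C (⊤ : Subgroup (Perm (Fin 4)))} {i j : Matrix (Fin 2) (Fin 2) F} (hO : Octa C φ i j)
  (hK8 : ∀ (k : Matrix (Fin 2) (Fin 2) F) (hk : InG P k), In0 P k 1 → InV (φ.ev hk))
  (hdiag : ∀ a, InG P a → In0 P a a)

include hO in
theorem line_of_inQ {a : M2} (ha : InQ i j a) : In0 P a a.adjugate := by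
  have := (hO.in0_of_inQ ha).mul (hO.quat.norm.in0_swap (C.hP.in0_adj (hO.in0_of_inQ ha)))
  rwa [adjugate_one, mul_one, one_mul] at this

include hO hdiag in
theorem line_of_odd {a : M2} (ha : InG P a) (h : Perm.sign (φ.ev ha) = -1) : In0 P a a.adjugate := by
  have hN := hO.quat.norm
  have hq : InQ i j (a * a) := hO.inQ_of_inV (ha.mul ha) (by rw [φ.ev_mul ha ha]; exact inV_sq_of_odd _ h)
  have h1 := (hdiag a ha).mul (hN.in0_swap (hO.in0_of_inQ (hO.inQ_adj hq)))
  rwa [mul_one, adjugate_mul_distrib, ← mul_assoc, (adj_inv (ha.det C.hP)).1, one_mul] at h1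

include hO hK8 hdiag in
theorem inQ_of_even {a : M2} (ha : InG P a) (hl : In0 P a a.adjugate) (h : Perm.sign (φ.ev ha) = 1) :
    InQ i j a := by
  have hd := ha.det C.hP
  have h1 := (C.hP.in0_adj (hdiag a ha)).mul hl
  rw [(adj_inv hd).2] at h1
  have h2 := hK8 _ ((ha.adj C.hP).mul (ha.adj C.hP)) (hO.quat.norm.in0_swap h1)
  rw [φ.ev_mul (ha.adj C.hP) (ha.adj C.hP), φ.ev_adj ha] at h2
  exact hO.inQ_of_inV ha (inV_of_sq_inv _ h h2)

include hO hdiag in
theorem root_line {a z : M2} (ha : InQ i j a) (hz : InG P z) (hs : Perm.sign (φ.ev hz) = -1) :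
    In0 P (a * z) (a * z).adjugate := by
  have hga := hO.inG_of_inQ ha
  refine hO.line_of_odd hdiag (hga.mul hz) ?_
  rw [φ.ev_mul hga hz, map_mul, (hO.inV_of_inQ ha hga).2, hs, one_mul]

include hO hK8 hdiag in
/-- Three orthogonal members of a frame stay in a frame seen from any common neighbour. -/
theorem transfer {g g' : P} {a b c : M2} (ha : InQ i j a) (hb : InQ i j b) (hc : InQ i j c)
    (hab : (a * b.adjugate).trace = 0) (hac : (a * c.adjugate).trace = 0) (hbc : (b * c.adjugate).trace = 0)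
    (hda : ip (cj g' (tM : M4)) (cj g (uM a)) = 0) (hdb : ip (cj g' (tM : M4)) (cj g (uM b)) = 0)
    (hdc : ip (cj g' (tM : M4)) (cj g (uM c)) = 0) {m : M2} (hm : In0 P m m.adjugate)
    (hE : cj g' (uM m) = cj g (uM a) ∨ (ip (cj g' (uM m)) (cj g (uM a)) = 0 ∧
      ip (cj g' (uM m)) (cj g (uM b)) = 0 ∧ ip (cj g' (uM m)) (cj g (uM c)) = 0)) : InQ i j m := by
  have hP := C.hP
  have h2 := hP.two_ne
  have hN := hO.quat.norm
  have hga := hO.inG_of_inQ ha
  have had := hga.det hP
  have hcl : ∀ {x : M2}, InQ i j x → C.InCl (cj g (uM x)) := fun {x} hx =>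
    (hN.inCl_uM (hO.line_of_inQ hx)).cj g
  obtain ⟨pa, hpa, ea⟩ := hN.pull (hcl ha) hda
  obtain ⟨pb, hpb, eb⟩ := hN.pull (hcl hb) hdb
  obtain ⟨pc, hpc, ec⟩ := hN.pull (hcl hc) hdc
  have hgpa : InG P pa := ⟨_, hpa⟩
  have hpad := hgpa.det hP
  -- the pullback of a root
  have root : ∀ {y py : M2}, InQ i j y → (a * y.adjugate).trace = 0 →
      ip (cj g' (tM : M4)) (cj g (uM y)) = 0 → cj g' (uM py) = cj g (uM y) →
      ∃ (h : M2) (hh : InG P h), In0 P (pa * h) (pa * h).adjugate ∧ Perm.sign (φ.ev hh) = -1 ∧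
        ¬ φ.ev hh * φ.ev hh = 1 ∧ InQ i j (h * h) ∧
        (h * h = pa.adjugate * py ∨ h * h = -(pa.adjugate * py)) := by
    intro y py hy hay hdy ey
    have hgy := hO.inG_of_inQ hy
    have hq : InQ i j (a.adjugate * y) := hO.inQ_mul (hO.inQ_adj ha) hy
    have hqt : (a.adjugate * y).trace = 0 := by rw [trace_adj_mul]; exact hay
    obtain ⟨z, hz, hzc, hzt, hzs⟩ := hO.exists_root hq hqt
    obtain ⟨α, β, rfl, hα, hβ⟩ := exists_root_coord h2 (hz.det hP) hqt ((hO.inG_of_inQ hq).det hP) hzc hzt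
    have ez : a * (α • (1 : M2) + β • (a.adjugate * y)) = α • a + β • y := by
      rw [mul_add, mul_smul_comm, mul_smul_comm, mul_one, ← mul_assoc, (adj_inv had).1, one_mul]
    have hl := hO.root_line hdiag ha hz hzs
    obtain ⟨pf, hpf, ef⟩ := hN.pull ((hN.inCl_uM hl).cj g) (g := g') (by
      rw [ez, uM_add, uM_smul, uM_smul, cj_add, cj_smul, cj_smul, ip_comm, ip_add_left, ip_smul_left, ip_smul_left,
        ip_comm, hda, ip_comm, hdy, mul_zero, mul_zero, add_zero])
    have epf : pf = α • pa + β • py := by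
      refine uM_inj (cj_inj g' ?_)
      rw [ef, ez, uM_add, uM_smul, uM_smul, cj_add, cj_smul, cj_smul, uM_add, uM_smul, uM_smul, cj_add, cj_smul, cj_smul,
        ea, ey]
    set Q := pa.adjugate * py with hQdef
    have hQt : Q.trace = 0 := by
      rw [hQdef, trace_adj_mul]
      have h0 : ip (cj g' (uM pa)) (cj g' (uM py)) = 0 := by rw [ea, ey, ip_pulled h2, hay, zero_div]
      rw [ip_pulled h2] at h0
      exact (div_eq_zero_iff.1 h0).resolve_right h2
    have hQd : Q.det = 1 := by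
      obtain ⟨w, hw, hwe⟩ := hN.pull ((hN.inCl_uM (hO.line_of_inQ hy)).cj g) hdy
      rw [hQdef, det_mul, det_adjugate, hpad, show py = w from uM_inj (cj_inj g' (ey.trans hwe.symm)),
        (hP.in0_det hw).1]
      simp
    set h := pa.adjugate * pf with hhdef
    have eh : h = α • 1 + β • Q := by
      rw [hhdef, epf, mul_add, mul_smul_comm, mul_smul_comm, (adj_inv hpad).2]
    have hh : InG P h := (hgpa.adj hP).mul ⟨_, hpf⟩
    have hht : h.trace ^ 2 = 2 := by
      rw [eh, trace_add, trace_smul, trace_smul, trace_one2, hQt, smul_zero, add_zero, smul_eq_mul]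
      linear_combination 2 * hα
    obtain ⟨h1, h3, h4⟩ := hO.sq_of_trace hh hht
    refine ⟨h, hh, ?_, h3, h4, h1, ?_⟩
    · rw [hhdef, ← mul_assoc, (adj_inv hpad).1, one_mul]; exact hpf
    · have hQQ : Q * Q = -1 := mul_self_of_trace hQt hQd
      rcases hβ with rfl | rfl
      · left
        rw [eh, add_mul, mul_add, mul_add, smul_mul_assoc, smul_mul_assoc, smul_mul_assoc, smul_mul_assoc, one_mul, one_mul,
          mul_smul_comm, mul_smul_comm, mul_one, hQQ]
        match_scalars <;> first | linear_combination hα | linear_combination -hα | ring1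
      · right
        rw [eh, add_mul, mul_add, mul_add, smul_mul_assoc, smul_mul_assoc, smul_mul_assoc, smul_mul_assoc, one_mul, one_mul,
          mul_smul_comm, mul_smul_comm, mul_one, hQQ]
        match_scalars <;> first | ring1 | linear_combination -hα | linear_combination hα
  obtain ⟨h, hh, hl, hs, hn, hhq, hhe⟩ := root hb hab hdb eb
  obtain ⟨h', hh', hl', hs', hn', hhq', hhe'⟩ := root hc hac hdc ec
  have neg_mem : ∀ {x : M2}, InQ i j x → InQ i j (-x) := fun {x} hx => by
    have := hO.inQ_mul (show InQ i j (-1 : M2) from Or.inl (Or.inl (Or.inr rfl))) hx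
    rwa [neg_one_mul] at this
  have hQ1 : InQ i j (pa.adjugate * pb) := by
    rcases hhe with e | e
    · exact e ▸ hhq
    · rw [show pa.adjugate * pb = -(h * h) by rw [e, neg_neg]]; exact neg_mem hhq
  have hQ2 : InQ i j (pa.adjugate * pc) := by
    rcases hhe' with e | e
    · exact e ▸ hhq'
    · rw [show pa.adjugate * pc = -(h' * h') by rw [e, neg_neg]]; exact neg_mem hhq'
  -- the first pullback is even
  have hev : Perm.sign (φ.ev hgpa) = 1 := by
    rcases Int.units_eq_one_or (Perm.sign (φ.ev hgpa)) with hp | hp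
    · exact hp
    exfalso
    have key : ∀ {x : M2} (hx : InG P x), In0 P (pa * x) (pa * x).adjugate → Perm.sign (φ.ev hx) = -1 →
        InV (φ.ev hgpa * φ.ev hx) := fun {x} hx hlx hsx => by
      rw [← φ.ev_mul hgpa hx]
      exact hO.inV_of_inQ (hO.inQ_of_even hK8 hdiag (hgpa.mul hx) hlx (by
        rw [φ.ev_mul hgpa hx, map_mul, hp, hsx]; rfl)) _
    have e := odd_coset _ hs hn _ hs' hn' (inV_left_cancel _ hp _ (key hh hl hs) _ (key hh' hl' hs'))
    rw [← φ.ev_mul hh hh, ← φ.ev_mul hh' hh'] at e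
    have hbc' : pb = pc ∨ pb = -pc := by
      have hd : ∀ x : M2, pa * (pa.adjugate * x) = x := fun x => by rw [← mul_assoc, (adj_inv hpad).1, one_mul]
      have e' : pa.adjugate * pb = pa.adjugate * pc ∨ pa.adjugate * pb = -(pa.adjugate * pc) := by
        rcases φ.eq_pm _ _ e with e | e <;> rcases hhe with h1 | h1 <;> rcases hhe' with h2 | h2 <;> rw [h1, h2] at e
        all_goals first
          | exact Or.inl e
          | exact Or.inr e
          | exact Or.inl (neg_inj.1 e)
          | exact Or.inr (neg_eq_iff_eq_neg.1 e)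
          | exact Or.inr (by rw [← e, neg_neg])
          | exact Or.inl (neg_eq_iff_eq_neg.1 e |>.trans (neg_neg _))
          | exact Or.inl (e.trans (neg_neg _))
          | exact Or.inr (neg_inj.1 e)
      rcases e' with e' | e' <;> have := congrArg (pa * ·) e'
      · left; simpa only [hd] using this
      · right; simpa only [mul_neg, hd] using this
    have h1 : ip (cj g' (uM pb)) (cj g' (uM pc)) = 0 := by rw [eb, ec, ip_pulled h2, hbc, zero_div]
    have hpcd := (hP.in0_det hpc).1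
    rw [ip_pulled h2] at h1
    have h1' := (div_eq_zero_iff.1 h1).resolve_right h2
    rcases hbc' with e | e <;> rw [e] at h1'
    · rw [(adj_inv hpcd).1, trace_one2] at h1'; exact h2 h1'
    · rw [neg_mul, (adj_inv hpcd).1, trace_neg, trace_one2, neg_eq_zero] at h1'; exact h2 h1'
  have hqa : InQ i j pa := hO.inQ_of_even hK8 hdiag hgpa hpa hev
  rcases hE with hE | ⟨hEa, hEb, hEc⟩
  · rw [show m = pa from uM_inj (cj_inj g' (hE.trans ea.symm))]; exact hqa
  rw [← ea, ip_pulled h2] at hEa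
  rw [← eb, ip_pulled h2] at hEb
  rw [← ec, ip_pulled h2] at hEc
  have h0a := (div_eq_zero_iff.1 hEa).resolve_right h2
  have h0b := (div_eq_zero_iff.1 hEb).resolve_right h2
  have h0c := (div_eq_zero_iff.1 hEc).resolve_right h2
  set x := pa.adjugate * m with hxdef
  have hxt : x.trace = 0 := by rw [hxdef, trace_mul_adj_comm]; exact h0a
  have hxd : x.det = 1 := by rw [hxdef, det_mul, det_adjugate, hpad, (hP.in0_det hm).1]; simp
  have orth : ∀ {y py : M2}, InQ i j (pa.adjugate * py) → (m * py.adjugate).trace = 0 →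
      (pa * py.adjugate).trace = 0 → x * (pa.adjugate * py) = -(pa.adjugate * py * x) := by
    intro _ py _ hmy hpy
    have hyt : (pa.adjugate * py).trace = 0 := by rw [trace_adj_mul]; exact hpy
    refine anticomm_of_trace hxt hyt ?_
    have e : (pa.adjugate * py).adjugate = -(pa.adjugate * py) := adj_eq_of_trace hyt
    have : (x * (pa.adjugate * py).adjugate).trace = 0 := by
      rw [hxdef, adjugate_mul_distrib, adj_adj, trace_mul_comm, mul_assoc, ← mul_assoc pa,
        (adj_inv hpad).1, one_mul, trace_mul_adj_comm]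
      exact hmy
    rwa [e, mul_neg, trace_neg, neg_eq_zero] at this
  have pab : (pa * pb.adjugate).trace = 0 := by
    have h0 : ip (cj g' (uM pa)) (cj g' (uM pb)) = 0 := by rw [ea, eb, ip_pulled h2, hab, zero_div]
    rw [ip_pulled h2] at h0
    exact (div_eq_zero_iff.1 h0).resolve_right h2
  have pac : (pa * pc.adjugate).trace = 0 := by
    have h0 : ip (cj g' (uM pa)) (cj g' (uM pc)) = 0 := by rw [ea, ec, ip_pulled h2, hac, zero_div]
    rw [ip_pulled h2] at h0
    exact (div_eq_zero_iff.1 h0).resolve_right h2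
  have pbc : (pb * pc.adjugate).trace = 0 := by
    have h0 : ip (cj g' (uM pb)) (cj g' (uM pc)) = 0 := by rw [eb, ec, ip_pulled h2, hbc, zero_div]
    rw [ip_pulled h2] at h0
    exact (div_eq_zero_iff.1 h0).resolve_right h2
  obtain ⟨Q1, hQ1def⟩ : ∃ Q, Q = pa.adjugate * pb := ⟨_, rfl⟩
  obtain ⟨Q2, hQ2def⟩ : ∃ Q, Q = pa.adjugate * pc := ⟨_, rfl⟩
  rw [← hQ1def] at hQ1
  rw [← hQ2def] at hQ2
  have hx1 : x * Q1 = -(Q1 * x) := hQ1def ▸ orth (y := b) (hQ1def ▸ hQ1) h0b pab
  have hx2 : x * Q2 = -(Q2 * x) := hQ2def ▸ orth (y := c) (hQ2def ▸ hQ2) h0c pac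
  have hQ3 : InQ i j (Q1 * Q2) := hO.inQ_mul hQ1 hQ2
  have hQ3t : (Q1 * Q2).trace = 0 := by
    have hQ1t : Q1.trace = 0 := by rw [hQ1def, trace_adj_mul]; exact pab
    have hQ2t : Q2.trace = 0 := by rw [hQ2def, trace_adj_mul]; exact pac
    have h0 : (Q1.adjugate * Q2).trace = 0 := by
      rw [hQ1def, hQ2def, adjugate_mul_distrib, adj_adj, mul_assoc, ← mul_assoc pa, (adj_inv hpad).1, one_mul,
        trace_adj_mul]
      exact pbc
    rwa [adj_eq_of_trace hQ1t, neg_mul, trace_neg, neg_eq_zero] at h0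
  have hcomm : x * (Q1 * Q2) = Q1 * Q2 * x := by
    rw [← mul_assoc, hx1, neg_mul, mul_assoc, hx2, mul_neg, neg_neg, mul_assoc]
  obtain ⟨u, v, huv⟩ := exists_lin_of_comm h2 hQ3t ((hO.inG_of_inQ hQ3).det hP) hcomm
  have hu : u = 0 := by
    have h' := congrArg Matrix.trace huv
    rw [trace_add, trace_smul, trace_smul, hxt, hQ3t, trace_one2, smul_zero, add_zero, smul_eq_mul] at h'
    exact (mul_eq_zero.1 h'.symm).resolve_right h2
  rw [hu, zero_smul, zero_add] at huv
  have hv : v ^ 2 = 1 := by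
    rw [huv, det_smul, (hO.inG_of_inQ hQ3).det hP, mul_one, Fintype.card_fin] at hxd
    exact hxd
  have hxq : InQ i j x := by
    rcases sq_eq_one_iff.1 hv with rfl | rfl
    · rw [huv, one_smul]; exact hQ3
    · rw [huv, neg_one_smul]; exact neg_mem hQ3
  rw [show m = pa * x by rw [hxdef, ← mul_assoc, (adj_inv hpad).1, one_mul]]
  exact hO.inQ_mul hqa hxq

include hO hK8 hdiag in
/-- The diagonal octahedral case is impossible. -/
theorem false_of_diag : False := by
  have hP := C.hP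
  have h2 := hP.two_ne
  have hQ := hO.quat
  have hN := hQ.norm
  have hline : ∀ {x : M2}, InQ i j x → C.InCl (uM x) := fun hx => hN.inCl_uM (hO.line_of_inQ hx)
  have one_id : ∀ A : M4, cj (1 : P) A = A := cj_one
  have tu : ∀ y : M2, ip (tM : M4) (uM y) = 0 := fun y => by rw [uM, ip_tM_wv h2]
  obtain ⟨g, hg⟩ := hline (InQ.left i j)
  rw [hN.base] at hg
  have it : ∀ y : M2, y.trace = 0 → ((1 : M2) * y.adjugate).trace = 0 := fun y hy => by rw [one_mul, trace_adj, hy]
  have ij : (i * j.adjugate).trace = 0 := by rw [adj_eq_of_trace hQ.tj, mul_neg, trace_neg, hQ.tk, neg_zero]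
  have ik : (i * (i * j).adjugate).trace = 0 := by
    rw [adj_eq_of_trace hQ.tk, mul_neg, ← mul_assoc, hQ.ii, neg_mul, one_mul, neg_neg, hQ.tj]
  have jk : (j * (i * j).adjugate).trace = 0 := by
    rw [adj_eq_of_trace hQ.tk, mul_neg, ← mul_assoc, hQ.anti, neg_mul, mul_assoc, hQ.jj, mul_neg, mul_one, neg_neg,
      trace_neg, hQ.ti, neg_zero]
  -- the base and the swap seen from the first unit
  have hd1 : ip (cj g (tM : M4)) (uM (1 : M2)) = 0 := by rw [← hg, ip_comm, hP.ip_one_uM, hQ.ti, zero_div]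
  have hdj : ip (cj g (tM : M4)) (uM j) = 0 := by rw [← hg, ip_uM h2, ij, zero_div]
  have hdk : ip (cj g (tM : M4)) (uM (i * j)) = 0 := by rw [← hg, ip_uM h2, ik, zero_div]
  have hdt : ip (cj g (tM : M4)) tM = 0 := by rw [← hg, ip_comm, tu]
  obtain ⟨mt, hmt, emt⟩ := hN.pull (Ctx.inCl_t (C := C) |> fun h => hN.base ▸ h) hdt
  obtain ⟨mu, hmu, emu⟩ := hN.pull (hline (InQ.one i j)) hd1
  have q_mt : InQ i j mt := by
    refine hO.transfer hK8 hdiag (g := 1) (g' := g) (InQ.one i j) (InQ.right i j) (InQ.prod i j) (it _ hQ.tj)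
      (it _ hQ.tk) jk ?_ ?_ ?_ hmt (Or.inr ⟨?_, ?_, ?_⟩) <;> simp only [one_id, emt]
    exacts [hd1, hdj, hdk, tu 1, tu j, tu (i * j)]
  have q_mu : InQ i j mu := by
    refine hO.transfer hK8 hdiag (g := 1) (g' := g) (InQ.one i j) (InQ.right i j) (InQ.prod i j) (it _ hQ.tj)
      (it _ hQ.tk) jk ?_ ?_ ?_ hmu (Or.inl ?_) <;> simp only [one_id, emu]
    exacts [hd1, hdj, hdk]
  -- the class vector between them
  have hqq : InQ i j (mt.adjugate * mu) := hO.inQ_mul (hO.inQ_adj q_mt) q_mu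
  have hqt : (mt.adjugate * mu).trace = 0 := by
    have h0 := tu (1 : M2)
    rw [← emt, ← emu, ip_pulled h2] at h0
    rw [trace_adj_mul]
    exact (div_eq_zero_iff.1 h0).resolve_right h2
  obtain ⟨z, hz, hzc, hzt, hzs⟩ := hO.exists_root hqq hqt
  obtain ⟨α, hα, hsum⟩ := hN.exists_sum (hP.in0_det hmt).1 (hP.in0_det hmu).1 emt emu (hz.det hP) hzc hzt
    (hO.root_line hdiag q_mt hz hzs)
    (hO.root_line hdiag q_mt (hz.adj hP) (by rw [φ.ev_adj hz, map_inv, hzs]; rfl))
  obtain ⟨g', hg'⟩ := hsum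
  rw [hN.base] at hg'
  have hperp : ∀ y : M2, y.trace = 0 → ip (cj g' (tM : M4)) (uM y) = 0 := fun y hy => by
    rw [← hg', ip_smul_left, ip_add_left, tu, hP.ip_one_uM, hy, zero_div, add_zero, mul_zero]
  obtain ⟨mi, hmi, emi⟩ := hN.pull (hline (InQ.left i j)) (hperp i hQ.ti)
  have q_mi : InQ i j mi := by
    refine hO.transfer hK8 hdiag (g := 1) (g' := g') (InQ.left i j) (InQ.right i j) (InQ.prod i j) ij ik jk
      ?_ ?_ ?_ hmi (Or.inl ?_) <;> simp only [one_id, emi]
    exacts [hperp i hQ.ti, hperp j hQ.tj, hperp _ hQ.tk]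
  -- back at the first unit
  have hx : C.InCl (cj g' (tM : M4)) := hN.base ▸ (Ctx.inCl_t (C := C)).cj g'
  have hdx : ip (cj g (tM : M4)) (cj g' tM) = 0 := by rw [← hg, ip_comm]; exact hperp i hQ.ti
  obtain ⟨mx, hmx, emx⟩ := hN.pull hx hdx
  have hmid := (hP.in0_det hmi).1
  have tr : ∀ x y : M2, (mi * x * (mi * y).adjugate).trace = (x * y.adjugate).trace := fun x y => by
    rw [adjugate_mul_distrib, mul_assoc, trace_mul_comm, ← mul_assoc x, mul_assoc _ mi.adjugate mi, (adj_inv hmid).2,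
      mul_one]
  have hd' : ∀ x : M2, x.trace = 0 → ip (cj g (tM : M4)) (cj g' (uM (mi * x))) = 0 := fun x hx => by
    rw [← hg, ← emi, ip_pulled h2, adjugate_mul_distrib, ← mul_assoc, trace_mul_comm, ← mul_assoc, (adj_inv hmid).2,
      one_mul, trace_adj, hx, zero_div]
  have q_mx : InQ i j mx := by
    refine hO.transfer hK8 hdiag (g := g') (g' := g) (hO.inQ_mul q_mi (InQ.left i j))
      (hO.inQ_mul q_mi (InQ.right i j)) (hO.inQ_mul q_mi (InQ.prod i j)) (by rw [tr]; exact ij) (by rw [tr]; exact ik)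
      (by rw [tr]; exact jk) (hd' i hQ.ti) (hd' j hQ.tj) (hd' _ hQ.tk) hmx (Or.inr ⟨?_, ?_, ?_⟩) <;>
      rw [emx, ip_cj] <;> exact tu _
  -- the value of the form
  have hval : ip (tM : M4) (cj g' tM) = α := by
    rw [← hg', ip_smul_right, ip_comm, ip_add_left, ip_comm (uM (1 : M2)), tu, show ip (tM : M4) tM = 1 from
      hN.base ▸ C.red.ip_self hP, add_zero, mul_one]
  have hw : InQ i j (mt * mx.adjugate) := hO.inQ_mul q_mt (hO.inQ_adj q_mx)
  have hgw := hO.inG_of_inQ hw
  have htr : (mt * mx.adjugate).trace = 2 * α := by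
    have e : ip (cj g (uM mt)) (cj g (uM mx)) = α := by rw [emt, emx, hval]
    rw [ip_pulled h2, div_eq_iff h2] at e
    rw [e, mul_comm]
  have hv := hO.inV_of_inQ hw hgw
  have hα0 : α ≠ 0 := fun e => one_ne_zero (α := F) (by rw [← hα, e]; ring)
  rcases trace_of_pow_two h2 (hgw.det hP) (φ.pow_pm hgw (m := 2) (by rw [pow_two]; exact hv.1)) with e | e | e
  · rw [e, trace_one2] at htr
    have : α = 1 := mul_left_cancel₀ h2 (by linear_combination -htr)
    rw [this] at hα; exact one_ne_zero (α := F) (by linear_combination hα)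
  · rw [e, trace_neg, trace_one2] at htr
    have : α = -1 := mul_left_cancel₀ h2 (by linear_combination -htr)
    rw [this] at hα; exact one_ne_zero (α := F) (by linear_combination hα)
  · rw [e] at htr
    exact mul_ne_zero h2 hα0 htr.symm

end Octa

end CfsgLib.Sp4Odd
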