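import Cfsg.Agent.Lib.Sp4Odd.Frame5

/-!
The octahedral projection: the members over the four group and the elements of order eight.
-/

set_option autoImplicit false
set_option maxHeartbeats 400000

namespace CfsgLib.Sp4Odd

open Matrix Equiv

/-- The four group in the symmetric group of degree four. -/
def InV (x : Perm (Fin 4)) : Prop := x * x = 1 ∧ Perm.sign x = 1

instance : DecidablePred InV := fun x => by unfold InV; infer_instance

theorem inV_one : InV 1 := by decide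

theorem inV_mul : ∀ x : Perm (Fin 4), InV x → ∀ y : Perm (Fin 4), InV y → InV (x * y) ∧ x * y = y * x ∧ InV x⁻¹ := by
  decide +kernel

theorem inV_conj : ∀ x : Perm (Fin 4), InV x → ∀ g : Perm (Fin 4), InV (g * x * g⁻¹) := by decide +kernel

theorem evenInv_iff : ∀ x : Perm (Fin 4), EvenInv x ↔ InV x ∧ x ≠ 1 := by decide +kernel

theorem four_root : ∀ y : Perm (Fin 4), EvenInv y →
    ∃ z : Perm (Fin 4), z * z = y ∧ Perm.sign z = -1 ∧ z ^ 4 = 1 ∧ ¬ z * z = 1 := by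
  decide +kernel

theorem order_four : ∀ x : Perm (Fin 4), ¬ x * x = 1 → ¬ x ^ 3 = 1 → EvenInv (x * x) ∧ Perm.sign x = -1 ∧ x ^ 4 = 1 := by
  decide +kernel

theorem orders_four : ∀ x : Perm (Fin 4), x * x = 1 ∨ x ^ 3 = 1 ∨ x ^ 4 = 1 := by decide +kernel

theorem odd_coset : ∀ h : Perm (Fin 4), Perm.sign h = -1 → ¬ h * h = 1 → ∀ h' : Perm (Fin 4), Perm.sign h' = -1 →
    ¬ h' * h' = 1 → InV (h⁻¹ * h') → h * h = h' * h' := by
  decide +kernel

variable {F : Type*} [Field F]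

local notation "M2" => Matrix (Fin 2) (Fin 2) F

/-- The eight members of the frame. -/
def InQ (i j a : Matrix (Fin 2) (Fin 2) F) : Prop :=
  ((a = 1 ∨ a = -1) ∨ (a = i ∨ a = -i)) ∨ ((a = j ∨ a = -j) ∨ (a = i * j ∨ a = -(i * j)))

theorem InQ.one (i j : M2) : InQ i j 1 := Or.inl (Or.inl (Or.inl rfl))

theorem InQ.left (i j : M2) : InQ i j i := Or.inl (Or.inr (Or.inl rfl))

theorem InQ.right (i j : M2) : InQ i j j := Or.inr (Or.inl (Or.inl rfl))

theorem InQ.prod (i j : M2) : InQ i j (i * j) := Or.inr (Or.inr (Or.inl rfl))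

variable [Fintype F] {P : Subgroup (Matrix (Fin 2) (Fin 2) (Matrix (Fin 2) (Fin 2) F))ˣ} {C : Ctx P}

/-- An octahedral projection with its frame. -/
structure Octa (C : Ctx P) (φ : PMap C (⊤ : Subgroup (Perm (Fin 4)))) (i j : Matrix (Fin 2) (Fin 2) F) : Prop where
  quat : Quat C i j
  even : ∀ (hi : InG P i) (hj : InG P j),
    EvenInv (φ.ev hi) ∧ EvenInv (φ.ev hj) ∧ φ.ev hi ≠ φ.ev hj ∧ φ.ev hi * φ.ev hj = φ.ev hj * φ.ev hi

namespace Octa

variable {φ : PMap C (⊤ : Subgroup (Perm (Fin 4)))} {i j : Matrix (Fin 2) (Fin 2) F} (hO : Octa C φ i j)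
include hO

theorem in0_of_inQ {a : M2} (h : InQ i j a) : In0 P a 1 := by
  have hQ := hO.quat
  have hN := hQ.norm
  rcases h with ((rfl | rfl) | (rfl | rfl)) | ((rfl | rfl) | (rfl | rfl))
  exacts [In0.one, hN.in0_neg_left In0.one, hQ.ki, hN.in0_neg_left hQ.ki, hQ.kj, hN.in0_neg_left hQ.kj, hQ.kk,
    hN.in0_neg_left hQ.kk]

theorem inG_of_inQ {a : M2} (h : InQ i j a) : InG P a := ⟨1, hO.in0_of_inQ h⟩

theorem inV_of_inQ {a : M2} (h : InQ i j a) (ha : InG P a) : InV (φ.ev ha) := by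
  have hgi : InG P i := hO.inG_of_inQ (InQ.left i j)
  have hgj : InG P j := hO.inG_of_inQ (InQ.right i j)
  obtain ⟨e1, e2, -, -⟩ := hO.even hgi hgj
  have hv1 := ((evenInv_iff _).1 e1).1
  have hv2 := ((evenInv_iff _).1 e2).1
  have hn : ∀ {b : M2} (hb : InG P b) (ha : InG P (-b)), φ.ev ha = φ.ev hb := fun {b} hb ha => by
    have h1 : InG P (-1 : M2) := InG.neg C.hP ⟨1, In0.one⟩
    rw [φ.ev_congr (neg_one_mul b).symm ha (h1.mul hb), φ.ev_mul h1 hb, (φ.ev_eq_one h1).2 (Or.inr rfl), one_mul]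
  rcases h with ((rfl | rfl) | (rfl | rfl)) | ((rfl | rfl) | (rfl | rfl))
  · rw [(φ.ev_eq_one ha).2 (Or.inl rfl)]; exact inV_one
  · rw [(φ.ev_eq_one ha).2 (Or.inr rfl)]; exact inV_one
  · exact hv1
  · rw [hn hgi ha]; exact hv1
  · exact hv2
  · rw [hn hgj ha]; exact hv2
  · rw [φ.ev_congr rfl ha (hgi.mul hgj), φ.ev_mul hgi hgj]; exact (inV_mul _ hv1 _ hv2).1
  · rw [hn (hgi.mul hgj) ha, φ.ev_mul hgi hgj]; exact (inV_mul _ hv1 _ hv2).1

theorem inQ_of_inV {a : M2} (ha : InG P a) (h : InV (φ.ev ha)) : InQ i j a := by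
  by_cases h1 : φ.ev ha = 1
  · exact Or.inl (Or.inl ((φ.ev_eq_one ha).1 h1))
  have hgi : InG P i := hO.inG_of_inQ (InQ.left i j)
  have hgj : InG P j := hO.inG_of_inQ (InQ.right i j)
  obtain ⟨e1, e2, e3, e4⟩ := hO.even hgi hgj
  rcases poly_perm_four.klein _ (φ.ev_mem hgi) e1 _ (φ.ev_mem hgj) e2 e3 e4 _ (φ.ev_mem ha)
      ((evenInv_iff _).2 ⟨h, h1⟩) (inV_mul _ ((evenInv_iff _).1 e1).1 _ h).2.1 with e | e | e
  · exact Or.inl (Or.inr (φ.eq_pm ha hgi e))
  · exact Or.inr (Or.inl (φ.eq_pm ha hgj e))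
  · rw [← φ.ev_mul hgi hgj] at e
    exact Or.inr (Or.inr (φ.eq_pm ha (hgi.mul hgj) e))

theorem inQ_mul {a b : M2} (ha : InQ i j a) (hb : InQ i j b) : InQ i j (a * b) := by
  have hga := hO.inG_of_inQ ha
  have hgb := hO.inG_of_inQ hb
  refine hO.inQ_of_inV (hga.mul hgb) ?_
  rw [φ.ev_mul hga hgb]
  exact (inV_mul _ (hO.inV_of_inQ ha hga) _ (hO.inV_of_inQ hb hgb)).1

theorem inQ_adj {a : M2} (ha : InQ i j a) : InQ i j a.adjugate := by
  have hga := hO.inG_of_inQ ha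
  refine hO.inQ_of_inV (hga.adj C.hP) ?_
  rw [φ.ev_adj hga]
  exact (inV_mul _ (hO.inV_of_inQ ha hga) _ inV_one).2.2

/-- A member with squared trace two squares to an imaginary unit of the frame. -/
theorem sq_of_trace {h : M2} (hh : InG P h) (ht : h.trace ^ 2 = 2) :
    InQ i j (h * h) ∧ Perm.sign (φ.ev hh) = -1 ∧ ¬ φ.ev hh * φ.ev hh = 1 := by
  have h2 := C.hP.two_ne
  have hd := hh.det C.hP
  have n1 : h ≠ 1 ∧ h ≠ -1 := by
    constructor <;> rintro rfl <;> simp [trace_one2] at ht <;>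
      exact h2 (by linear_combination ht)
  have hn2 : ¬ φ.ev hh * φ.ev hh = 1 := fun e => by
    rcases trace_of_pow_two h2 hd (φ.pow_pm hh (m := 2) (by rw [pow_two]; exact e)) with h' | h' | h'
    · exact n1.1 h'
    · exact n1.2 h'
    · rw [h'] at ht; exact h2 (by linear_combination -ht)
  have hn3 : ¬ φ.ev hh ^ 3 = 1 := fun e => by
    rcases trace_of_pow_three hd (φ.pow_pm hh (m := 3) e) with h' | h' | h'
    · exact n1.1 h'
    · exact n1.2 h'
    · rw [h'] at ht; exact one_ne_zero (α := F) (by linear_combination -ht)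
  obtain ⟨e, hs, -⟩ := order_four _ hn2 hn3
  refine ⟨hO.inQ_of_inV (hh.mul hh) ?_, hs, hn2⟩
  rw [φ.ev_mul hh hh]
  exact ((evenInv_iff _).1 e).1

/-- An element of order eight over an imaginary unit. -/
theorem exists_root {q : M2} (hq : InQ i j q) (hqt : q.trace = 0) :
    ∃ (z : M2) (hz : InG P z), z * q = q * z ∧ z.trace ^ 2 = 2 ∧ Perm.sign (φ.ev hz) = -1 := by
  have h2 := C.hP.two_ne
  have hgq := hO.inG_of_inQ hq
  obtain ⟨hne, hsq⟩ := φ.sq_one_of_trace hgq hqt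
  obtain ⟨x, hx, hsx, hx4, hx2⟩ := four_root _ ((evenInv_iff _).2 ⟨hO.inV_of_inQ hq hgq, hne⟩)
  obtain ⟨z, hz, rfl⟩ := φ.exists_ev (Subgroup.mem_top x)
  refine ⟨z, hz, ?_, ?_, hsx⟩
  · rcases φ.eq_pm (hz.mul hz) hgq (by rw [φ.ev_mul hz hz]; exact hx) with e | e
    · rw [← e, mul_assoc]
    · rw [show q = -(z * z) by rw [e, neg_neg], mul_neg, neg_mul, mul_assoc]
  · have hd := hz.det C.hP
    rcases trace_of_pow_four h2 hd (φ.pow_pm hz hx4) with h | h | h | h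
    · exact absurd (by rw [(φ.ev_eq_one hz).2 (Or.inl h), mul_one]) hx2
    · exact absurd (by rw [(φ.ev_eq_one hz).2 (Or.inr h), mul_one]) hx2
    · exact absurd (φ.sq_one_of_trace hz h).2 hx2
    · exact h

end Octa

/-- The coordinates of a member with squared trace two over its commuting unit. -/
theorem exists_root_coord (h2 : (2 : F) ≠ 0) {z q : M2} (hzd : z.det = 1) (hqt : q.trace = 0) (hqd : q.det = 1)
    (hc : z * q = q * z) (ht : z.trace ^ 2 = 2) :
    ∃ α β : F, z = α • 1 + β • q ∧ 2 * α ^ 2 = 1 ∧ (β = α ∨ β = -α) := by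
  obtain ⟨α, β, rfl⟩ := exists_lin_of_comm h2 hqt hqd hc
  rw [trace_add, trace_smul, trace_smul, trace_one2, hqt, smul_zero, add_zero, smul_eq_mul] at ht
  have ha : 2 * α ^ 2 = 1 := mul_left_cancel₀ h2 (by linear_combination ht)
  have hd2 : α ^ 2 + β ^ 2 = 1 := by
    have e : (α • (1 : M2) + β • q).det = α ^ 2 + β ^ 2 := by
      rw [trace_fin_two] at hqt
      rw [det_fin_two] at hqd
      simp [det_fin_two]
      linear_combination (α * β) * hqt + β ^ 2 * hqd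
    rw [← e]; exact hzd
  refine ⟨α, β, rfl, ha, sq_eq_sq_iff_eq_or_eq_neg.1 ?_⟩
  linear_combination hd2 - ha

end CfsgLib.Sp4Odd
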