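import Cfsg.Agent.Lib.Sp4Odd.SymEight
import Cfsg.Agent.Lib.Sp4Odd.FiveCase

/-!
The octahedral projection is impossible when every member gives a neighbour.
-/

set_option autoImplicit false
set_option maxHeartbeats 400000

namespace CfsgLib.Sp4Odd

open Matrix Equiv

theorem three_inverted : ∀ x : Perm (Fin 4), x ^ 3 = 1 → x ≠ 1 →
    ∃ v : Perm (Fin 4), v ≠ 1 ∧ v * v = 1 ∧ (v * x) * (v * x) = 1 ∧ v * x ≠ 1 := by
  decide +kernel

variable {F : Type*} [Field F]

local notation "M2" => Matrix (Fin 2) (Fin 2) F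
local notation "M4" => Matrix (Fin 2) (Fin 2) (Matrix (Fin 2) (Fin 2) F)

variable [Fintype F] {P : Subgroup (Matrix (Fin 2) (Fin 2) (Matrix (Fin 2) (Fin 2) F))ˣ} {C : Ctx P}

namespace Octa

variable {φ : PMap C (⊤ : Subgroup (Perm (Fin 4)))} {i j : Matrix (Fin 2) (Fin 2) F}

/-- All members give neighbours: impossible. -/
theorem false_of_all (hO : Octa C φ i j) (hall : ∀ a, InG P a → In0 P a a.adjugate) {k : M2} (hk : In0 P k 1)
    (hk3 : φ.ev (a := k) ⟨1, hk⟩ ^ 3 = 1) (hk1 : φ.ev (a := k) ⟨1, hk⟩ ≠ 1) : False := by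
  have hP := C.hP
  have h2 := hP.two_ne
  have hQ := hO.quat
  have hN := hQ.norm
  have hgk : InG P k := ⟨1, hk⟩
  have hkd := hgk.det hP
  have hkt : k.trace ^ 2 = 1 := by
    rcases trace_of_pow_three hkd (φ.pow_pm hgk (m := 3) hk3) with e | e | e
    · exact absurd ((φ.ev_eq_one hgk).2 (Or.inl e)) hk1
    · exact absurd ((φ.ev_eq_one hgk).2 (Or.inr e)) hk1
    · exact e
  have h3 : (3 : F) ≠ 0 := by
    intro h
    have hsq : k.trace ^ 2 = (2 : F) ^ 2 := by rw [hkt]; linear_combination -h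
    rcases sq_eq_sq_iff_eq_or_eq_neg.1 hsq with e | e
    · exact hN.false_of_trace_two hk (fun e' => hk1 ((φ.ev_eq_one hgk).2 (Or.inl e'))) e
    · refine hN.false_of_trace_two (hN.in0_neg_left hk) (fun e' => hk1 ((φ.ev_eq_one hgk).2 (Or.inr ?_))) ?_
      · rw [← neg_neg k, e']
      · rw [trace_neg, e, neg_neg]
  have hcl : ∀ {a : M2}, InG P a → C.InCl (uM a) := fun ha => hN.inCl_uM (hall _ ha)
  have tu : ∀ y : M2, ip (tM : M4) (uM y) = 0 := fun y => by rw [uM, ip_tM_wv h2]
  have hgi : InG P i := ⟨1, hQ.ki⟩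
  have hgj : InG P j := ⟨1, hQ.kj⟩
  obtain ⟨g, hg⟩ := hcl hgi
  rw [hN.base] at hg
  obtain ⟨z, hz, hzc, hzt, -⟩ := hO.exists_root (InQ.left i j) hQ.ti
  obtain ⟨α, β, ez, hα, -⟩ := exists_root_coord h2 (hz.det hP) hQ.ti hQ.det_i hzc hzt
  have hjz : (j * z).trace = 0 ∧ (i * (j * z)).trace = 0 := by
    constructor
    · rw [ez, mul_add, mul_smul_comm, mul_smul_comm, mul_one, hQ.anti, trace_add, trace_smul, trace_smul, trace_neg,
        hQ.tj, hQ.tk, neg_zero, smul_zero, smul_zero, add_zero]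
    · rw [ez, mul_add, mul_add, mul_smul_comm, mul_smul_comm, mul_smul_comm, mul_smul_comm, mul_one, hQ.anti, mul_neg,
        ← mul_assoc, hQ.ii, neg_mul, one_mul, neg_neg, trace_add, trace_smul, trace_smul, hQ.tk, hQ.tj, smul_zero,
        smul_zero, add_zero]
  have hgjz : InG P (j * z) := hgj.mul hz
  -- members seen from the first unit
  have hdt : ip (cj g (tM : M4)) tM = 0 := by rw [← hg, ip_comm, tu]
  have hd1 : ip (cj g (tM : M4)) (uM (1 : M2)) = 0 := by rw [← hg, ip_comm, hP.ip_one_uM, hQ.ti, zero_div]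
  have hdc : ip (cj g (tM : M4)) (uM j) = 0 := by
    rw [← hg, ip_uM h2, adj_eq_of_trace hQ.tj, mul_neg, trace_neg, hQ.tk, neg_zero, zero_div]
  have hdd : ip (cj g (tM : M4)) (uM (j * z)) = 0 := by
    rw [← hg, ip_uM h2, adj_eq_of_trace hjz.1, mul_neg, trace_neg, hjz.2, neg_zero, zero_div]
  obtain ⟨mt, hmt, emt⟩ := hN.pull (Ctx.inCl_t (C := C) |> fun h => hN.base ▸ h) hdt
  obtain ⟨mu, hmu, emu⟩ := hN.pull (hcl ⟨1, (In0.one : In0 P (1 : M2) 1)⟩) hd1
  obtain ⟨mc, hmc, emc⟩ := hN.pull (hcl hgj) hdc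
  obtain ⟨md, hmd, emd⟩ := hN.pull (hcl hgjz) hdd
  have pr : ∀ {x y : M2} {A B : M4}, cj g (uM x) = A → cj g (uM y) = B → ip A B = 0 → (x * y.adjugate).trace = 0 :=
    fun {x y A B} hx hy h => by
      rw [← hx, ← hy, ip_pulled h2] at h
      exact (div_eq_zero_iff.1 h).resolve_right h2
  have p_tu := pr emt emu (tu 1)
  have p_tc := pr emt emc (tu j)
  have p_td := pr emt emd (tu (j * z))
  have p_uc := pr emu emc (by rw [hP.ip_one_uM, hQ.tj, zero_div])
  have p_ud := pr emu emd (by rw [hP.ip_one_uM, hjz.1, zero_div])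
  have hmtd := (hP.in0_det hmt).1
  set q := mt.adjugate * mu with hq
  have hqt : q.trace = 0 := by rw [hq, trace_adj_mul]; exact p_tu
  have anti : ∀ {m : M2}, (mt * m.adjugate).trace = 0 → (mu * m.adjugate).trace = 0 →
      (mt.adjugate * m) * q = -(q * (mt.adjugate * m)) := by
    intro m h1 h1'
    have hxt : (mt.adjugate * m).trace = 0 := by rw [trace_adj_mul]; exact h1
    refine anticomm_of_trace hxt hqt ?_
    have : (q * (mt.adjugate * m).adjugate).trace = 0 := by
      rw [hq, adjugate_mul_distrib, adj_adj, trace_mul_comm, mul_assoc, ← mul_assoc mt, (adj_inv hmtd).1, one_mul,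
        trace_mul_adj_comm]
      exact h1'
    rw [adj_eq_of_trace hxt, mul_neg, trace_neg, neg_eq_zero] at this
    rw [trace_mul_comm]; exact this
  set e := mc.adjugate * md with he
  have hec : e * q = q * e := by
    have hc1 : (mt.adjugate * mc).adjugate = -(mt.adjugate * mc) :=
      adj_eq_of_trace (by rw [trace_adj_mul]; exact p_tc)
    have h' : e = (mt.adjugate * mc).adjugate * (mt.adjugate * md) := by
      rw [adjugate_mul_distrib, adj_adj, mul_assoc, ← mul_assoc mt, (adj_inv hmtd).1, one_mul]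
    rw [h', hc1, neg_mul, neg_mul, mul_neg, comm_of_two_anti (anti p_tc p_uc) (anti p_td p_ud)]
  have hge : InG P e := (InG.adj hP ⟨_, hmc⟩).mul ⟨_, hmd⟩
  have het : e.trace ^ 2 = 2 := by
    have h := ip_cj g (uM mc) (uM md)
    rw [emc, emd, ip_uM h2, ip_uM h2, adjugate_mul_distrib, ← mul_assoc, trace_mul_comm, ← mul_assoc,
      (adj_inv hQ.det_j).2, one_mul, trace_adj, div_left_inj' h2] at h
    rw [he, trace_adj_mul, ← h, hzt]
  obtain ⟨γ, hγ, hsum⟩ := hN.exists_sum hmtd (hP.in0_det hmu).1 emt emu (hge.det hP) hec het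
    (hall _ (InG.mul ⟨_, hmt⟩ hge)) (hall _ (InG.mul ⟨_, hmt⟩ (hge.adj hP)))
  -- an involution inverting the element of order three
  obtain ⟨v, hv1, hv2, hv3, hv4⟩ := three_inverted _ hk3 hk1
  obtain ⟨d, hd, rfl⟩ := φ.exists_ev (Subgroup.mem_top v)
  have hdt0 := φ.trace_zero hd hv1 hv2
  have hdk : (d * k).trace = 0 := φ.trace_zero (hd.mul hgk) (by rw [φ.ev_mul hd hgk]; exact hv4)
    (by rw [φ.ev_mul hd hgk]; exact hv3)
  obtain ⟨g2, hg2⟩ := hcl hd
  rw [hN.base] at hg2
  have hk_perp : ip (cj g2 (tM : M4)) (uM k) = 0 := by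
    have ek : k.adjugate = k.trace • (1 : M2) - k := by
      rw [adjugate_fin_two, trace_fin_two]
      ext a b; fin_cases a <;> fin_cases b <;> simp
    rw [← hg2, ip_uM h2, ek, mul_sub, mul_smul_comm, mul_one, trace_sub, trace_smul, hdt0, hdk, smul_zero, sub_zero,
      zero_div]
  have ha_perp : ip (cj g2 (tM : M4)) (γ • (tM + uM (1 : M2))) = 0 := by
    rw [← hg2, ip_smul_right, ip_comm, ip_add_left, tu, hP.ip_one_uM, hdt0, zero_div, add_zero, mul_zero]
  obtain ⟨ma, hma, ema⟩ := hN.pull hsum ha_perp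
  obtain ⟨mk, hmk, emk⟩ := hN.pull (hcl hgk) hk_perp
  have hgw : InG P (ma * mk.adjugate) := InG.mul ⟨_, hma⟩ (InG.adj hP ⟨_, hmk⟩)
  set w := ma * mk.adjugate with hw
  have hwt : w.trace = γ * k.trace := by
    have h := ip_cj g2 (uM ma) (uM mk)
    rw [ema, emk, ip_smul_left, ip_add_left, tu, hP.ip_one_uM, ip_uM h2, zero_add, ← mul_div_assoc,
      div_left_inj' h2] at h
    exact h.symm
  have hwsq : 2 * w.trace ^ 2 = 1 := by rw [hwt]; linear_combination (2 * γ ^ 2) * hkt + hγ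
  have hmkd := (hP.in0_det hmk).1
  have hpm : w = 1 ∨ w = -1 → False := by
    intro e'
    have hs : Same (uM ma) (uM mk) := by
      rw [same_uM]
      rcases e' with e' | e'
      · left; calc ma = w * mk := by rw [hw, mul_assoc, (adj_inv hmkd).2, mul_one]
          _ = mk := by rw [e', one_mul]
      · right; calc ma = w * mk := by rw [hw, mul_assoc, (adj_inv hmkd).2, mul_one]
          _ = -mk := by rw [e', neg_mul, one_mul]
    have hs' := Same.cj g2 hs
    rw [ema, emk] at hs'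
    have h0 := Ctx.ip_same_zero hs' (show ip (uM k) (tM : M4) = 0 by rw [ip_comm]; exact tu k)
    rw [ip_smul_left, ip_add_left, show ip (tM : M4) tM = 1 from hN.base ▸ C.red.ip_self hP,
      ip_comm (uM (1 : M2)), tu, add_zero, mul_one] at h0
    rw [h0] at hγ
    exact one_ne_zero (α := F) (by linear_combination -hγ)
  rcases orders_four (φ.ev hgw) with h | h | h
  · rcases trace_of_pow_two h2 (hgw.det hP) (φ.pow_pm hgw (m := 2) (by rw [pow_two]; exact h)) with e' | e' | e'
    · exact hpm (Or.inl e')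
    · exact hpm (Or.inr e')
    · rw [e'] at hwsq; exact one_ne_zero (α := F) (by linear_combination -hwsq)
  · rcases trace_of_pow_three (hgw.det hP) (φ.pow_pm hgw (m := 3) h) with e' | e' | e'
    · exact hpm (Or.inl e')
    · exact hpm (Or.inr e')
    · rw [e'] at hwsq; exact one_ne_zero (α := F) (by linear_combination hwsq)
  · rcases trace_of_pow_four h2 (hgw.det hP) (φ.pow_pm hgw (m := 4) h) with e' | e' | e' | e'
    · exact hpm (Or.inl e')
    · exact hpm (Or.inr e')
    · rw [e'] at hwsq; exact one_ne_zero (α := F) (by linear_combination -hwsq)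
    · rw [e'] at hwsq; exact h3 (by linear_combination hwsq)

end Octa

end CfsgLib.Sp4Odd
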