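import Cfsg.Agent.Lib.Sp4Odd.Pair
import Cfsg.Agent.Lib.Sp4Odd.Fusion
import Cfsg.Agent.Lib.Sp4Odd.Five
import Cfsg.Agent.Lib.Sp4Odd.Two

/-!
A Sylow two-subgroup fixes only one line of the class.
-/

set_option autoImplicit false
set_option maxHeartbeats 800000

namespace CfsgLib.Sp4Odd

open Matrix

variable {F : Type*} [Field F] [Fintype F]

local notation "M2" => Matrix (Fin 2) (Fin 2) F
local notation "M4" => Matrix (Fin 2) (Fin 2) (Matrix (Fin 2) (Fin 2) F)

variable {P : Subgroup (Matrix (Fin 2) (Fin 2) (Matrix (Fin 2) (Fin 2) F))ˣ}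

theorem dg_neg (a b : M2) : -dg a b = dg (-a) (-b) := by
  ext1 i j; fin_cases i <;> fin_cases j <;> simp [dg]

/-- Three fixed lines in normal position. -/
structure Three (C : Ctx P) (i : M2) : Prop where
  norm : Normal C
  fu : Fix C.T (uM (1 : M2))
  icl : C.InCl (uM i)
  fi : Fix C.T (uM i)
  det : i.det = 1
  tr : i.trace = 0

namespace Three

variable {C : Ctx P} {i : Matrix (Fin 2) (Fin 2) F}

/-- The blocks of the elements of the Sylow subgroup. -/
def InS (C : Ctx P) (a : M2) : Prop := ∃ g ∈ (C.T : Subgroup P), g.1.1 = dg a a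

theorem InS.one : InS C (1 : M2) := ⟨1, one_mem _, by simp [dg_one]⟩

theorem InS.mul {a b : M2} : InS C a → InS C b → InS C (a * b) := by
  rintro ⟨g, hg, eg⟩ ⟨h, hh, eh⟩
  exact ⟨g * h, mul_mem hg hh, by rw [Subgroup.coe_mul, Units.val_mul, eg, eh, dg_mul]⟩

theorem InS.in0 {a : M2} : InS C a → In0 P a a := fun ⟨g, _, e⟩ => ⟨g, e⟩

theorem InS.det {a : M2} (h : InS C a) : a.det = 1 := (C.hP.in0_det h.in0).1

theorem InS.neg {a : M2} : InS C a → InS C (-a) := by
  rintro ⟨g, hg, eg⟩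
  refine ⟨C.hP.negOne * g, mul_mem (C.hP.negOne_mem C.T) hg, ?_⟩
  simp [Hyp.negOne, eg, dg_neg]

theorem InS.pow {a : M2} (h : InS C a) : ∀ n : ℕ, InS C (a ^ n)
  | 0 => by simpa using InS.one
  | n + 1 => by rw [pow_succ]; exact (InS.pow h n).mul h

theorem t_mem (C : Ctx P) : C.t ∈ (C.T : Subgroup P) := C.fix.mem C.hP C.red

theorem tv_eq (h : Three C i) : C.t.1.1 = dg (1 : M2) (-1) := by rw [← tM_eq]; exact h.norm.base

theorem exists_u (h : Three C i) : ∃ u ∈ (C.T : Subgroup P), Red P u.1.1 ∧ u.1.1 = uM (1 : M2) := by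
  obtain ⟨u, hu⟩ := h.norm.swap_red.mem
  exact ⟨u, Fix.mem C.hP (hu ▸ h.norm.swap_red) (hu ▸ h.fu), hu ▸ h.norm.swap_red, hu⟩

/-- Elements of the Sylow subgroup in blocks. -/
theorem decomp (h : Three C i) {s : P} (hs : s ∈ (C.T : Subgroup P)) :
    ∃ a b : M2, InS C a ∧ (b = a ∨ b = -a) ∧ (a * i = i * a ∨ a * i = -(i * a)) ∧
      (s.1.1 = dg a b ∨ s.1.1 = dg a b * uM 1) := by
  obtain ⟨u, huT, -, hue⟩ := h.exists_u
  have hst : Same (cj s (tM : M4)) tM := h.norm.base ▸ C.fix s hs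
  obtain ⟨a, b, hab, e⟩ := h.norm.cpm_cases hst
  obtain ⟨g, hgT, hg⟩ : ∃ g ∈ (C.T : Subgroup P), g.1.1 = dg a b := by
    rcases e with e | e
    · exact ⟨s, hs, e⟩
    · refine ⟨s * u, mul_mem hs huT, ?_⟩
      rw [Subgroup.coe_mul, Units.val_mul, e, hue, mul_assoc, uM_sq det_one, mul_one]
  obtain ⟨hda, hdb⟩ := C.hP.in0_det hab
  have h1 := h.fu g hgT
  rw [C.hP.cj_uM hg, mul_one, same_uM] at h1
  have hb : b = a ∨ b = -a := by
    rcases h1 with h1 | h1
    · left
      calc b = a * b.adjugate * b := by rw [h1, one_mul]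
        _ = a := by rw [mul_assoc, (adj_inv hdb).2, mul_one]
    · right
      calc b = -(a * b.adjugate * b) := by rw [h1, neg_mul, one_mul, neg_neg]
        _ = -a := by rw [mul_assoc, (adj_inv hdb).2, mul_one]
  have hS : InS C a := by
    rcases hb with rfl | rfl
    · exact ⟨g, hgT, hg⟩
    · refine ⟨g * C.t, mul_mem hgT (t_mem C), ?_⟩
      rw [Subgroup.coe_mul, Units.val_mul, hg, h.tv_eq, dg_mul, mul_one, neg_mul_neg, mul_one]
  obtain ⟨g', hg'T, hg'⟩ := hS
  have h2 := h.fi g' hg'T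
  rw [C.hP.cj_uM hg', same_uM] at h2
  refine ⟨a, b, ⟨g', hg'T, hg'⟩, hb, ?_, e⟩
  rcases h2 with h2 | h2
  · left
    calc a * i = a * i * a.adjugate * a := by rw [mul_assoc (a * i), (adj_inv hda).2, mul_one]
      _ = i * a := by rw [h2]
  · right
    calc a * i = a * i * a.adjugate * a := by rw [mul_assoc (a * i), (adj_inv hda).2, mul_one]
      _ = -(i * a) := by rw [h2, neg_mul]

theorem InS.normalizes (h : Three C i) {a : M2} (ha : InS C a) : a * i = i * a ∨ a * i = -(i * a) := by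
  obtain ⟨g, hg, eg⟩ := ha
  have h2 := h.fi g hg
  have hd := (C.hP.in0_det ⟨g, eg⟩).1
  rw [C.hP.cj_uM eg, same_uM] at h2
  rcases h2 with h2 | h2
  · left
    calc a * i = a * i * a.adjugate * a := by rw [mul_assoc (a * i), (adj_inv hd).2, mul_one]
      _ = i * a := by rw [h2]
  · right
    calc a * i = a * i * a.adjugate * a := by rw [mul_assoc (a * i), (adj_inv hd).2, mul_one]
      _ = -(i * a) := by rw [h2, neg_mul]

theorem InS.inS_i (h : Three C i) : InS C i := by
  obtain ⟨x, hx⟩ := h.icl.red.mem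
  obtain ⟨u, huT, -, hue⟩ := h.exists_u
  have hxT : x ∈ (C.T : Subgroup P) := Fix.mem C.hP (hx ▸ h.icl.red) (hx ▸ h.fi)
  refine ⟨x * u * C.t, mul_mem (mul_mem hxT huT) (t_mem C), ?_⟩
  have key : dg i i.adjugate * uM (1 : M2) = uM i := by
    rw [dg_mul_uM, mul_one, adjugate_one, mul_one, uM_eq]
  rw [Subgroup.coe_mul, Subgroup.coe_mul, Units.val_mul, Units.val_mul, hx, hue, h.tv_eq, ← key,
    mul_assoc (dg i i.adjugate), uM_sq det_one, mul_one, adj_eq_of_trace h.tr, dg_mul, mul_one, neg_mul_neg, mul_one]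

/-- An element of the Sylow subgroup anticommuting with `i` gives a non-central involution. -/
theorem exists_root (h : Three C i) {j : M2} (hj : InS C j) (hji : j * i = -(i * j)) :
    ∃ x ∈ (C.T : Subgroup P), x.1.1 = uM j ∧ Red P x.1.1 := by
  obtain ⟨g, hg, eg⟩ := hj
  obtain ⟨u, huT, -, hue⟩ := h.exists_u
  have ht := trace_eq_zero_of_anticomm C.hP.two_ne (mul_self_of_trace h.tr h.det) hji
  have hd := (C.hP.in0_det ⟨g, eg⟩).1
  have e : (g * C.t * u).1.1 = uM j := by
    rw [Subgroup.coe_mul, Subgroup.coe_mul, Units.val_mul, Units.val_mul, eg, hue, h.tv_eq, dg_mul, mul_one,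
      mul_neg, mul_one, ← adj_eq_of_trace ht, dg_mul_uM, mul_one, adjugate_one, mul_one, uM_eq]
  exact ⟨_, mul_mem (mul_mem hg (t_mem C)) huT, e, by rw [e]; exact W5.uM j, by rw [e]; exact uM_sq hd, _, rfl⟩

/-- The blocks do not commute modulo signs. -/
theorem exists_noncomm (h : Three C i) : ∃ a b : M2, InS C a ∧ InS C b ∧ a * b ≠ b * a ∧ a * b ≠ -(b * a) := by
  by_contra hc
  push Not at hc
  obtain ⟨u, huT, hured, hue⟩ := h.exists_u
  set π := QuotientGroup.mk' (pm P) with hπ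
  have hcm : ∀ s ∈ (C.T : Subgroup P), Commute (s : P ⧸ pm P) C.t ∧ Commute (s : P ⧸ pm P) u := fun s hs =>
    ⟨(comm_mk_iff s C.t).2 (C.fix s hs), (comm_mk_iff s u).2 (by rw [hue]; exact h.fu s hs)⟩
  have hgen : ∀ s ∈ (C.T : Subgroup P), ∃ g ∈ (C.T : Subgroup P), (∃ a, InS C a ∧ g.1.1 = dg a a) ∧
      ((s : P ⧸ pm P) = g ∨ (s : P ⧸ pm P) = g * C.t ∨ (s : P ⧸ pm P) = g * u ∨
        (s : P ⧸ pm P) = g * C.t * u) := by
    intro s hs
    obtain ⟨a, b, ha, hb, -, e⟩ := h.decomp hs
    obtain ⟨g, hg, eg⟩ := ha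
    refine ⟨g, hg, ⟨a, ⟨g, hg, eg⟩, eg⟩, ?_⟩
    rcases e with e | e <;> rcases hb with rfl | rfl
    · exact Or.inl (congrArg _ (Subtype.ext (Units.ext (by rw [e, eg]))))
    · refine Or.inr (Or.inl ?_)
      rw [← QuotientGroup.mk_mul]
      refine congrArg _ (Subtype.ext (Units.ext ?_))
      rw [e, Subgroup.coe_mul, Units.val_mul, eg, h.tv_eq, dg_mul, mul_one, mul_neg, mul_one]
    · refine Or.inr (Or.inr (Or.inl ?_))
      rw [← QuotientGroup.mk_mul]
      refine congrArg _ (Subtype.ext (Units.ext ?_))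
      rw [e, Subgroup.coe_mul, Units.val_mul, eg, hue]
    · refine Or.inr (Or.inr (Or.inr ?_))
      rw [← QuotientGroup.mk_mul, ← QuotientGroup.mk_mul]
      refine congrArg _ (Subtype.ext (Units.ext ?_))
      rw [e, Subgroup.coe_mul, Subgroup.coe_mul, Units.val_mul, Units.val_mul, eg, h.tv_eq, dg_mul, mul_one,
        mul_neg, mul_one, hue]
  have hct := hcm _ (t_mem C)
  have hcu := hcm _ huT
  refine C.hP.false_of_abelian C.T (fun a ha b hb => ?_) (t_mem C) (mul_mem (t_mem C) huT) C.red.sq'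
    (C.red.not_mem_pm C.hP) (w := C.t * u) ?_ ?_
  · obtain ⟨g, hg, ⟨x, hx, ex⟩, e⟩ := hgen a ha
    obtain ⟨g', hg', ⟨y, hy, ey⟩, e'⟩ := hgen b hb
    have hgg : Commute (g : P ⧸ pm P) g' := by
      rw [Commute, SemiconjBy, ← QuotientGroup.mk_mul, ← QuotientGroup.mk_mul, mk_eq_mk_iff]
      simp only [Subgroup.coe_mul, Units.val_mul, ex, ey, dg_mul]
      by_cases hxy : x * y = y * x
      · exact Or.inl (by rw [hxy])
      · exact Or.inr (by rw [hc x y hx hy hxy, dg_neg])
    obtain ⟨gt, gu⟩ := hcm g hg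
    obtain ⟨gt', gu'⟩ := hcm g' hg'
    obtain ⟨-, tu⟩ := hct
    obtain ⟨ut, -⟩ := hcu
    rcases e with e | e | e | e <;> rw [e] <;> rcases e' with e' | e' | e' | e' <;> rw [e']
    all_goals
      repeat' first
        | apply Commute.mul_left
        | apply Commute.mul_right
      all_goals first
        | exact hgg | exact gt | exact gu | exact gt'.symm | exact gu'.symm | exact tu | exact ut
        | exact gt.symm | exact gu.symm | exact Commute.refl _
  · have e1 : C.t.1.1 * u.1.1 = -(u.1.1 * C.t.1.1) := (C.red.w5.anticomm_iff C.hP.two_ne hured.w5).2 (by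
      rw [hue, show C.t.1.1 = tM from h.norm.base]; exact h.norm.swap.2)
    refine Subtype.ext (Units.ext ?_)
    simp only [Hyp.negOne, Subgroup.coe_mul, Units.val_mul, Units.val_neg, Units.val_one]
    rw [show C.t.1.1 * u.1.1 * (C.t.1.1 * u.1.1) = C.t.1.1 * (u.1.1 * C.t.1.1) * u.1.1 by simp only [mul_assoc],
      ← neg_neg (u.1.1 * C.t.1.1), ← e1, mul_neg, neg_mul, ← mul_assoc, C.red.sq, one_mul, hured.sq]
  · intro hm
    have hne := h.norm.swap.not_same (h.norm.base ▸ C.red)
    refine hne ?_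
    rw [← hue, ← h.norm.base]
    have e1 : Same (u : P).1.1 C.t.1.1 := by
      rw [← mk_eq_mk_iff]
      have h1 : ((C.t * u : P) : P ⧸ pm P) = 1 := (QuotientGroup.eq_one_iff _).2 hm
      rw [QuotientGroup.mk_mul, mul_eq_one_iff_eq_inv] at h1
      have h2 : ((u : P ⧸ pm P))⁻¹ = u := by
        rw [inv_eq_iff_mul_eq_one, ← QuotientGroup.mk_mul, show u * u = 1 from Subtype.ext (Units.ext hured.sq),
          QuotientGroup.mk_one]
      rw [h1, h2]
    exact e1

/-- An element of the Sylow subgroup anticommuting with `i`, one commuting with non-trivial square. -/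
theorem exists_jq (h : Three C i) :
    ∃ j q : M2, InS C j ∧ j * i = -(i * j) ∧ InS C q ∧ q * i = i * q ∧ (q * q = i ∨ q * q = -i) := by
  have h2 := C.hP.two_ne
  have hii := mul_self_of_trace h.tr h.det
  obtain ⟨a, b, ha, hb, hne, hne'⟩ := h.exists_noncomm
  have hcc : ∀ x y : M2, x * i = i * x → y * i = i * y → x * y = y * x := by
    intro x y hx hy
    obtain ⟨α, β, rfl⟩ := exists_lin_of_comm h2 h.tr h.det hx
    obtain ⟨γ, δ, rfl⟩ := exists_lin_of_comm h2 h.tr h.det hy
    simp only [add_mul, mul_add, smul_mul_assoc, mul_smul_comm, one_mul, mul_one, smul_smul]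
    module
  obtain ⟨j, hj, hji⟩ : ∃ j, InS C j ∧ j * i = -(i * j) := by
    rcases InS.normalizes h ha with e | e
    · rcases InS.normalizes h hb with e' | e'
      · exact absurd (hcc a b e e') hne
      · exact ⟨b, hb, e'⟩
    · exact ⟨a, ha, e⟩
  -- a commuting element whose square is not central
  obtain ⟨c, hc, hci, hc2⟩ : ∃ c, InS C c ∧ c * i = i * c ∧ ¬ (c * c = 1 ∨ c * c = -1) := by
    by_contra hcon
    push Not at hcon
    have hC : ∀ c, InS C c → c * i = i * c → c = 1 ∨ c = -1 ∨ c = i ∨ c = -i := by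
      intro c hc hci
      obtain ⟨α, β, hαβ⟩ := exists_lin_of_comm h2 h.tr h.det hci
      have hsq : c * c = (α * α - β * β) • (1 : M2) + (2 * α * β) • i := by
        rw [hαβ]
        simp only [add_mul, mul_add, smul_mul_assoc, mul_smul_comm, one_mul, mul_one, smul_smul, hii, smul_neg]
        module
      have h0 : α * β = 0 := by
        by_contra h0
        obtain ⟨r, hr⟩ : ∃ r : F, c * c = r • 1 := by
          rcases hcon c hc hci with e | e
          · exact ⟨1, by rw [e, one_smul]⟩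
          · exact ⟨-1, by rw [e, neg_one_smul]⟩
        rw [hr] at hsq
        have ht := congrArg Matrix.trace hsq
        have hi' : (2 * α * β) • i = (r - (α * α - β * β)) • (1 : M2) := by rw [sub_smul, hsq]; abel
        have := congrArg Matrix.trace hi'
        rw [trace_smul, h.tr, trace_smul, trace_one2, smul_zero, smul_eq_mul, eq_comm, mul_eq_zero] at this
        rw [this.resolve_right h2, zero_smul, smul_eq_zero] at hi'
        rcases hi' with e | e
        · exact h0 ((mul_eq_zero.1 (by rwa [mul_assoc] at e)).resolve_left h2)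
        · have := h.det
          rw [e, det_zero] at this
          exact zero_ne_one this
      have hd := hc.det
      rcases mul_eq_zero.1 h0 with e | e <;> rw [e, zero_smul] at hαβ
      · rw [zero_add] at hαβ
        rw [hαβ, det_smul2, h.det, mul_one, pow_two, mul_self_eq_one_iff] at hd
        rcases hd with e' | e' <;> rw [hαβ, e']
        · exact Or.inr (Or.inr (Or.inl (one_smul _ _)))
        · exact Or.inr (Or.inr (Or.inr (neg_one_smul _ _)))
      · rw [add_zero] at hαβ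
        rw [hαβ, det_smul2, det_one, mul_one, pow_two, mul_self_eq_one_iff] at hd
        rcases hd with e' | e' <;> rw [hαβ, e']
        · exact Or.inl (one_smul _ _)
        · exact Or.inr (Or.inl (neg_one_smul _ _))
    -- every block is plus or minus one of `1`, `i`, `j`, `i * j`
    have hjj : j * j = -1 := mul_self_of_trace (trace_eq_zero_of_anticomm h2 hii hji) hj.det
    have hall : ∀ x, InS C x → ∃ y ∈ [(1 : M2), i, j, i * j], x = y ∨ x = -y := by
      intro x hx
      rcases InS.normalizes h hx with e | e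
      · rcases hC x hx e with e' | e' | e' | e'
        exacts [⟨1, by simp, Or.inl e'⟩, ⟨1, by simp, Or.inr e'⟩, ⟨i, by simp, Or.inl e'⟩, ⟨i, by simp, Or.inr e'⟩]
      · have e2 : x = -((x * j) * j) := by rw [mul_assoc, hjj, mul_neg, mul_one, neg_neg]
        rcases hC _ (hx.mul hj) (comm_of_two_anti e hji) with e' | e' | e' | e' <;> rw [e'] at e2
        · exact ⟨j, by simp, Or.inr (by rwa [one_mul] at e2)⟩
        · exact ⟨j, by simp, Or.inl (by rwa [neg_one_mul, neg_neg] at e2)⟩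
        · exact ⟨i * j, by simp, Or.inr e2⟩
        · exact ⟨i * j, by simp, Or.inl (by rwa [neg_mul, neg_neg] at e2)⟩
    obtain ⟨y, hy, ey⟩ := hall a ha
    obtain ⟨y', hy', ey'⟩ := hall b hb
    have hji' : j * i = -(i * j) := hji
    have key : y * y' = y' * y ∨ y * y' = -(y' * y) := by
      simp only [List.mem_cons, List.not_mem_nil, or_false] at hy hy'
      have e1 : i * j * i = j := by rw [mul_assoc, hji', mul_neg, ← mul_assoc, hii, neg_one_mul, neg_neg]
      have e2 : i * j * j = -i := by rw [mul_assoc, hjj, mul_neg, mul_one]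
      have e3 : i * (i * j) = -j := by rw [← mul_assoc, hii, neg_one_mul]
      have e4 : j * (i * j) = i := by rw [← mul_assoc, hji', neg_mul, e2, neg_neg]
      rcases hy with rfl | rfl | rfl | rfl <;> rcases hy' with rfl | rfl | rfl | rfl <;>
        simp [hji', e1, e2, e3, e4]
    rcases ey with rfl | rfl <;> rcases ey' with rfl | rfl <;> rcases key with k | k
    all_goals first
      | (refine hne ?_; simp only [neg_mul, mul_neg, neg_neg, k]; done)
      | (refine hne' ?_; simp only [neg_mul, mul_neg, neg_neg, k]; done)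
  -- its powers
  obtain ⟨g, hg, eg⟩ := hc
  obtain ⟨k, hk⟩ := C.T.2 ⟨g, hg⟩
  have hck : c ^ 2 ^ k = 1 := by
    have e : ∀ n : ℕ, (g ^ n).1.1 = dg (c ^ n) (c ^ n) := fun n => by
      induction n with
      | zero => simp [dg_one]
      | succ n ih => rw [pow_succ, Subgroup.coe_mul, Units.val_mul, ih, eg, dg_mul, pow_succ]
    have := e (2 ^ k)
    rw [show g ^ 2 ^ k = 1 from congrArg Subtype.val hk, show ((1 : P).1.1 : M4) = 1 from rfl, ← dg_one] at this
    exact (dg_inj this).1.symm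
  classical
  have hex : ∃ n : ℕ, c ^ 2 ^ n = 1 ∨ c ^ 2 ^ n = -1 := ⟨k, Or.inl hck⟩
  obtain ⟨n, hn, hmin⟩ : ∃ n : ℕ, (c ^ 2 ^ n = 1 ∨ c ^ 2 ^ n = -1) ∧
      ∀ m < n, ¬ (c ^ 2 ^ m = 1 ∨ c ^ 2 ^ m = -1) :=
    ⟨Nat.find hex, Nat.find_spec hex, fun m hm => Nat.find_min hex hm⟩
  rcases n with _ | _ | n
  · rw [pow_zero, pow_one] at hn
    exfalso; refine hc2 ?_
    rcases hn with e | e <;> rw [e] <;> simp
  · rw [pow_one, pow_two] at hn
    exact absurd hn hc2
  have hqc : c ^ 2 ^ n * i = i * c ^ 2 ^ n := (Commute.pow_left hci _).eq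
  refine ⟨j, c ^ 2 ^ n, hj, hji, InS.pow ⟨g, hg, eg⟩ _, hqc, ?_⟩
  have hw1 : c ^ 2 ^ n * c ^ 2 ^ n = c ^ 2 ^ (n + 1) := by rw [← pow_add, pow_succ, mul_two]
  rw [hw1]
  set w := c ^ 2 ^ (n + 1) with hw
  have hwi : w * i = i * w := (Commute.pow_left hci _).eq
  have hwd : w.det = 1 := (InS.pow ⟨g, hg, eg⟩ _).det
  have hww : w * w = -1 := by
    have e : w * w = c ^ 2 ^ (n + 1 + 1) := by rw [hw, ← pow_add, ← mul_two, ← pow_succ]
    rw [← e] at hn
    exact hn.resolve_left fun e' => hmin (n + 1) (Nat.lt_succ_self _) (eq_pm_of_sq h2 hwd e')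
  obtain ⟨α, β, hαβ⟩ := exists_lin_of_comm h2 h.tr h.det hwi
  have hwt := trace_of_sq_neg hwd hww
  rw [hαβ, trace_add, trace_smul, trace_smul, h.tr, trace_one2, smul_zero, add_zero, smul_eq_mul,
    mul_eq_zero] at hwt
  rw [hαβ, hwt.resolve_right h2, zero_smul, zero_add, det_smul2, h.det, mul_one, pow_two, mul_self_eq_one_iff] at hwd
  rw [hαβ, hwt.resolve_right h2, zero_smul, zero_add]
  rcases hwd with e | e <;> rw [e]
  · exact Or.inl (one_smul _ _)
  · exact Or.inr (neg_one_smul _ _)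

end Three

end CfsgLib.Sp4Odd
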