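import Cfsg.Agent.Lib.Sp4Odd.ThreeRoots

/-!
A Sylow two-subgroup fixes a single line of the class.
-/

set_option autoImplicit false
set_option maxHeartbeats 800000

namespace CfsgLib.Sp4Odd

open Matrix

variable {F : Type*} [Field F] [Fintype F]

local notation "M2" => Matrix (Fin 2) (Fin 2) F
local notation "M4" => Matrix (Fin 2) (Fin 2) (Matrix (Fin 2) (Fin 2) F)

variable {P : Subgroup (Matrix (Fin 2) (Fin 2) (Matrix (Fin 2) (Fin 2) F))ˣ}

/-- Two-element fixed-point conditions for `Five.no_double`. -/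
def IsDouble (π : Fin 5 → Fin 5) : Prop :=
  (∀ i, π (π i) = i) ∧ ∀ i j, π i = i → π j = j → i = j

instance (π : Fin 5 → Fin 5) : Decidable (IsDouble π) := by unfold IsDouble; infer_instance

theorem double_cases : ∀ a b : Fin 5, a ≠ b → a ≠ 3 → b ≠ 3 →
    IsDouble (Equiv.swap 3 4 ∘ Equiv.swap a b) ∨
    IsDouble ((Equiv.swap 3 4 ∘ Equiv.swap a b ∘ Equiv.swap 3 4) ∘
      (![1, 2, 0, 3, 4] ∘ Equiv.swap a b ∘ ![2, 0, 1, 3, 4])) := by decide

namespace Three

variable {C : Ctx P} {i : Matrix (Fin 2) (Fin 2) F}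

/-- Five lines through a root. -/
theorem exists_five (h : Three C i) {x : P} (hx : Root C i x) :
    ∃ v : Fin 5 → P, Five P v ∧ (∀ k, v k ∈ (C.T : Subgroup P)) ∧ (v 0).1.1 = C.tv ∧ (v 1).1.1 = uM 1 ∧
      (v 2).1.1 = uM i ∧ v 3 = x := by
  have h2 := C.hP.two_ne
  obtain ⟨hxT, hxr, j, hj, hji, hxe⟩ := hx
  obtain ⟨u, huT, hur, hue⟩ := h.exists_u
  obtain ⟨f, hf⟩ := h.icl.red.mem
  have hfT : f ∈ (C.T : Subgroup P) := Fix.mem C.hP (hf ▸ h.icl.red) (hf ▸ h.fi)
  have hk : (i * j) * i = -(i * (i * j)) := by rw [mul_assoc, hji, mul_neg]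
  obtain ⟨y, hyT, hye, hyr⟩ := h.exists_root ((InS.inS_i h).mul hj) hk
  have hii := mul_self_of_trace h.tr h.det
  have hjt := trace_eq_zero_of_anticomm h2 hii hji
  have hkt := trace_eq_zero_of_anticomm h2 hii hk
  have hij : (i * j).trace = 0 := hkt
  have hji0 : (j * i).trace = 0 := by rw [trace_mul_comm]; exact hij
  have uf : ip (uM (1 : M2)) (uM i) = 0 := by rw [C.hP.ip_one_uM, h.tr, zero_div]
  have ux : ip (uM (1 : M2)) (uM j) = 0 := by rw [C.hP.ip_one_uM, hjt, zero_div]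
  have uy : ip (uM (1 : M2)) (uM (i * j)) = 0 := by rw [C.hP.ip_one_uM, hkt, zero_div]
  have fx : ip (uM i) (uM j) = 0 := by
    rw [ip_uM h2, adj_eq_of_trace hjt, mul_neg, trace_neg, hij, neg_zero, zero_div]
  have fy : ip (uM i) (uM (i * j)) = 0 := by
    rw [ip_uM h2, adj_eq_of_trace hkt, mul_neg, trace_neg, ← mul_assoc, hii, neg_one_mul, trace_neg, hjt, neg_zero,
      neg_zero, zero_div]
  have xy : ip (uM j) (uM (i * j)) = 0 := by
    rw [ip_uM h2, adjugate_mul_distrib, ← mul_assoc, (adj_inv hj.det).1, one_mul, trace_adj, h.tr, zero_div]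
  have tu : ∀ m : M2, ip C.t.1.1 (uM m) = 0 := fun m => by
    rw [show C.t.1.1 = tM from h.norm.base, uM, ip_tM_wv h2]
  refine ⟨![C.t, u, f, x, y], ⟨fun k => ?_, fun k l hkl => ?_⟩, fun k => ?_, rfl, hue, hf, rfl⟩
  · fin_cases k
    exacts [C.red, hur, hf ▸ h.icl.red, hxr, hyr]
  · fin_cases k <;> fin_cases l <;> first
      | exact absurd rfl hkl
      | simp [hue, hf, hxe, hye, tu, uf, ux, uy, fx, fy, xy, ip_comm _ C.t.1.1, ip_comm (uM i) (uM 1),
          ip_comm (uM j), ip_comm (uM (i * j))]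
  · fin_cases k
    exacts [t_mem C, huT, hfT, hxT, hyT]

/-- A commuting block with square `i` swaps the two roots of five lines. -/
theorem exists_swap (h : Three C i) {v : Fin 5 → P} (hv : Five P v) (hvT : ∀ k, v k ∈ (C.T : Subgroup P))
    {a b : Fin 5} (hab : a ≠ b)
    (hrest : ∀ k, k ≠ a → k ≠ b → Same (v k).1.1 C.tv ∨ Same (v k).1.1 (uM 1) ∨ Same (v k).1.1 (uM i))
    (ha : Root C i (v a)) (hb : Root C i (v b)) : ∃ g : P, Perm5 v g (Equiv.swap a b) := by
  have h2 := C.hP.two_ne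
  obtain ⟨-, q, -, -, hq, hqi, hqq⟩ := h.exists_jq
  obtain ⟨g, hg, eg⟩ := hq
  obtain ⟨e0, e1, e2⟩ := h.cj_base eg hqi
  have hfix : ∀ k, k ≠ a → k ≠ b → Same (cj g (v k).1.1) (v k).1.1 := by
    intro k hka hkb
    rcases hrest k hka hkb with e | e | e
    all_goals
      have := Same.cj g e
      first
      | (rw [e0] at this; exact this.trans e.symm)
      | (rw [e1] at this; exact this.trans e.symm)
      | (rw [e2] at this; exact this.trans e.symm)
  have moved : ∀ c d : Fin 5, Root C i (v c) → (∀ k, k ≠ c → k ≠ d → Same (cj g (v k).1.1) (v k).1.1) →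
      Same (cj g (v c).1.1) (v d).1.1 := by
    rintro c d ⟨-, hcr, m, hm, hmi, hce⟩ hothers
    refine hv.same_of_orth C.hP (hcr.cj C.hP g) d fun k hkd => ?_
    by_cases hkc : k = c
    · subst hkc
      rw [hce, h.cj_root eg hqi hmi, ip_uM h2, mul_assoc (q * q), (adj_inv hm.det).1, mul_one]
      rcases hqq with e | e <;> rw [e]
      · rw [h.tr, zero_div]
      · rw [trace_neg, h.tr, neg_zero, zero_div]
    · have hkf := hothers k hkc hkd
      have h0 := hv.orth c k (Ne.symm hkc)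
      rw [← ip_cj g] at h0
      rw [ip_comm] at h0 ⊢
      exact Ctx.ip_same_zero hkf.symm h0
  refine ⟨g, fun k => ?_⟩
  by_cases hka : k = a
  · subst hka
    rw [Equiv.swap_apply_left]
    exact moved k b ha hfix
  by_cases hkb : k = b
  · subst hkb
    rw [Equiv.swap_apply_right]
    exact moved k a hb fun l h1 h2 => hfix l h2 h1
  rw [Equiv.swap_apply_of_ne_of_ne hka hkb]
  exact hfix k hka hkb

/-- Three fixed lines are impossible. -/
theorem false (h : Three C i) : False := by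
  have h2 := C.hP.two_ne
  obtain ⟨d1, d2, d3⟩ := h.lines_ne
  obtain ⟨n, hn, k, hk, hn0, hn1, hn2⟩ := h.exists_cycle
  obtain ⟨x, hx, hnx⟩ := h.exists_fixed_root hn hk
  obtain ⟨v, hv, hvT, e0, e1, e2, e3⟩ := h.exists_five hx
  -- the three-element
  have hγ : Perm5 v n ![1, 2, 0, 3, 4] := by
    intro l
    fin_cases l
    · show Same (cj n (v 0).1.1) (v 1).1.1
      rw [e0, e1]; exact hn0
    · show Same (cj n (v 1).1.1) (v 2).1.1
      rw [e1, e2]; exact hn1
    · show Same (cj n (v 2).1.1) (v 0).1.1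
      rw [e2, e0]; exact hn2
    · show Same (cj n (v 3).1.1) (v 3).1.1
      rw [e3]; exact hnx
    · show Same (cj n (v 4).1.1) (v 4).1.1
      refine hv.same_of_orth C.hP ((hv.red 4).cj C.hP n) 4 fun l hl => ?_
      have key : ∀ m : Fin 5, m ≠ 4 → ip (cj n (v 4).1.1) (cj n (v m).1.1) = 0 := fun m hm => by
        rw [ip_cj]; exact hv.orth 4 m (Ne.symm hm)
      rw [ip_comm]
      fin_cases l
      · exact Ctx.ip_same_zero (show Same (v 0).1.1 (cj n (v 2).1.1) by rw [e2, e0]; exact hn2.symm)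
          (by rw [ip_comm]; exact key 2 (by decide))
      · exact Ctx.ip_same_zero (show Same (v 1).1.1 (cj n (v 0).1.1) by rw [e0, e1]; exact hn0.symm)
          (by rw [ip_comm]; exact key 0 (by decide))
      · exact Ctx.ip_same_zero (show Same (v 2).1.1 (cj n (v 1).1.1) by rw [e1, e2]; exact hn1.symm)
          (by rw [ip_comm]; exact key 1 (by decide))
      · exact Ctx.ip_same_zero (show Same (v 3).1.1 (cj n (v 3).1.1) by rw [e3]; exact hnx.symm)
          (by rw [ip_comm]; exact key 3 (by decide))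
      · exact absurd rfl hl
  -- the transposition
  have hroot : ∀ (w : Fin 5 → P), Five P w → (∀ l, w l ∈ (C.T : Subgroup P)) → ∀ (a b c : Fin 5),
      Same (w a).1.1 C.tv → Same (w b).1.1 (uM 1) → Same (w c).1.1 (uM i) → ∀ l, l ≠ a → l ≠ b → l ≠ c →
      Root C i (w l) := by
    intro w hw hwT a b c ha hb hc l hla hlb hlc
    have ne : ∀ {A : M4} {m : Fin 5}, l ≠ m → Same (w m).1.1 A → ¬ Same (w l).1.1 A := fun {A m} hlm hm e => by
      have h0 := Ctx.ip_same_zero (e.trans hm.symm).symm (hw.orth l m hlm)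
      rw [(hw.red m).ip_self C.hP] at h0
      exact one_ne_zero h0
    rcases h.red_cases (hw.red l) (hwT l) with e | e | e | e
    exacts [absurd e (ne hla ha), absurd e (ne hlb hb), absurd e (ne hlc hc), e]
  have hr3 : Root C i (v 3) := e3 ▸ hx
  have hr4 : Root C i (v 4) := hroot v hv hvT 0 1 2 (Or.inl e0) (Or.inl e1) (Or.inl e2) 4 (by decide) (by decide)
    (by decide)
  obtain ⟨τ, hτ⟩ := h.exists_swap hv hvT (show (3 : Fin 5) ≠ 4 by decide) (fun l h3 h4 => by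
    fin_cases l
    exacts [Or.inl (Or.inl e0), Or.inr (Or.inl (Or.inl e1)), Or.inr (Or.inr (Or.inl e2)), absurd rfl h3,
      absurd rfl h4]) hr3 hr4
  -- move the five so that the root becomes the base line
  obtain ⟨g0, hg0⟩ := Ctx.inCl_of_mem hx.2.1 hx.1
  have hv1 := hv.conj C.hP g0⁻¹
  have h13 : (g0⁻¹ * v 3 * g0⁻¹⁻¹).1.1 = C.tv := by
    rw [← cj_coe, e3, hg0, cj_inv_cj]
  obtain ⟨c, hc, hcT⟩ := C.fix.conj_into (hv1.isPGroup C.hP) (fun g hg => by
    have := mem_stab5.1 hg 3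
    rw [h13] at this
    exact this)
  set K := c * g0⁻¹ with hK
  set w : Fin 5 → P := fun l => K * v l * K⁻¹ with hwdef
  have hw : Five P w := hv.conj C.hP K
  have hwT : ∀ l, w l ∈ (C.T : Subgroup P) := fun l => by
    have := hcT _ (hv1.mem_stab5 C.hP l)
    rwa [show c * (g0⁻¹ * v l * g0⁻¹⁻¹) * c⁻¹ = w l by simp only [hwdef, hK]; group] at this
  have hw3 : Same (w 3).1.1 C.tv := by
    rw [show w 3 = c * (g0⁻¹ * v 3 * g0⁻¹⁻¹) * c⁻¹ by simp only [hwdef, hK]; group, ← cj_coe, h13]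
    exact hc
  obtain ⟨a1, ha1⟩ := hw.exists_same C.hP hwT h.norm.swap_red h.fu
  obtain ⟨a2, ha2⟩ := hw.exists_same C.hP hwT h.icl.red h.fi
  have a13 : a1 ≠ 3 := fun e => d1 (ha1.trans (e ▸ hw3))
  have a23 : a2 ≠ 3 := fun e => d2 (ha2.trans (e ▸ hw3))
  have a12 : a1 ≠ a2 := fun e => d3 (ha2.trans (e ▸ ha1.symm))
  obtain ⟨a, b, hab, ha, hb, hcov⟩ : ∃ a b : Fin 5, a ≠ b ∧ (a ≠ 3 ∧ a ≠ a1 ∧ a ≠ a2) ∧
      (b ≠ 3 ∧ b ≠ a1 ∧ b ≠ a2) ∧ ∀ l, l = 3 ∨ l = a1 ∨ l = a2 ∨ l = a ∨ l = b := by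
    clear_value w
    revert a13 a23 a12
    clear ha1 ha2
    revert a1 a2
    decide
  have hra := hroot w hw hwT 3 a1 a2 hw3 ha1.symm ha2.symm a ha.1 ha.2.1 ha.2.2
  have hrb := hroot w hw hwT 3 a1 a2 hw3 ha1.symm ha2.symm b hb.1 hb.2.1 hb.2.2
  obtain ⟨σ, hσ⟩ := h.exists_swap hw hwT hab (fun l hla hlb => by
    rcases hcov l with e | e | e | e | e
    · exact Or.inl (e ▸ hw3)
    · exact Or.inr (Or.inl (e ▸ ha1.symm))
    · exact Or.inr (Or.inr (e ▸ ha2.symm))
    · exact absurd e hla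
    · exact absurd e hlb) hra hrb
  have hτ' : Perm5 w (K * τ * K⁻¹) (Equiv.swap 3 4) := hτ.conj K
  have hγ' : Perm5 w (K * n * K⁻¹) ![1, 2, 0, 3, 4] := hγ.conj K
  have hγi : Perm5 w (K * n * K⁻¹)⁻¹ ![2, 0, 1, 3, 4] := hγ'.inv (by decide)
  rcases double_cases a b hab ha.1 hb.1 with hd | hd
  · exact hw.no_double C.hP C.red C.fix h.norm.swap_red h.fu (fun e => d1 e.symm) (hτ'.mul hσ) hd.1 hd.2
  · exact hw.no_double C.hP C.red C.fix h.norm.swap_red h.fu (fun e => d1 e.symm)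
      ((hτ'.mul (hσ.mul hτ')).mul (hγ'.mul (hσ.mul hγi))) hd.1 hd.2

end Three

namespace Ctx

variable {C : Ctx P}

/-- The Sylow subgroup fixes one line of the class. -/
theorem om_same {A : M4} (hA : C.Om A) : Same A C.tv := by
  by_contra hne
  have h2 := C.hP.two_ne
  obtain ⟨k1, hk1, ek1⟩ := exists_sim_tM h2 C.red.w5 C.red.sq
  have e1 : (C.map hk1).tv = tM := (C.map_tv hk1).trans ek1
  have hA1 : (C.map hk1).Om (kv k1 A) := ⟨(C.inCl_map hk1).2 hA.1, C.fix_map hk1 hA.2⟩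
  have hne1 : ¬ Same (kv k1 A) (C.map hk1).tv := fun e => hne (by
    rw [C.map_tv hk1] at e
    rcases e with e | e
    · exact Or.inl (kv_inj _ e)
    · exact Or.inr (kv_inj _ (e.trans (kv_neg _ _).symm)))
  have ho := Ctx.om_t.orth hA1 hne1
  rw [e1] at ho
  obtain ⟨m, hm, em⟩ := eq_uM h2 hA1.1.red.w5 hA1.1.red.sq ho
  obtain ⟨k2, hk2, ek2t, ek2m⟩ := exists_sim_uM hm
  set D := (C.map hk1).map hk2 with hD
  have e2 : D.tv = tM := ((C.map hk1).map_tv hk2).trans (by rw [e1]; exact ek2t)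
  have hu : D.Om (uM 1) := by
    refine ⟨?_, ?_⟩
    · have := ((C.map hk1).inCl_map hk2).2 hA1.1
      rwa [em, show kv k2 (uM m) = uM 1 from ek2m] at this
    · have := (C.map hk1).fix_map hk2 hA1.2
      rwa [em, show kv k2 (uM m) = uM 1 from ek2m] at this
  have hN : Normal D := ⟨e2, hu.1, by rw [uM, ip_tM_wv h2]⟩
  have hut : ¬ Same (uM (1 : M2)) D.tv := by rw [e2]; exact hN.swap.not_same (e2 ▸ D.red)
  obtain ⟨B, hB, hBt, hBu⟩ := D.exists_third hu hut
  have hBo := Ctx.om_t.orth hB hBt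
  rw [e2] at hBo
  obtain ⟨i, hi, rfl⟩ := eq_uM h2 hB.1.red.w5 hB.1.red.sq hBo
  have hti := Ctx.Om.orth hu hB hBu
  rw [D.hP.ip_one_uM, div_eq_zero_iff] at hti
  exact (show Three D i from ⟨hN, hu.2, hB.1, hB.2, hi, hti.resolve_right h2⟩).false

/-- There is no subgroup of index two in the Sylow subgroup avoiding the base element and containing `-1`. -/
theorem false_of_index_two (Q : Subgroup P) (hQ : Q ≤ (C.T : Subgroup P))
    (h2 : Q.relIndex (C.T : Subgroup P) = 2) (ht : C.t ∉ Q) (hn : C.hP.negOne ∈ Q) : False := by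
  obtain ⟨A, hA, hne⟩ := C.om_of_transfer Q hQ h2 ht hn
  exact hne (om_same hA)

end Ctx

end CfsgLib.Sp4Odd
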