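import Cfsg.Agent.Lib.Sp4Odd.Three

/-!
The non-central involutions of a Sylow two-subgroup fixing three lines, and a normalising three-element.
-/

set_option autoImplicit false
set_option maxHeartbeats 800000

namespace CfsgLib.Sp4Odd

open Matrix

variable {F : Type*} [Field F] [Fintype F]

local notation "M2" => Matrix (Fin 2) (Fin 2) F
local notation "M4" => Matrix (Fin 2) (Fin 2) (Matrix (Fin 2) (Fin 2) F)

variable {P : Subgroup (Matrix (Fin 2) (Fin 2) (Matrix (Fin 2) (Fin 2) F))ˣ}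

namespace Three

variable {C : Ctx P} {i : Matrix (Fin 2) (Fin 2) F}

/-- A block anticommuting with `i`, coming from the Sylow subgroup. -/
def Root (C : Ctx P) (i : Matrix (Fin 2) (Fin 2) F) (x : P) : Prop :=
  x ∈ (C.T : Subgroup P) ∧ Red P x.1.1 ∧ ∃ j, InS C j ∧ j * i = -(i * j) ∧ x.1.1 = uM j

/-- The non-central involutions of the Sylow subgroup. -/
theorem red_cases (h : Three C i) {x : P} (hx : Red P x.1.1) (hxT : x ∈ (C.T : Subgroup P)) :
    Same x.1.1 C.tv ∨ Same x.1.1 (uM 1) ∨ Same x.1.1 (uM i) ∨ Root C i x := by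
  have h2 := C.hP.two_ne
  rcases hx.same_or_orth C.hP C.red (C.fix x hxT) with e | e
  · exact Or.inl e.symm
  obtain ⟨m, hm, hxm⟩ := eq_uM h2 hx.w5 hx.sq (by rw [ip_comm, ← h.norm.base]; exact e)
  rcases hx.same_or_orth C.hP h.norm.swap_red (h.fu x hxT) with e1 | e1
  · exact Or.inr (Or.inl e1.symm)
  have hmt : m.trace = 0 := by
    rw [hxm, ip_comm, C.hP.ip_one_uM, div_eq_zero_iff] at e1
    exact e1.resolve_right h2
  rcases hx.same_or_orth C.hP h.icl.red (h.fi x hxT) with e2 | e2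
  · exact Or.inr (Or.inr (Or.inl e2.symm))
  rw [hxm, ip_uM h2, div_eq_zero_iff, adj_eq_of_trace h.tr, mul_neg, trace_neg, neg_eq_zero] at e2
  refine Or.inr (Or.inr (Or.inr ⟨hxT, hx, m, ?_, anticomm_of_trace hmt h.tr (e2.resolve_right h2), hxm⟩))
  obtain ⟨u, huT, -, hue⟩ := h.exists_u
  refine ⟨x * u * C.t, mul_mem (mul_mem hxT huT) (t_mem C), ?_⟩
  have key : dg m m.adjugate * uM (1 : M2) = uM m := by
    rw [dg_mul_uM, mul_one, adjugate_one, mul_one, uM_eq]
  rw [Subgroup.coe_mul, Subgroup.coe_mul, Units.val_mul, Units.val_mul, hxm, hue, h.tv_eq, ← key,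
    mul_assoc (dg m m.adjugate), uM_sq det_one, mul_one, adj_eq_of_trace hmt, dg_mul, mul_one, neg_mul_neg, mul_one]

/-- A block commuting with `i` fixes the three lines. -/
theorem cj_base (h : Three C i) {g : P} {c : M2} (hg : g.1.1 = dg c c) (hci : c * i = i * c) :
    cj g C.tv = C.tv ∧ cj g (uM (1 : M2)) = uM 1 ∧ cj g (uM i) = uM i := by
  have hd := (C.hP.in0_det ⟨g, hg⟩).1
  refine ⟨?_, ?_, ?_⟩
  · rw [h.norm.base, C.hP.cj_tM hg]
  · rw [C.hP.cj_uM hg, mul_one, (adj_inv hd).1]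
  · rw [C.hP.cj_uM hg, hci, mul_assoc, (adj_inv hd).1, mul_one]

/-- A block commuting with `i` multiplies the anticommuting blocks by its square. -/
theorem cj_root (h : Three C i) {g : P} {c m : M2} (hg : g.1.1 = dg c c) (hci : c * i = i * c)
    (hm : m * i = -(i * m)) : cj g (uM m) = uM (c * c * m) := by
  rw [C.hP.cj_uM hg, mul_assoc c m, mul_of_anticomm C.hP.two_ne h.tr h.det hci hm, ← mul_assoc]

theorem not_pm_i (h : Three C i) : i ≠ 1 ∧ i ≠ -1 := by
  refine ⟨fun e => ?_, fun e => ?_⟩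
  · have := h.tr; rw [e, trace_one2] at this; exact C.hP.two_ne this
  · have := h.tr; rw [e, trace_neg, trace_one2, neg_eq_zero] at this; exact C.hP.two_ne this

/-- Roots are not fixed. -/
theorem Root.not_fix (h : Three C i) {x : P} (hx : Root C i x) : ¬ Fix C.T x.1.1 := by
  obtain ⟨hxT, hred, m, hm, hmi, hxm⟩ := hx
  intro hf
  obtain ⟨-, q, -, -, hq, hqi, hqq⟩ := h.exists_jq
  obtain ⟨g, hg, eg⟩ := hq
  have := hf g hg
  rw [hxm, h.cj_root eg hqi hmi, same_uM] at this
  have hmd := hm.det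
  have e : q * q = 1 ∨ q * q = -1 := by
    rcases this with e | e
    · left
      calc q * q = q * q * m * m.adjugate := by rw [mul_assoc (q * q), (adj_inv hmd).1, mul_one]
        _ = 1 := by rw [e, (adj_inv hmd).1]
    · right
      calc q * q = q * q * m * m.adjugate := by rw [mul_assoc (q * q), (adj_inv hmd).1, mul_one]
        _ = -1 := by rw [e, neg_mul, (adj_inv hmd).1]
  obtain ⟨h1, h2⟩ := h.not_pm_i
  rcases hqq with r | r <;> rw [r] at e <;> rcases e with e | e
  · exact h1 e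
  · exact h2 e
  · exact h2 (by rw [← neg_neg i, e])
  · exact h1 (neg_injective e)

/-- The fixed lines. -/
theorem fix_cases (h : Three C i) {A : M4} (hA : Red P A) (hf : Fix C.T A) :
    Same A C.tv ∨ Same A (uM 1) ∨ Same A (uM i) := by
  obtain ⟨x, rfl⟩ := hA.mem
  rcases h.red_cases hA (Fix.mem C.hP hA hf) with e | e | e | e
  exacts [Or.inl e, Or.inr (Or.inl e), Or.inr (Or.inr e), absurd hf (e.not_fix h)]

theorem fix_normalizer {n : P} (hn : n ∈ Subgroup.normalizer ((C.T : Subgroup P) : Set P)) {A : M4}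
    (hA : Fix C.T A) : Fix C.T (cj n A) := by
  intro s hs
  have hm : n⁻¹ * s * n ∈ (C.T : Subgroup P) := (Subgroup.mem_normalizer_iff''.1 hn s).1 hs
  have := Same.cj n (hA _ hm)
  rwa [← cj_mul, show n * (n⁻¹ * s * n) = s * n by group, cj_mul] at this

theorem lines_ne (h : Three C i) :
    ¬ Same (uM (1 : M2)) C.tv ∧ ¬ Same (uM i) C.tv ∧ ¬ Same (uM i) (uM (1 : M2)) := by
  refine ⟨?_, ?_, ?_⟩
  · rw [h.norm.base]; exact h.norm.swap.not_same (h.norm.base ▸ C.red)
  · exact (h.norm.inL_uM h.icl).not_same C.red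
  · rw [same_uM]; exact fun e => e.elim h.not_pm_i.1 h.not_pm_i.2

/-- A three-element normalising the Sylow subgroup permutes the three lines cyclically. -/
theorem exists_cycle (h : Three C i) : ∃ n ∈ Subgroup.normalizer ((C.T : Subgroup P) : Set P), ∃ k : ℕ,
    n ^ 3 ^ k = 1 ∧ Same (cj n C.tv) (uM 1) ∧ Same (cj n (uM 1)) (uM i) ∧ Same (cj n (uM i)) C.tv := by
  obtain ⟨g, hg⟩ := h.norm.swap.1
  obtain ⟨n, hn, hn0⟩ := C.fix.burnside h.fu (g := g) (Or.inl hg.symm)
  obtain ⟨d1, d2, d3⟩ := h.lines_ne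
  have inj : ∀ {A B D : M4}, Same (cj n A) D → Same (cj n B) D → Same A B := fun {A B D} hA hB => by
    have := Same.cj n⁻¹ (hA.trans hB.symm)
    rwa [cj_inv_cj, cj_inv_cj] at this
  have im : ∀ {A : M4}, Red P A → Fix C.T A →
      Same (cj n A) C.tv ∨ Same (cj n A) (uM 1) ∨ Same (cj n A) (uM i) := fun hA hf =>
    h.fix_cases (hA.cj C.hP n) (fix_normalizer hn hf)
  have hu : Same (cj n (uM 1)) (uM i) := by
    rcases im h.norm.swap_red h.fu with e | e | e
    · exfalso
      -- an odd power of `n` moves the base line, yet lies in the Sylow subgroup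
      obtain ⟨e2, m, hm, hord⟩ := Nat.exists_eq_pow_mul_and_not_dvd (orderOf_pos n).ne' 2 (by norm_num)
      have hev : ∀ l : ℕ, Same (cj (n ^ (2 * l)) C.tv) C.tv := by
        intro l
        induction l with
        | zero => rw [mul_zero, pow_zero, cj_one]; exact Same.refl _
        | succ l ih =>
          rw [show 2 * (l + 1) = 2 * l + 1 + 1 by ring, pow_succ', pow_succ', cj_mul, cj_mul]
          exact (Same.cj n ((Same.cj n ih).trans hn0)).trans e
      obtain ⟨l, hl⟩ : Odd m := Nat.odd_iff.2 (by omega)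
      have hmv : Same (cj (n ^ m) C.tv) (uM 1) := by
        rw [hl, pow_succ', cj_mul]; exact (Same.cj n (hev l)).trans hn0
      have hT : n ^ m ∈ (C.T : Subgroup P) := by
        refine mem_of_normalize C.T (IsPGroup.of_card (n := (Nat.log 2 (orderOf (n ^ m)))) ?_)
          (pow_mem hn m)
        have hdvd : orderOf (n ^ m) ∣ 2 ^ e2 := orderOf_dvd_of_pow_eq_one (by
          rw [← pow_mul, mul_comm, ← hord, pow_orderOf_eq_one])
        obtain ⟨r, -, hr⟩ := (Nat.dvd_prime_pow Nat.prime_two).1 hdvd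
        rw [Nat.card_zpowers, hr, Nat.log_pow (by norm_num)]
      exact d1 ((C.fix _ hT).symm.trans hmv).symm
    · exact absurd (inj hn0 e).symm d1
    · exact e
  have hf : Same (cj n (uM i)) C.tv := by
    rcases im h.icl.red h.fi with e | e | e
    · exact e
    · exact absurd (inj hn0 e).symm d2
    · exact absurd (inj hu e).symm d3
  -- the three-part of `n`
  obtain ⟨e3, m, hm, hord⟩ := Nat.exists_eq_pow_mul_and_not_dvd (orderOf_pos n).ne' 3 (by norm_num)
  refine ⟨n ^ (m * m), pow_mem hn _, e3, ?_, ?_⟩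
  · rw [← pow_mul, show m * m * 3 ^ e3 = orderOf n * m by rw [hord]; ring, pow_mul, pow_orderOf_eq_one, one_pow]
  have h3 : ∀ A, (Same A C.tv ∨ Same A (uM 1) ∨ Same A (uM i)) → ∀ l : ℕ, Same (cj (n ^ (3 * l)) A) A := by
    intro A hA l
    induction l with
    | zero => rw [mul_zero, pow_zero, cj_one]; exact Same.refl _
    | succ l ih =>
      rw [show 3 * (l + 1) = 3 * l + 1 + 1 + 1 by ring, pow_succ', pow_succ', pow_succ', cj_mul, cj_mul, cj_mul]
      refine (Same.cj n (Same.cj n (Same.cj n ih))).trans ?_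
      rcases hA with e | e | e
      · exact ((((Same.cj n (Same.cj n (Same.cj n e))).trans (Same.cj n (Same.cj n hn0))).trans
          (Same.cj n hu)).trans hf).trans e.symm
      · exact ((((Same.cj n (Same.cj n (Same.cj n e))).trans (Same.cj n (Same.cj n hu))).trans
          (Same.cj n hf)).trans hn0).trans e.symm
      · exact ((((Same.cj n (Same.cj n (Same.cj n e))).trans (Same.cj n (Same.cj n hf))).trans
          (Same.cj n hn0)).trans hu).trans e.symm
  obtain ⟨l, hl⟩ : ∃ l, m * m = 3 * l + 1 := by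
    have : m * m % 3 = 1 := by
      rw [Nat.mul_mod]
      rcases (by omega : m % 3 = 1 ∨ m % 3 = 2) with e | e <;> rw [e]
    exact ⟨m * m / 3, by omega⟩
  rw [hl, pow_succ']
  simp only [cj_mul]
  exact ⟨(Same.cj n (h3 _ (Or.inl (Same.refl _)) l)).trans hn0,
    (Same.cj n (h3 _ (Or.inr (Or.inl (Same.refl _))) l)).trans hu,
    (Same.cj n (h3 _ (Or.inr (Or.inr (Same.refl _))) l)).trans hf⟩

/-- The blocks of the Sylow subgroup commuting with `i`. -/
def rot (C : Ctx P) (i : Matrix (Fin 2) (Fin 2) F) : Subgroup P where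
  carrier := {g | g ∈ (C.T : Subgroup P) ∧ ∃ c, g.1.1 = dg c c ∧ c * i = i * c}
  one_mem' := ⟨one_mem _, 1, by simp [dg_one], by simp⟩
  mul_mem' := by
    rintro g h ⟨hg, c, ec, hc⟩ ⟨hh, d, ed, hd⟩
    exact ⟨mul_mem hg hh, c * d, by rw [Subgroup.coe_mul, Units.val_mul, ec, ed, dg_mul],
      by rw [mul_assoc, hd, ← mul_assoc, hc, mul_assoc]⟩
  inv_mem' := by
    rintro g ⟨hg, c, ec, hc⟩
    obtain ⟨hdc, -⟩ := C.hP.in0_det ⟨g, ec⟩
    refine ⟨inv_mem hg, c.adjugate, ?_, ?_⟩
    · rw [Subgroup.coe_inv]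
      exact Units.inv_eq_of_mul_eq_one_right (by rw [ec, dg_mul, (adj_inv hdc).1, dg_one])
    · calc c.adjugate * i = c.adjugate * (i * c) * c.adjugate := by
            rw [mul_assoc c.adjugate, mul_assoc i, (adj_inv hdc).1, mul_one]
        _ = i * c.adjugate := by rw [← hc, ← mul_assoc, (adj_inv hdc).2, one_mul]

/-- Some root is fixed by the three-element up to sign. -/
theorem exists_fixed_root (h : Three C i) {n : P} (hn : n ∈ Subgroup.normalizer ((C.T : Subgroup P) : Set P))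
    {k : ℕ} (hk : n ^ 3 ^ k = 1) : ∃ x, Root C i x ∧ Same (cj n x.1.1) x.1.1 := by
  classical
  haveI : Fact (Nat.Prime 3) := ⟨Nat.prime_three⟩
  haveI : Fact (Nat.Prime 2) := ⟨Nat.prime_two⟩
  set π := QuotientGroup.mk' (pm P) with hπ
  set X : Set (P ⧸ pm P) := π '' {x | Root C i x} with hX
  obtain ⟨j, -, hj, hji, -, -, -⟩ := h.exists_jq
  obtain ⟨x0, hx0T, hx0e, hx0r⟩ := h.exists_root hj hji
  have hXeq : X = (fun y => y * π x0) '' ((rot C i).map π : Set (P ⧸ pm P)) := by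
    refine Set.Subset.antisymm ?_ ?_
    · rintro _ ⟨x, ⟨hxT, hxr, m, hm, hmi, hxm⟩, rfl⟩
      refine ⟨π (x * x0), Subgroup.mem_map_of_mem _ ⟨mul_mem hxT hx0T, -(m * j), ?_, ?_⟩, ?_⟩
      · have hmt := trace_eq_zero_of_anticomm C.hP.two_ne (mul_self_of_trace h.tr h.det) hmi
        have hjt := trace_eq_zero_of_anticomm C.hP.two_ne (mul_self_of_trace h.tr h.det) hji
        rw [Subgroup.coe_mul, Units.val_mul, hxm, hx0e, uM_eq j, uM_eq m]
        simp [Matrix.mul_fin_two, dg, adj_eq_of_trace hmt, adj_eq_of_trace hjt]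
      · rw [neg_mul, mul_neg, comm_of_two_anti hmi hji]
      · show π (x * x0) * π x0 = π x
        rw [map_mul, mul_assoc, ← map_mul π x0, hx0r.sq', map_one, mul_one]
    · rintro _ ⟨_, ⟨d, ⟨hd, c, ec, hci⟩, rfl⟩, rfl⟩
      refine ⟨d * x0, ?_, map_mul π d x0⟩
      have hm : (c * j) * i = -(i * (c * j)) := by
        rw [mul_assoc, hji, mul_neg, ← mul_assoc, hci, mul_assoc]
      obtain ⟨x, hxT, hxe, hxr⟩ := h.exists_root (InS.mul ⟨d, hd, ec⟩ hj) hm
      have e : d * x0 = x := by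
        have hmt := trace_eq_zero_of_anticomm C.hP.two_ne (mul_self_of_trace h.tr h.det) hm
        have hjt := trace_eq_zero_of_anticomm C.hP.two_ne (mul_self_of_trace h.tr h.det) hji
        refine Subtype.ext (Units.ext ?_)
        rw [Subgroup.coe_mul, Units.val_mul, ec, hx0e, hxe, dg_mul_uM, uM_eq, adj_eq_of_trace hmt,
          adj_eq_of_trace hjt, mul_neg]
      exact e ▸ ⟨hxT, hxr, c * j, InS.mul ⟨d, hd, ec⟩ hj, hm, hxe⟩
  have hnd : ¬ 3 ∣ Nat.card X := by
    rw [Nat.card_coe_set_eq, hXeq, Set.ncard_image_of_injective _ fun a b e => mul_right_cancel e]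
    have hp : IsPGroup 2 ((rot C i).map π) := (C.T.2.to_le (show rot C i ≤ (C.T : Subgroup P) from fun g hg => hg.1)).map π
    obtain ⟨e, he⟩ := IsPGroup.iff_card.1 hp
    rw [← Nat.card_coe_set_eq]
    show ¬ 3 ∣ Nat.card ((rot C i).map π : Subgroup (P ⧸ pm P))
    rw [he]
    intro hd
    exact absurd (Nat.prime_three.dvd_of_dvd_pow hd) (by norm_num)
  let H : Subgroup P := Subgroup.zpowers n
  have hH : H ≤ Subgroup.normalizer ((C.T : Subgroup P) : Set P) := Subgroup.zpowers_le.2 hn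
  have hinv : ∀ g ∈ H, ∀ y ∈ X, π g * y * (π g)⁻¹ ∈ X := by
    rintro g hg _ ⟨x, hx, rfl⟩
    refine ⟨g * x * g⁻¹, ?_, by simp⟩
    have hr : Red P (g * x * g⁻¹).1.1 := by rw [← cj_coe]; exact hx.2.1.cj C.hP g
    have hT : g * x * g⁻¹ ∈ (C.T : Subgroup P) := (Subgroup.mem_normalizer_iff.1 (hH hg) x).1 hx.1
    have key : ∀ {A : M4}, Fix C.T A → Same (g * x * g⁻¹).1.1 A → False := fun {A} hA e => by
      refine hx.not_fix h ?_
      have := fix_normalizer (inv_mem (hH hg)) (hA.same e)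
      rwa [← cj_coe, cj_inv_cj] at this
    rcases h.red_cases hr hT with e | e | e | e
    · exact (key C.fix e).elim
    · exact (key h.fu e).elim
    · exact (key h.fi e).elim
    · exact e
  letI : MulAction H X :=
    { smul := fun g y => ⟨π g.1 * y.1 * (π g.1)⁻¹, hinv g.1 g.2 y.1 y.2⟩
      one_smul := fun y => Subtype.ext (show π (1 : P) * y.1 * (π (1 : P))⁻¹ = y.1 by simp)
      mul_smul := fun g g' y => Subtype.ext (show π (g.1 * g'.1) * y.1 * (π (g.1 * g'.1))⁻¹ =
        π g.1 * (π g'.1 * y.1 * (π g'.1)⁻¹) * (π g.1)⁻¹ by simp only [map_mul, _root_.mul_inv_rev, mul_assoc]) }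
  have hp3 : IsPGroup 3 H := by
    rintro ⟨y, hy⟩
    obtain ⟨l, rfl⟩ := Subgroup.mem_zpowers_iff.1 hy
    refine ⟨k, Subtype.ext ?_⟩
    show (n ^ l) ^ 3 ^ k = 1
    rw [← zpow_natCast, ← _root_.zpow_mul, mul_comm, _root_.zpow_mul, zpow_natCast, hk, _root_.one_zpow]
  obtain ⟨⟨y, x, hx, rfl⟩, hfix⟩ := hp3.nonempty_fixed_point_of_prime_not_dvd_card X hnd
  refine ⟨x, hx, ?_⟩
  have e : π n * π x * (π n)⁻¹ = π x := congrArg Subtype.val (hfix ⟨n, Subgroup.mem_zpowers n⟩)
  rw [cj_coe, ← mk_eq_mk_iff]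
  simpa [hπ] using e

end Three

end CfsgLib.Sp4Odd
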