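import Cfsg.Agent.Lib.Sp4Odd.Lines

/-!
Conjugation of the whole setting by a similitude, and the normal forms of the base vector and of a neighbour.
-/

set_option autoImplicit false

namespace CfsgLib.Sp4Odd

open Matrix

variable {F : Type*} [Field F] [Fintype F]

local notation "M4" => Matrix (Fin 2) (Fin 2) (Matrix (Fin 2) (Fin 2) F)

variable {P : Subgroup (Matrix (Fin 2) (Fin 2) (Matrix (Fin 2) (Fin 2) F))ˣ}

/-- Conjugation of a matrix by a unit. -/
def kv (h : M4ˣ) (A : M4) : M4 := h.1 * A * (h⁻¹).1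

theorem kv_kv (g h : M4ˣ) (A : M4) : kv g (kv h A) = kv (g * h) A := by
  simp [kv, _root_.mul_inv_rev, mul_assoc]

theorem kv_inv (h : M4ˣ) (A : M4) : kv h⁻¹ (kv h A) = A := by
  rw [kv_kv, inv_mul_cancel]; simp [kv]

theorem kv_neg (h : M4ˣ) (A : M4) : kv h (-A) = -kv h A := by simp [kv]

theorem kv_inj (h : M4ˣ) {A B : M4} (e : kv h A = kv h B) : A = B := by rw [← kv_inv h A, e, kv_inv]

theorem Same.kv {A B : M4} (h : M4ˣ) : Same A B → Same (Sp4Odd.kv h A) (Sp4Odd.kv h B) := by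
  rintro (rfl | rfl)
  · exact Or.inl rfl
  · exact Or.inr (kv_neg h B)

/-- The conjugate of the group. -/
def conjP (h : M4ˣ) (P : Subgroup (Matrix (Fin 2) (Fin 2) (Matrix (Fin 2) (Fin 2) F))ˣ) : Subgroup M4ˣ :=
  P.map (MulAut.conj h).toMonoidHom

theorem mem_conjP {h : M4ˣ} {g : M4ˣ} : g ∈ conjP h P ↔ h⁻¹ * g * h ∈ P := by
  rw [conjP, Subgroup.mem_map]
  constructor
  · rintro ⟨x, hx, rfl⟩; simpa [mul_assoc] using hx
  · intro hx; exact ⟨_, hx, by simp [mul_assoc]⟩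

theorem Hyp.map (hP : Hyp P) {h : M4ˣ} (hs : Sim h.1) : Hyp (conjP h P) where
  two_ne := hP.two_ne
  iso := fun g hg => by
    have := Iso.conj hs (hP.iso _ (mem_conjP.1 hg))
    rwa [show h * (h⁻¹ * g * h) * h⁻¹ = g by group] at this
  perfect := by rw [conjP, ← Subgroup.map_commutator, hP.perfect]
  simple := fun N hN hn => by
    have h' := hP.simple (conjP h⁻¹ N) (fun g hg => by
      have := mem_conjP.1 (hN (mem_conjP.1 hg))
      rwa [inv_inv, show h⁻¹ * (h * g * h⁻¹) * h = g by group] at this) (fun g hg n hn' => by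
      rw [mem_conjP, inv_inv] at hn' ⊢
      have hg' : h * g * h⁻¹ ∈ conjP h P := mem_conjP.2 (by rwa [show h⁻¹ * (h * g * h⁻¹) * h = g by group])
      have := hn _ hg' _ hn'
      rwa [show h * g * h⁻¹ * (h * n * h⁻¹) * (h * g * h⁻¹)⁻¹ = h * (g * n * g⁻¹) * h⁻¹ by group] at this)
    rcases h' with h' | h'
    · refine Or.inl fun n hn' => ?_
      have := h' (h⁻¹ * n * h) (mem_conjP.2 (by rwa [inv_inv, show h * (h⁻¹ * n * h) * h⁻¹ = n by group]))
      rcases this with e | e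
      · exact Or.inl (by rw [show n = h * (h⁻¹ * n * h) * h⁻¹ by group, e]; group)
      · exact Or.inr (by rw [show n = h * (h⁻¹ * n * h) * h⁻¹ by group, e]; simp)
    · refine Or.inr (le_antisymm hN fun g hg => ?_)
      have hm : h⁻¹ * g * h ∈ conjP h⁻¹ N := by rw [h']; exact mem_conjP.1 hg
      rw [mem_conjP, inv_inv] at hm
      rwa [show h * (h⁻¹ * g * h) * h⁻¹ = g by group] at hm
  noTv := fun g hg k hk c hc => by
    have := hP.noTv _ (mem_conjP.1 hg) (k * h) (Sim.mul hk hs) c hc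
    rwa [show k * h * (h⁻¹ * g * h) * (k * h)⁻¹ = k * g * k⁻¹ by group] at this
  exists_inv := by
    obtain ⟨g, hg, h2, h1, hn⟩ := hP.exists_inv
    refine ⟨h * g * h⁻¹, mem_conjP.2 (by rwa [show h⁻¹ * (h * g * h⁻¹) * h = g by group]), ?_, ?_, ?_⟩
    · rw [show h * g * h⁻¹ * (h * g * h⁻¹) = h * (g * g) * h⁻¹ by group, h2]; group
    · exact fun e => h1 (by rw [show g = h⁻¹ * (h * g * h⁻¹) * h by group, e]; group)
    · exact fun e => hn (by rw [show g = h⁻¹ * (h * g * h⁻¹) * h by group, e]; simp)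

/-- The isomorphism with the conjugate group. -/
noncomputable def conjE (h : M4ˣ) (P : Subgroup (Matrix (Fin 2) (Fin 2) (Matrix (Fin 2) (Fin 2) F))ˣ) :
    P ≃* conjP h P :=
  P.equivMapOfInjective _ (MulAut.conj h).injective

theorem conjE_val (h : M4ˣ) (g : P) : (conjE h P g).1 = h * g.1 * h⁻¹ :=
  Subgroup.coe_equivMapOfInjective_apply _ _ _ g

theorem conjE_mat (h : M4ˣ) (g : P) : (conjE h P g).1.1 = kv h g.1.1 := by rw [conjE_val]; simp [kv]

theorem cj_conjE (h : M4ˣ) (g : P) (A : M4) : cj (conjE h P g) (kv h A) = kv h (cj g A) := by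
  simp [cj, kv, conjE_val, _root_.mul_inv_rev, mul_assoc]

theorem Red.map (hP : Hyp P) {h : M4ˣ} (hs : Sim h.1) {A : M4} (hA : Red P A) : Red (conjP h P) (kv h A) := by
  refine ⟨hA.w5.conj hP.two_ne hs, ?_, ?_⟩
  · calc kv h A * kv h A = kv h (A * A) := by simp [kv, mul_assoc]
      _ = 1 := by rw [hA.sq]; simp [kv]
  · obtain ⟨g, rfl⟩ := hA.mem
    exact ⟨conjE h P g, conjE_mat h g⟩

/-- The conjugate of the context. -/
noncomputable def Ctx.map (C : Ctx P) {h : M4ˣ} (hs : Sim h.1) : Ctx (conjP h P) where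
  hP := C.hP.map hs
  T := C.T.comapOfInjective (conjE h P).symm.toMonoidHom (conjE h P).symm.injective
    (fun x _ => ⟨conjE h P x, (conjE h P).symm_apply_apply x⟩)
  t := conjE h P C.t
  red := by rw [conjE_mat]; exact C.red.map C.hP hs
  fix := by
    intro s hs'
    have hs'' : (conjE h P).symm s ∈ (C.T : Subgroup P) := hs'
    have := Same.kv h (C.fix _ hs'')
    rw [← cj_conjE, MulEquiv.apply_symm_apply] at this
    rwa [conjE_mat]

theorem Ctx.map_tv (C : Ctx P) {h : M4ˣ} (hs : Sim h.1) : (C.map hs).tv = kv h C.tv := conjE_mat h C.t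

theorem Ctx.inCl_map (C : Ctx P) {h : M4ˣ} (hs : Sim h.1) {A : M4} :
    (C.map hs).InCl (kv h A) ↔ C.InCl A := by
  constructor
  · rintro ⟨g, hg⟩
    obtain ⟨g, rfl⟩ := (conjE h P).surjective g
    rw [C.map_tv hs, cj_conjE] at hg
    exact ⟨g, kv_inj h hg⟩
  · rintro ⟨g, rfl⟩
    exact ⟨conjE h P g, by rw [C.map_tv hs, cj_conjE]⟩

theorem Ctx.inL_map (C : Ctx P) {h : M4ˣ} (hs : Sim h.1) {A B : M4} :
    (C.map hs).InL (kv h A) (kv h B) ↔ C.InL A B := by
  rw [Ctx.InL, Ctx.InL, C.inCl_map hs, kv, kv, ip_conj]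

theorem Ctx.fix_map (C : Ctx P) {h : M4ˣ} (hs : Sim h.1) {A : M4} (hA : Fix C.T A) :
    Fix (C.map hs).T (kv h A) := by
  intro s hs'
  have := Same.kv h (hA _ (show (conjE h P).symm s ∈ (C.T : Subgroup P) from hs'))
  rwa [← cj_conjE, MulEquiv.apply_symm_apply] at this

/-- The base vector and a neighbour in normal position. -/
structure Normal (C : Ctx P) : Prop where
  base : C.tv = tM
  swap : C.InL tM (uM 1)

/-- Every setting has a conjugate in normal position. -/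
theorem Hyp.exists_normal (hP : Hyp P) :
    ∃ (P' : Subgroup (Matrix (Fin 2) (Fin 2) (Matrix (Fin 2) (Fin 2) F))ˣ) (C : Ctx P'), Normal C := by
  obtain ⟨T, x, hx, hfix⟩ := hP.exists_central
  obtain ⟨h, hs, he⟩ := exists_sim_tM hP.two_ne hx.w5 hx.sq
  let C0 : Ctx (conjP h P) := (⟨hP, T, x, hx, hfix⟩ : Ctx P).map hs
  have e0 : C0.tv = tM := (Ctx.map_tv _ hs).trans he
  obtain ⟨u, hu⟩ := C0.exists_L
  obtain ⟨m, hm, rfl⟩ := eq_uM hP.two_ne hu.1.red.w5 hu.1.red.sq (e0 ▸ hu.2)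
  obtain ⟨k, hk, hkt, hku⟩ := exists_sim_uM hm
  refine ⟨_, C0.map hk, (Ctx.map_tv C0 hk).trans (by rw [e0]; exact hkt), ?_⟩
  have := (C0.inL_map hk).2 hu
  rwa [e0, show kv k tM = tM from hkt, show kv k (uM m) = uM 1 from hku] at this

end CfsgLib.Sp4Odd
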